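/-
Poincaré polynomials, orders and Coxeter elements of the Weyl groups of types
B₂, G₂, D₄, F₄, E₆, E₇, E₈, and of the fixed points of the diagram symmetries.
-/
import Mathlib
import Cfsg.Prelude.Def_ChevStructure
import Cfsg.Agent.H34.Weyl4

set_option autoImplicit false
set_option maxRecDepth 100000
set_option backward.isDefEq.respectTransparency false
set_option synthInstance.maxSize 2000
set_option linter.unusedSimpArgs false

namespace Cfsg.Agent.H34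

open Equiv H40

section
variable {n : ℕ} {Φ : Type*} [Finite Φ] {R : RS (Fin n) Φ} {C : List (List ℤ)}

theorem IsCartan.card_W (hC : IsCartan R C) (N : ℕ) (cs : List (List ℕ × List (List ℤ × ℤ)))
    (h : chkChain n C ((List.range n).map fun i => [i]) (List.range n) N (List.range n) cs = true)
    (m : ℕ) (hm : peval (1 : ℤ) (chainPoly N cs) = m) : Nat.card (sgn R).W = m := by
  have h1 := (sgn R).psum_map (Nat.castRingHom ℤ) (sgn R).W 1
  rw [SignedSys.psum_one, map_one, hC.psum_W N cs h, hm] at h1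
  exact Nat.cast_injective (R := ℤ) h1

theorem IsCartan.card_fixJ (hC : IsCartan R C) {T : (sgn R).Sym} {pl : List ℕ}
    {gw : List (List ℕ)} (hT : IsOrbWords T pl gw) (N : ℕ) (cs : List (List ℕ × List (List ℤ × ℤ)))
    (h : chkChain n C gw pl N (List.range n) cs = true)
    (m : ℕ) (hm : peval (1 : ℤ) (chainPoly N cs) = m) : Nat.card (T.fixJ Set.univ) = m := by
  have h1 := (sgn R).psum_map (Nat.castRingHom ℤ) (T.fixJ Set.univ) 1
  rw [SignedSys.psum_one, map_one, hC.psum_fixJ_univ hT N cs h, hm] at h1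
  exact Nat.cast_injective (R := ℤ) h1

theorem IsCartan.exists_mulEquiv (hC : IsCartan R C) (M : CoxeterMatrix (Fin n))
    (h : ∀ i j : Fin n, 0 < M i j ∧ (List.range (M i j + 1)).all fun k => decide (0 < k →
      ((actE C ((List.replicate k [i, j]).flatten.map Fin.val) (List.replicate n 1, 0)).1 =
        List.replicate n 1 ↔ k = M i j))) :
    ∃ e : (sgn R).W ≃* M.Group, ∀ i, e ((sgn R).sW i) = M.simple i :=
  (sgn R).exists_mulEquiv_coxeter M fun i j => by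
    rw [← hC.orderOf_word [i, j] _ (h i j).1 fun k hk =>
      of_decide_eq_true (List.all_eq_true.1 (h i j).2 k hk)]
    simp [SignedSys.word_cons]

omit [Finite Φ] in
theorem orderOf_prod_simple {M : CoxeterMatrix (Fin n)} (e : (sgn R).W ≃* M.Group)
    (he : ∀ i, e ((sgn R).sW i) = M.simple i) (l : List (Fin n)) :
    orderOf (l.map M.simple).prod = orderOf ((sgn R).word l) := by
  have : (l.map M.simple).prod = e ⟨(sgn R).word l, (sgn R).word_mem_W l⟩ := by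
    induction l with
    | nil => exact (map_one e).symm
    | cons i l ih => rw [List.map_cons, List.prod_cons, ih, ← he, ← map_mul]; rfl
  rw [this, MulEquiv.orderOf_eq, ← Subgroup.orderOf_coe]

theorem IsCartan.isOrbWords (hC : IsCartan R C) (T : (sgn R).Sym) (pl : List ℕ)
    (hpl : ∀ i : Fin n, (T.π i : ℕ) = pl.getD i 0) (gw : List (List ℕ))
    (h3 : ∀ i : Fin n, pl.getD (pl.getD (pl.getD i 0) 0) 0 = i ∨ pl.getD (pl.getD i 0) 0 = i)
    (h : ∀ i : Fin n, (∀ j ∈ gw.getD i [],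
        j = i ∨ j = pl.getD i 0 ∨ j = pl.getD (pl.getD i 0) 0) ∧
      ∀ j ∈ [(i : ℕ), pl.getD i 0, pl.getD (pl.getD i 0) 0],
        (actE C (gw.getD i []).reverse (List.replicate n 1, 0)).1.getD j 0 ≤ 0) :
    IsOrbWords T pl gw where
  pi := hpl
  word i := by
    have horb : ∀ j : Fin n, j ∈ T.orb i ↔
        (j : ℕ) = i ∨ (j : ℕ) = pl.getD i 0 ∨ (j : ℕ) = pl.getD (pl.getD i 0) 0 := by
      intro j
      rw [mem_orb_iff T (fun i => by simpa only [Fin.ext_iff, hpl] using h3 i)]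
      simp only [Fin.ext_iff, hpl]
    have hlt : ∀ j ∈ gw.getD i [], j < n := by
      intro j hj
      rcases (h i).1 j hj with rfl | rfl | rfl
      · exact i.2
      · rw [← hpl]; exact Fin.is_lt _
      · rw [← hpl, ← hpl]; exact Fin.is_lt _
    have hmap : ((gw.getD i []).pmap Fin.mk hlt).map Fin.val = gw.getD i [] := by
      rw [List.map_pmap]; simp
    have hmem : ∀ j ∈ (gw.getD i []).pmap Fin.mk hlt, j ∈ T.orb i := by
      intro j hj
      rw [horb]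
      exact (h i).1 _ (hmap ▸ List.mem_map_of_mem hj)
    refine ⟨_, hmap, hmem, hC.word_eq_wJ _ hmem fun j hj => ?_⟩
    rw [List.map_reverse, hmap]
    exact (h i).2 _ (by simpa using (horb j).1 hj)

end

/-! ### Type B2 -/

/-- The Cartan matrix of type B2. -/
def cartB2 : List (List ℤ) := [[2, -2], [-1, 2]]

/-- Part of an orbit. -/
def chainB2_0_0 : List (List ℤ × ℤ) := [
    ([0,-1],3),([-1,1],2),([1,-1],1),([0,1],0)]

/-- Part of an orbit. -/
def chainB2_1_0 : List (List ℤ × ℤ) := [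
    ([-1,2],1),([1,0],0)]

/-- Orbit certificates. -/
def chainB2 : List (List ℕ × List (List ℤ × ℤ)) :=
  [([0], chainB2_0_0),
  ([], chainB2_1_0)]

theorem chk_chainB2 : chkChain 2 cartB2 ((List.range 2).map fun i => [i]) (List.range 2) 4
    (List.range 2) chainB2 = true := by decide +kernel

section
variable {Φ : Type*} [Finite Φ] {R : RS (Fin 2) Φ}

theorem psum_W_B2 (hC : IsCartan R cartB2) {A : Type*} [CommRing A] (t : A) :
    (t - 1) ^ 2 * (sgn R).psum (sgn R).W t =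
      (t ^ 2 - 1) * (t ^ 4 - 1) := by
  have h := peval_eq_of_peq t (p := pmul (pprod (List.replicate 2 (pbin 1 (-1)))) (chainPoly 4 chainB2))
    (q := pprod ([2, 4].map fun d => pbin d (-1))) (by decide +kernel)
  rw [hC.psum_W 4 chainB2 chk_chainB2]
  simp only [peval_pmul, peval_pprod, peval_pbin, List.map_replicate, List.prod_replicate,
    List.map_cons, List.map_nil, List.prod_cons, List.prod_nil] at h
  push_cast at h
  linear_combination h

theorem card_W_B2 (hC : IsCartan R cartB2) : Nat.card (sgn R).W = 8 :=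
  hC.card_W 4 chainB2 chk_chainB2 _ (by decide +kernel)

theorem exists_mulEquiv_B2 (hC : IsCartan R cartB2) :
    ∃ e : (sgn R).W ≃* (CoxeterMatrix.B 2).Group, ∀ i, e ((sgn R).sW i) = (CoxeterMatrix.B 2).simple i :=
  hC.exists_mulEquiv _ (by decide +kernel)

omit [Finite Φ] in
theorem orderOf_cox_B2 (hC : IsCartan R cartB2) :
    orderOf ((sgn R).word (List.finRange 2)) = 4 :=
  hC.orderOf_word _ _ (by norm_num) (by decide +kernel)

end

/-! ### Type G2 -/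

/-- The Cartan matrix of type G2. -/
def cartG2 : List (List ℤ) := [[2, -3], [-1, 2]]

/-- Part of an orbit. -/
def chainG2_0_0 : List (List ℤ × ℤ) := [
    ([0,-1],5),([-1,1],4),([1,-2],3),([-1,2],2),([1,-1],1),([0,1],0)]

/-- Part of an orbit. -/
def chainG2_1_0 : List (List ℤ × ℤ) := [
    ([-1,3],1),([1,0],0)]

/-- Orbit certificates. -/
def chainG2 : List (List ℕ × List (List ℤ × ℤ)) :=
  [([0], chainG2_0_0),
  ([], chainG2_1_0)]

theorem chk_chainG2 : chkChain 2 cartG2 ((List.range 2).map fun i => [i]) (List.range 2) 6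
    (List.range 2) chainG2 = true := by decide +kernel

section
variable {Φ : Type*} [Finite Φ] {R : RS (Fin 2) Φ}

theorem psum_W_G2 (hC : IsCartan R cartG2) {A : Type*} [CommRing A] (t : A) :
    (t - 1) ^ 2 * (sgn R).psum (sgn R).W t =
      (t ^ 2 - 1) * (t ^ 6 - 1) := by
  have h := peval_eq_of_peq t (p := pmul (pprod (List.replicate 2 (pbin 1 (-1)))) (chainPoly 6 chainG2))
    (q := pprod ([2, 6].map fun d => pbin d (-1))) (by decide +kernel)
  rw [hC.psum_W 6 chainG2 chk_chainG2]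
  simp only [peval_pmul, peval_pprod, peval_pbin, List.map_replicate, List.prod_replicate,
    List.map_cons, List.map_nil, List.prod_cons, List.prod_nil] at h
  push_cast at h
  linear_combination h

theorem card_W_G2 (hC : IsCartan R cartG2) : Nat.card (sgn R).W = 12 :=
  hC.card_W 6 chainG2 chk_chainG2 _ (by decide +kernel)

theorem exists_mulEquiv_G2 (hC : IsCartan R cartG2) :
    ∃ e : (sgn R).W ≃* (CoxeterMatrix.G₂).Group, ∀ i, e ((sgn R).sW i) = (CoxeterMatrix.G₂).simple i :=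
  hC.exists_mulEquiv _ (by decide +kernel)

omit [Finite Φ] in
theorem orderOf_cox_G2 (hC : IsCartan R cartG2) :
    orderOf ((sgn R).word (List.finRange 2)) = 6 :=
  hC.orderOf_word _ _ (by norm_num) (by decide +kernel)

end

/-! ### Type D4 -/

/-- The Cartan matrix of type D4. -/
def cartD4 : List (List ℤ) := [[2, -1, 0, 0], [-1, 2, -1, -1], [0, -1, 2, 0], [0, -1, 0, 2]]

/-- Part of an orbit. -/
def chainD4_0_0 : List (List ℤ × ℤ) := [
    ([0,0,0,-1],6),([0,-1,0,1],5),([-1,1,-1,0],4),([1,0,-1,0],3),([-1,0,1,0],3),([1,-1,1,0],2),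
    ([0,1,0,-1],1),([0,0,0,1],0)]

/-- Part of an orbit. -/
def chainD4_1_0 : List (List ℤ × ℤ) := [
    ([-1,0,0,1],3),([1,-1,0,1],2),([0,1,-1,0],1),([0,0,1,0],0)]

/-- Part of an orbit. -/
def chainD4_2_0 : List (List ℤ × ℤ) := [
    ([-1,0,1,1],2),([1,-1,1,1],1),([0,1,0,0],0)]

/-- Part of an orbit. -/
def chainD4_3_0 : List (List ℤ × ℤ) := [
    ([-1,1,0,0],1),([1,0,0,0],0)]

/-- Orbit certificates. -/
def chainD4 : List (List ℕ × List (List ℤ × ℤ)) :=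
  [([0, 1, 2], chainD4_0_0),
  ([0, 1], chainD4_1_0),
  ([0], chainD4_2_0),
  ([], chainD4_3_0)]

theorem chk_chainD4 : chkChain 4 cartD4 ((List.range 4).map fun i => [i]) (List.range 4) 7
    (List.range 4) chainD4 = true := by decide +kernel

section
variable {Φ : Type*} [Finite Φ] {R : RS (Fin 4) Φ}

theorem psum_W_D4 (hC : IsCartan R cartD4) {A : Type*} [CommRing A] (t : A) :
    (t - 1) ^ 4 * (sgn R).psum (sgn R).W t =
      (t ^ 2 - 1) * (t ^ 4 - 1) * (t ^ 4 - 1) * (t ^ 6 - 1) := by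
  have h := peval_eq_of_peq t (p := pmul (pprod (List.replicate 4 (pbin 1 (-1)))) (chainPoly 7 chainD4))
    (q := pprod ([2, 4, 4, 6].map fun d => pbin d (-1))) (by decide +kernel)
  rw [hC.psum_W 7 chainD4 chk_chainD4]
  simp only [peval_pmul, peval_pprod, peval_pbin, List.map_replicate, List.prod_replicate,
    List.map_cons, List.map_nil, List.prod_cons, List.prod_nil] at h
  push_cast at h
  linear_combination h

theorem card_W_D4 (hC : IsCartan R cartD4) : Nat.card (sgn R).W = 192 :=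
  hC.card_W 7 chainD4 chk_chainD4 _ (by decide +kernel)

theorem exists_mulEquiv_D4 (hC : IsCartan R cartD4) :
    ∃ e : (sgn R).W ≃* (Cfsg.Lie.coxeterD4).Group, ∀ i, e ((sgn R).sW i) = (Cfsg.Lie.coxeterD4).simple i :=
  hC.exists_mulEquiv _ (by decide +kernel)

omit [Finite Φ] in
theorem orderOf_cox_D4 (hC : IsCartan R cartD4) :
    orderOf ((sgn R).word (List.finRange 4)) = 6 :=
  hC.orderOf_word _ _ (by norm_num) (by decide +kernel)

end

/-! ### Type F4 -/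

/-- The Cartan matrix of type F4. -/
def cartF4 : List (List ℤ) := [[2, -1, 0, 0], [-1, 2, -2, 0], [0, -1, 2, -1], [0, 0, -1, 2]]

/-- Part of an orbit. -/
def chainF4_0_0 : List (List ℤ × ℤ) := [
    ([-1,0,0,0],15),([1,-1,0,0],14),([0,1,-2,0],13),([0,-1,2,-2],12),([-1,1,0,-2],11),
    ([0,-1,0,2],11),([1,0,0,-2],10),([-1,1,-2,2],10),([1,0,-2,2],9),([-1,-1,2,0],9),
    ([-2,1,0,0],8),([1,-2,2,0],8),([2,-1,0,0],7),([-1,2,-2,0],7),([1,1,-2,0],6),([-1,0,2,-2],6),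
    ([1,-1,2,-2],5),([-1,0,0,2],5),([0,1,0,-2],4),([1,-1,0,2],4)]

/-- Part of an orbit. -/
def chainF4_0_1 : List (List ℤ × ℤ) := [
    ([0,1,-2,2],3),([0,-1,2,0],2),([-1,1,0,0],1),([1,0,0,0],0)]

/-- Part of an orbit. -/
def chainF4_1_0 : List (List ℤ × ℤ) := [
    ([1,0,0,-1],5),([1,0,-1,1],4),([1,-1,1,0],3),([0,1,-1,0],2),([0,0,1,-1],1),([0,0,0,1],0)]

/-- Part of an orbit. -/
def chainF4_2_0 : List (List ℤ × ℤ) := [
    ([1,0,-1,2],3),([1,-1,1,1],2),([0,1,-1,1],1),([0,0,1,0],0)]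

/-- Part of an orbit. -/
def chainF4_3_0 : List (List ℤ × ℤ) := [
    ([1,-1,2,0],1),([0,1,0,0],0)]

/-- Orbit certificates. -/
def chainF4 : List (List ℕ × List (List ℤ × ℤ)) :=
  [([1, 2, 3], chainF4_0_0 ++ (chainF4_0_1)),
  ([1, 2], chainF4_1_0),
  ([1], chainF4_2_0),
  ([], chainF4_3_0)]

theorem chk_chainF4 : chkChain 4 cartF4 ((List.range 4).map fun i => [i]) (List.range 4) 16
    (List.range 4) chainF4 = true := by decide +kernel

section
variable {Φ : Type*} [Finite Φ] {R : RS (Fin 4) Φ}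

theorem psum_W_F4 (hC : IsCartan R cartF4) {A : Type*} [CommRing A] (t : A) :
    (t - 1) ^ 4 * (sgn R).psum (sgn R).W t =
      (t ^ 2 - 1) * (t ^ 6 - 1) * (t ^ 8 - 1) * (t ^ 12 - 1) := by
  have h := peval_eq_of_peq t (p := pmul (pprod (List.replicate 4 (pbin 1 (-1)))) (chainPoly 16 chainF4))
    (q := pprod ([2, 6, 8, 12].map fun d => pbin d (-1))) (by decide +kernel)
  rw [hC.psum_W 16 chainF4 chk_chainF4]
  simp only [peval_pmul, peval_pprod, peval_pbin, List.map_replicate, List.prod_replicate,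
    List.map_cons, List.map_nil, List.prod_cons, List.prod_nil] at h
  push_cast at h
  linear_combination h

theorem card_W_F4 (hC : IsCartan R cartF4) : Nat.card (sgn R).W = 1152 :=
  hC.card_W 16 chainF4 chk_chainF4 _ (by decide +kernel)

theorem exists_mulEquiv_F4 (hC : IsCartan R cartF4) :
    ∃ e : (sgn R).W ≃* (CoxeterMatrix.F₄).Group, ∀ i, e ((sgn R).sW i) = (CoxeterMatrix.F₄).simple i :=
  hC.exists_mulEquiv _ (by decide +kernel)

omit [Finite Φ] in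
theorem orderOf_cox_F4 (hC : IsCartan R cartF4) :
    orderOf ((sgn R).word (List.finRange 4)) = 12 :=
  hC.orderOf_word _ _ (by norm_num) (by decide +kernel)

end

/-! ### Type E6 -/

/-- The Cartan matrix of type E6. -/
def cartE6 : List (List ℤ) := [[2, 0, -1, 0, 0, 0], [0, 2, 0, -1, 0, 0], [-1, 0, 2, -1, 0, 0], [0, -1, -1, 2, -1, 0], [0, 0, 0, -1, 2, -1], [0, 0, 0, 0, -1, 2]]

/-- Part of an orbit. -/
def chainE6_0_0 : List (List ℤ × ℤ) := [
    ([-1,0,0,0,0,0],16),([1,0,-1,0,0,0],15),([0,0,1,-1,0,0],14),([0,-1,0,1,-1,0],13),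
    ([0,1,0,0,-1,0],12),([0,-1,0,0,1,-1],12),([0,1,0,-1,1,-1],11),([0,-1,0,0,0,1],11),
    ([0,0,-1,1,0,-1],10),([0,1,0,-1,0,1],10),([-1,0,1,0,0,-1],9),([0,0,-1,1,-1,1],9),
    ([1,0,0,0,0,-1],8),([-1,0,1,0,-1,1],8),([0,0,-1,0,1,0],8),([1,0,0,0,-1,1],7),
    ([-1,0,1,-1,1,0],7),([1,0,0,-1,1,0],6),([-1,-1,0,1,0,0],6),([-1,1,0,0,0,0],5)]

/-- Part of an orbit. -/
def chainE6_0_1 : List (List ℤ × ℤ) := [
    ([1,-1,-1,1,0,0],5),([1,1,-1,0,0,0],4),([0,-1,1,0,0,0],4),([0,1,1,-1,0,0],3),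
    ([0,0,0,1,-1,0],2),([0,0,0,0,1,-1],1),([0,0,0,0,0,1],0)]

/-- Part of an orbit. -/
def chainE6_1_0 : List (List ℤ × ℤ) := [
    ([0,-1,0,0,0,2],10),([0,1,0,-1,0,2],9),([0,0,-1,1,-1,2],8),([-1,0,1,0,-1,2],7),
    ([0,0,-1,0,1,1],7),([1,0,0,0,-1,2],6),([-1,0,1,-1,1,1],6),([1,0,0,-1,1,1],5),
    ([-1,-1,0,1,0,1],5),([-1,1,0,0,0,1],4),([1,-1,-1,1,0,1],4),([1,1,-1,0,0,1],3),
    ([0,-1,1,0,0,1],3),([0,1,1,-1,0,1],2),([0,0,0,1,-1,1],1),([0,0,0,0,1,0],0)]

/-- Part of an orbit. -/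
def chainE6_2_0 : List (List ℤ × ℤ) := [
    ([0,0,-1,0,2,0],6),([-1,0,1,-1,2,0],5),([1,0,0,-1,2,0],4),([-1,-1,0,1,1,0],4),
    ([-1,1,0,0,1,0],3),([1,-1,-1,1,1,0],3),([1,1,-1,0,1,0],2),([0,-1,1,0,1,0],2),
    ([0,1,1,-1,1,0],1),([0,0,0,1,0,0],0)]

/-- Part of an orbit. -/
def chainE6_3_0 : List (List ℤ × ℤ) := [
    ([-1,0,0,1,0,0],2),([1,0,-1,1,0,0],1),([0,0,1,0,0,0],0)]

/-- Part of an orbit. -/
def chainE6_4_0 : List (List ℤ × ℤ) := [
    ([0,-1,0,1,0,0],1),([0,1,0,0,0,0],0)]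

/-- Part of an orbit. -/
def chainE6_5_0 : List (List ℤ × ℤ) := [
    ([-1,0,1,0,0,0],1),([1,0,0,0,0,0],0)]

/-- Orbit certificates. -/
def chainE6 : List (List ℕ × List (List ℤ × ℤ)) :=
  [([0, 1, 2, 3, 4], chainE6_0_0 ++ (chainE6_0_1)),
  ([0, 1, 2, 3], chainE6_1_0),
  ([0, 1, 2], chainE6_2_0),
  ([0, 1], chainE6_3_0),
  ([0], chainE6_4_0),
  ([], chainE6_5_0)]

theorem chk_chainE6 : chkChain 6 cartE6 ((List.range 6).map fun i => [i]) (List.range 6) 17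
    (List.range 6) chainE6 = true := by decide +kernel

section
variable {Φ : Type*} [Finite Φ] {R : RS (Fin 6) Φ}

theorem psum_W_E6 (hC : IsCartan R cartE6) {A : Type*} [CommRing A] (t : A) :
    (t - 1) ^ 6 * (sgn R).psum (sgn R).W t =
      (t ^ 2 - 1) * (t ^ 5 - 1) * (t ^ 6 - 1) * (t ^ 8 - 1) * (t ^ 9 - 1) * (t ^ 12 - 1) := by
  have h := peval_eq_of_peq t (p := pmul (pprod (List.replicate 6 (pbin 1 (-1)))) (chainPoly 17 chainE6))
    (q := pprod ([2, 5, 6, 8, 9, 12].map fun d => pbin d (-1))) (by decide +kernel)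
  rw [hC.psum_W 17 chainE6 chk_chainE6]
  simp only [peval_pmul, peval_pprod, peval_pbin, List.map_replicate, List.prod_replicate,
    List.map_cons, List.map_nil, List.prod_cons, List.prod_nil] at h
  push_cast at h
  linear_combination h

theorem card_W_E6 (hC : IsCartan R cartE6) : Nat.card (sgn R).W = 51840 :=
  hC.card_W 17 chainE6 chk_chainE6 _ (by decide +kernel)

theorem exists_mulEquiv_E6 (hC : IsCartan R cartE6) :
    ∃ e : (sgn R).W ≃* (CoxeterMatrix.E₆).Group, ∀ i, e ((sgn R).sW i) = (CoxeterMatrix.E₆).simple i :=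
  hC.exists_mulEquiv _ (by decide +kernel)

omit [Finite Φ] in
theorem orderOf_cox_E6 (hC : IsCartan R cartE6) :
    orderOf ((sgn R).word (List.finRange 6)) = 12 :=
  hC.orderOf_word _ _ (by norm_num) (by decide +kernel)

end

/-! ### Type E7 -/

/-- The Cartan matrix of type E7. -/
def cartE7 : List (List ℤ) := [[2, 0, -1, 0, 0, 0, 0], [0, 2, 0, -1, 0, 0, 0], [-1, 0, 2, -1, 0, 0, 0], [0, -1, -1, 2, -1, 0, 0], [0, 0, 0, -1, 2, -1, 0], [0, 0, 0, 0, -1, 2, -1], [0, 0, 0, 0, 0, -1, 2]]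

/-- Part of an orbit. -/
def chainE7_0_0 : List (List ℤ × ℤ) := [
    ([0,0,0,0,0,0,-1],27),([0,0,0,0,0,-1,1],26),([0,0,0,0,-1,1,0],25),([0,0,0,-1,1,0,0],24),
    ([0,-1,-1,1,0,0,0],23),([0,1,-1,0,0,0,0],22),([-1,-1,1,0,0,0,0],22),([1,-1,0,0,0,0,0],21),
    ([-1,1,1,-1,0,0,0],21),([1,1,0,-1,0,0,0],20),([-1,0,0,1,-1,0,0],20),([1,0,-1,1,-1,0,0],19),
    ([-1,0,0,0,1,-1,0],19),([0,0,1,0,-1,0,0],18),([1,0,-1,0,1,-1,0],18),([-1,0,0,0,0,1,-1],18),
    ([0,0,1,-1,1,-1,0],17),([1,0,-1,0,0,1,-1],17),([-1,0,0,0,0,0,1],17),([0,-1,0,1,0,-1,0],16)]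

/-- Part of an orbit. -/
def chainE7_0_1 : List (List ℤ × ℤ) := [
    ([0,0,1,-1,0,1,-1],16),([1,0,-1,0,0,0,1],16),([0,1,0,0,0,-1,0],15),([0,-1,0,1,-1,1,-1],15),
    ([0,0,1,-1,0,0,1],15),([0,1,0,0,-1,1,-1],14),([0,-1,0,0,1,0,-1],14),([0,-1,0,1,-1,0,1],14),
    ([0,1,0,-1,1,0,-1],13),([0,1,0,0,-1,0,1],13),([0,-1,0,0,1,-1,1],13),([0,0,-1,1,0,0,-1],12),
    ([0,1,0,-1,1,-1,1],12),([0,-1,0,0,0,1,0],12),([-1,0,1,0,0,0,-1],11),([0,0,-1,1,0,-1,1],11),
    ([0,1,0,-1,0,1,0],11),([1,0,0,0,0,0,-1],10),([-1,0,1,0,0,-1,1],10),([0,0,-1,1,-1,1,0],10)]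

/-- Part of an orbit. -/
def chainE7_0_2 : List (List ℤ × ℤ) := [
    ([1,0,0,0,0,-1,1],9),([-1,0,1,0,-1,1,0],9),([0,0,-1,0,1,0,0],9),([1,0,0,0,-1,1,0],8),
    ([-1,0,1,-1,1,0,0],8),([1,0,0,-1,1,0,0],7),([-1,-1,0,1,0,0,0],7),([-1,1,0,0,0,0,0],6),
    ([1,-1,-1,1,0,0,0],6),([1,1,-1,0,0,0,0],5),([0,-1,1,0,0,0,0],5),([0,1,1,-1,0,0,0],4),
    ([0,0,0,1,-1,0,0],3),([0,0,0,0,1,-1,0],2),([0,0,0,0,0,1,-1],1),([0,0,0,0,0,0,1],0)]

/-- Part of an orbit. -/
def chainE7_1_0 : List (List ℤ × ℤ) := [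
    ([-1,0,0,0,0,0,2],16),([1,0,-1,0,0,0,2],15),([0,0,1,-1,0,0,2],14),([0,-1,0,1,-1,0,2],13),
    ([0,1,0,0,-1,0,2],12),([0,-1,0,0,1,-1,2],12),([0,1,0,-1,1,-1,2],11),([0,-1,0,0,0,1,1],11),
    ([0,0,-1,1,0,-1,2],10),([0,1,0,-1,0,1,1],10),([-1,0,1,0,0,-1,2],9),([0,0,-1,1,-1,1,1],9),
    ([1,0,0,0,0,-1,2],8),([-1,0,1,0,-1,1,1],8),([0,0,-1,0,1,0,1],8),([1,0,0,0,-1,1,1],7),
    ([-1,0,1,-1,1,0,1],7),([1,0,0,-1,1,0,1],6),([-1,-1,0,1,0,0,1],6),([-1,1,0,0,0,0,1],5)]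

/-- Part of an orbit. -/
def chainE7_1_1 : List (List ℤ × ℤ) := [
    ([1,-1,-1,1,0,0,1],5),([1,1,-1,0,0,0,1],4),([0,-1,1,0,0,0,1],4),([0,1,1,-1,0,0,1],3),
    ([0,0,0,1,-1,0,1],2),([0,0,0,0,1,-1,1],1),([0,0,0,0,0,1,0],0)]

/-- Part of an orbit. -/
def chainE7_2_0 : List (List ℤ × ℤ) := [
    ([0,-1,0,0,0,2,0],10),([0,1,0,-1,0,2,0],9),([0,0,-1,1,-1,2,0],8),([-1,0,1,0,-1,2,0],7),
    ([0,0,-1,0,1,1,0],7),([1,0,0,0,-1,2,0],6),([-1,0,1,-1,1,1,0],6),([1,0,0,-1,1,1,0],5),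
    ([-1,-1,0,1,0,1,0],5),([-1,1,0,0,0,1,0],4),([1,-1,-1,1,0,1,0],4),([1,1,-1,0,0,1,0],3),
    ([0,-1,1,0,0,1,0],3),([0,1,1,-1,0,1,0],2),([0,0,0,1,-1,1,0],1),([0,0,0,0,1,0,0],0)]

/-- Part of an orbit. -/
def chainE7_3_0 : List (List ℤ × ℤ) := [
    ([0,0,-1,0,2,0,0],6),([-1,0,1,-1,2,0,0],5),([1,0,0,-1,2,0,0],4),([-1,-1,0,1,1,0,0],4),
    ([-1,1,0,0,1,0,0],3),([1,-1,-1,1,1,0,0],3),([1,1,-1,0,1,0,0],2),([0,-1,1,0,1,0,0],2),
    ([0,1,1,-1,1,0,0],1),([0,0,0,1,0,0,0],0)]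

/-- Part of an orbit. -/
def chainE7_4_0 : List (List ℤ × ℤ) := [
    ([-1,0,0,1,0,0,0],2),([1,0,-1,1,0,0,0],1),([0,0,1,0,0,0,0],0)]

/-- Part of an orbit. -/
def chainE7_5_0 : List (List ℤ × ℤ) := [
    ([0,-1,0,1,0,0,0],1),([0,1,0,0,0,0,0],0)]

/-- Part of an orbit. -/
def chainE7_6_0 : List (List ℤ × ℤ) := [
    ([-1,0,1,0,0,0,0],1),([1,0,0,0,0,0,0],0)]

/-- Orbit certificates. -/
def chainE7 : List (List ℕ × List (List ℤ × ℤ)) :=
  [([0, 1, 2, 3, 4, 5], chainE7_0_0 ++ (chainE7_0_1 ++ (chainE7_0_2))),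
  ([0, 1, 2, 3, 4], chainE7_1_0 ++ (chainE7_1_1)),
  ([0, 1, 2, 3], chainE7_2_0),
  ([0, 1, 2], chainE7_3_0),
  ([0, 1], chainE7_4_0),
  ([0], chainE7_5_0),
  ([], chainE7_6_0)]

theorem chk_chainE7 : chkChain 7 cartE7 ((List.range 7).map fun i => [i]) (List.range 7) 28
    (List.range 7) chainE7 = true := by decide +kernel

section
variable {Φ : Type*} [Finite Φ] {R : RS (Fin 7) Φ}

theorem psum_W_E7 (hC : IsCartan R cartE7) {A : Type*} [CommRing A] (t : A) :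
    (t - 1) ^ 7 * (sgn R).psum (sgn R).W t =
      (t ^ 2 - 1) * (t ^ 6 - 1) * (t ^ 8 - 1) * (t ^ 10 - 1) * (t ^ 12 - 1) * (t ^ 14 - 1) * (t ^ 18 - 1) := by
  have h := peval_eq_of_peq t (p := pmul (pprod (List.replicate 7 (pbin 1 (-1)))) (chainPoly 28 chainE7))
    (q := pprod ([2, 6, 8, 10, 12, 14, 18].map fun d => pbin d (-1))) (by decide +kernel)
  rw [hC.psum_W 28 chainE7 chk_chainE7]
  simp only [peval_pmul, peval_pprod, peval_pbin, List.map_replicate, List.prod_replicate,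
    List.map_cons, List.map_nil, List.prod_cons, List.prod_nil] at h
  push_cast at h
  linear_combination h

theorem card_W_E7 (hC : IsCartan R cartE7) : Nat.card (sgn R).W = 2903040 :=
  hC.card_W 28 chainE7 chk_chainE7 _ (by decide +kernel)

theorem exists_mulEquiv_E7 (hC : IsCartan R cartE7) :
    ∃ e : (sgn R).W ≃* (CoxeterMatrix.E₇).Group, ∀ i, e ((sgn R).sW i) = (CoxeterMatrix.E₇).simple i :=
  hC.exists_mulEquiv _ (by decide +kernel)

omit [Finite Φ] in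
theorem orderOf_cox_E7 (hC : IsCartan R cartE7) :
    orderOf ((sgn R).word (List.finRange 7)) = 18 :=
  hC.orderOf_word _ _ (by norm_num) (by decide +kernel)

end

/-! ### The diagram symmetry of type E6 -/

/-- The diagram symmetry of type E6 on the indices. -/
def symE6 : List ℕ := [5, 1, 4, 3, 2, 0]

/-- Words for the longest elements of the orbits. -/
def orbwE6 : List (List ℕ) := [[0, 5], [1], [2, 4], [3], [2, 4], [0, 5]]

/-- Part of an orbit. -/
def tchainE6_0_0 : List (List ℤ × ℤ) := [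
    ([-1,0,0,0,0,-1],24),([1,0,-1,0,-1,1],22),([0,0,1,-2,1,0],20),([0,-2,-1,2,-1,0],19),
    ([0,2,-1,0,-1,0],18),([-1,-2,1,0,1,-1],17),([1,-2,0,0,0,1],15),([-1,2,1,-2,1,-1],16),
    ([1,2,0,-2,0,1],14),([-1,0,-1,2,-1,-1],15),([-2,0,1,0,1,-2],13),([1,0,-2,2,-2,1],13),
    ([2,0,-1,0,-1,2],11),([-1,0,2,-2,2,-1],11),([1,0,1,-2,1,1],9),([-1,-2,0,2,0,-1],10),
    ([-1,2,0,0,0,-1],9),([1,-2,-1,2,-1,1],8),([1,2,-1,0,-1,1],7),([0,-2,1,0,1,0],6)]

/-- Part of an orbit. -/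
def tchainE6_0_1 : List (List ℤ × ℤ) := [
    ([0,2,1,-2,1,0],5),([0,0,-1,2,-1,0],4),([-1,0,1,0,1,-1],2),([1,0,0,0,0,1],0)]

/-- Part of an orbit. -/
def tchainE6_1_0 : List (List ℤ × ℤ) := [
    ([3,0,-1,0,-1,3],9),([2,0,1,-2,1,2],7),([2,-2,-1,2,-1,2],6),([2,2,-1,0,-1,2],5),
    ([1,-2,1,0,1,1],4),([1,2,1,-2,1,1],3),([1,0,-1,2,-1,1],2),([0,0,1,0,1,0],0)]

/-- Part of an orbit. -/
def tchainE6_2_0 : List (List ℤ × ℤ) := [
    ([0,-1,1,0,1,0],2),([0,1,1,-1,1,0],1),([0,0,0,1,0,0],0)]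

/-- Part of an orbit. -/
def tchainE6_3_0 : List (List ℤ × ℤ) := [
    ([0,-1,0,1,0,0],1),([0,1,0,0,0,0],0)]

/-- Orbit certificates. -/
def tchainE6 : List (List ℕ × List (List ℤ × ℤ)) :=
  [([1, 2, 3, 4], tchainE6_0_0 ++ (tchainE6_0_1)),
  ([1, 3], tchainE6_1_0),
  ([1], tchainE6_2_0),
  ([], tchainE6_3_0)]

theorem chk_tchainE6 : chkChain 6 cartE6 orbwE6 symE6 25 (List.range 6) tchainE6 = true := by
  decide +kernel

section
variable {Φ : Type*} [Finite Φ] {R : RS (Fin 6) Φ}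

theorem isOrbWords_E6 (hC : IsCartan R cartE6) (T : (sgn R).Sym)
    (hT : ∀ i : Fin 6, (T.π i : ℕ) = symE6.getD i 0) : IsOrbWords T symE6 orbwE6 :=
  hC.isOrbWords T _ hT _ (by decide +kernel) (by decide +kernel)

theorem psum_fix_E6 (hC : IsCartan R cartE6) (T : (sgn R).Sym)
    (hT : ∀ i : Fin 6, (T.π i : ℕ) = symE6.getD i 0) {A : Type*} [CommRing A] (t : A) :
    (t - 1) ^ 2 * (t ^ 2 - 1) ^ 2 * (sgn R).psum (T.fixJ Set.univ) t =
      (t ^ 2 - 1) * (t ^ 5 + 1) * (t ^ 6 - 1) * (t ^ 8 - 1) * (t ^ 9 + 1) * (t ^ 12 - 1) := by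
  have h := peval_eq_of_peq t (p := pmul (pprod [pbin 1 (-1), pbin 1 (-1), pbin 2 (-1), pbin 2 (-1)]) (chainPoly 25 tchainE6))
    (q := pprod [pbin 2 (-1), pbin 5 1, pbin 6 (-1), pbin 8 (-1), pbin 9 1, pbin 12 (-1)]) (by decide +kernel)
  rw [hC.psum_fixJ_univ (isOrbWords_E6 hC T hT) 25 tchainE6 chk_tchainE6]
  simp only [peval_pmul, peval_pprod, peval_pbin, peval_padd, peval_pmon,
    List.map_cons, List.map_nil, List.prod_cons, List.prod_nil] at h
  push_cast at h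
  linear_combination h

theorem card_fix_E6 (hC : IsCartan R cartE6) (T : (sgn R).Sym)
    (hT : ∀ i : Fin 6, (T.π i : ℕ) = symE6.getD i 0) : Nat.card (T.fixJ Set.univ) = 1152 :=
  hC.card_fixJ (isOrbWords_E6 hC T hT) 25 tchainE6 chk_tchainE6 _ (by decide +kernel)

end

/-! ### The diagram symmetry of type D4 -/

/-- The diagram symmetry of type D4 on the indices. -/
def symD4 : List ℕ := [2, 1, 3, 0]

/-- Words for the longest elements of the orbits. -/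
def orbwD4 : List (List ℕ) := [[0, 2, 3], [1], [0, 2, 3], [0, 2, 3]]

/-- Part of an orbit. -/
def tchainD4_0_0 : List (List ℤ × ℤ) := [
    ([-1,0,-1,-1],11),([1,-3,1,1],8),([-2,3,-2,-2],7),([2,-3,2,2],4),([-1,3,-1,-1],3),
    ([1,0,1,1],0)]

/-- Part of an orbit. -/
def tchainD4_1_0 : List (List ℤ × ℤ) := [
    ([1,-1,1,1],1),([0,1,0,0],0)]

/-- Orbit certificates. -/
def tchainD4 : List (List ℕ × List (List ℤ × ℤ)) :=
  [([1], tchainD4_0_0),
  ([], tchainD4_1_0)]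

theorem chk_tchainD4 : chkChain 4 cartD4 orbwD4 symD4 12 (List.range 4) tchainD4 = true := by
  decide +kernel

section
variable {Φ : Type*} [Finite Φ] {R : RS (Fin 4) Φ}

theorem isOrbWords_D4 (hC : IsCartan R cartD4) (T : (sgn R).Sym)
    (hT : ∀ i : Fin 4, (T.π i : ℕ) = symD4.getD i 0) : IsOrbWords T symD4 orbwD4 :=
  hC.isOrbWords T _ hT _ (by decide +kernel) (by decide +kernel)

theorem psum_fix_D4 (hC : IsCartan R cartD4) (T : (sgn R).Sym)
    (hT : ∀ i : Fin 4, (T.π i : ℕ) = symD4.getD i 0) {A : Type*} [CommRing A] (t : A) :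
    (t - 1) * (t ^ 3 - 1) * (sgn R).psum (T.fixJ Set.univ) t =
      (t ^ 2 - 1) * (t ^ 6 - 1) * (t ^ 8 + t ^ 4 + 1) := by
  have h := peval_eq_of_peq t (p := pmul (pprod [pbin 1 (-1), pbin 3 (-1)]) (chainPoly 12 tchainD4))
    (q := pprod [pbin 2 (-1), pbin 6 (-1), padd (pmon 8) (pbin 4 1)]) (by decide +kernel)
  rw [hC.psum_fixJ_univ (isOrbWords_D4 hC T hT) 12 tchainD4 chk_tchainD4]
  simp only [peval_pmul, peval_pprod, peval_pbin, peval_padd, peval_pmon,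
    List.map_cons, List.map_nil, List.prod_cons, List.prod_nil] at h
  push_cast at h
  linear_combination h

theorem card_fix_D4 (hC : IsCartan R cartD4) (T : (sgn R).Sym)
    (hT : ∀ i : Fin 4, (T.π i : ℕ) = symD4.getD i 0) : Nat.card (T.fixJ Set.univ) = 12 :=
  hC.card_fixJ (isOrbWords_D4 hC T hT) 12 tchainD4 chk_tchainD4 _ (by decide +kernel)

end

/-! ### The diagram symmetry of type F4 -/

/-- The diagram symmetry of type F4 on the indices. -/
def symF4 : List ℕ := [3, 2, 1, 0]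

/-- Words for the longest elements of the orbits. -/
def orbwF4 : List (List ℕ) := [[0, 3], [1, 2, 1, 2], [1, 2, 1, 2], [0, 3]]

/-- Part of an orbit. -/
def tchainF4_0_0 : List (List ℤ × ℤ) := [
    ([-1,0,0,-1],20),([1,-1,-1,1],18),([-2,1,1,-3],14),([2,-1,-2,3],12),([-2,1,2,-3],8),
    ([2,-1,-1,3],6),([-1,1,1,-1],2),([1,0,0,1],0)]

/-- Part of an orbit. -/
def tchainF4_1_0 : List (List ℤ × ℤ) := [
    ([3,-1,-1,4],4),([0,1,1,0],0)]

/-- Orbit certificates. -/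
def tchainF4 : List (List ℕ × List (List ℤ × ℤ)) :=
  [([1, 2], tchainF4_0_0),
  ([], tchainF4_1_0)]

theorem chk_tchainF4 : chkChain 4 cartF4 orbwF4 symF4 21 (List.range 4) tchainF4 = true := by
  decide +kernel

section
variable {Φ : Type*} [Finite Φ] {R : RS (Fin 4) Φ}

theorem isOrbWords_F4 (hC : IsCartan R cartF4) (T : (sgn R).Sym)
    (hT : ∀ i : Fin 4, (T.π i : ℕ) = symF4.getD i 0) : IsOrbWords T symF4 orbwF4 :=
  hC.isOrbWords T _ hT _ (by decide +kernel) (by decide +kernel)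

theorem psum_fix_F4 (hC : IsCartan R cartF4) (T : (sgn R).Sym)
    (hT : ∀ i : Fin 4, (T.π i : ℕ) = symF4.getD i 0) {A : Type*} [CommRing A] (t : A) :
    (t ^ 2 - 1) ^ 2 * (sgn R).psum (T.fixJ Set.univ) t =
      (t ^ 12 + 1) * (t ^ 8 - 1) * (t ^ 6 + 1) * (t ^ 2 - 1) := by
  have h := peval_eq_of_peq t (p := pmul (pprod [pbin 2 (-1), pbin 2 (-1)]) (chainPoly 21 tchainF4))
    (q := pprod [pbin 12 1, pbin 8 (-1), pbin 6 1, pbin 2 (-1)]) (by decide +kernel)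
  rw [hC.psum_fixJ_univ (isOrbWords_F4 hC T hT) 21 tchainF4 chk_tchainF4]
  simp only [peval_pmul, peval_pprod, peval_pbin, peval_padd, peval_pmon,
    List.map_cons, List.map_nil, List.prod_cons, List.prod_nil] at h
  push_cast at h
  linear_combination h

theorem card_fix_F4 (hC : IsCartan R cartF4) (T : (sgn R).Sym)
    (hT : ∀ i : Fin 4, (T.π i : ℕ) = symF4.getD i 0) : Nat.card (T.fixJ Set.univ) = 16 :=
  hC.card_fixJ (isOrbWords_F4 hC T hT) 21 tchainF4 chk_tchainF4 _ (by decide +kernel)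

end

/-! ### The diagram symmetry of type G2 -/

/-- The diagram symmetry of type G2 on the indices. -/
def symG2 : List ℕ := [1, 0]

/-- Words for the longest elements of the orbits. -/
def orbwG2 : List (List ℕ) := [[0, 1, 0, 1, 0, 1], [0, 1, 0, 1, 0, 1]]

/-- Part of an orbit. -/
def tchainG2_0_0 : List (List ℤ × ℤ) := [
    ([-1,-1],6),([1,1],0)]

/-- Orbit certificates. -/
def tchainG2 : List (List ℕ × List (List ℤ × ℤ)) :=
  [([], tchainG2_0_0)]

theorem chk_tchainG2 : chkChain 2 cartG2 orbwG2 symG2 7 (List.range 2) tchainG2 = true := by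
  decide +kernel

section
variable {Φ : Type*} [Finite Φ] {R : RS (Fin 2) Φ}

theorem isOrbWords_G2 (hC : IsCartan R cartG2) (T : (sgn R).Sym)
    (hT : ∀ i : Fin 2, (T.π i : ℕ) = symG2.getD i 0) : IsOrbWords T symG2 orbwG2 :=
  hC.isOrbWords T _ hT _ (by decide +kernel) (by decide +kernel)

theorem psum_fix_G2 (hC : IsCartan R cartG2) (T : (sgn R).Sym)
    (hT : ∀ i : Fin 2, (T.π i : ℕ) = symG2.getD i 0) {A : Type*} [CommRing A] (t : A) :
    1 * (sgn R).psum (T.fixJ Set.univ) t =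
      t ^ 6 + 1 := by
  have h := peval_eq_of_peq t (p := pmul (pprod []) (chainPoly 7 tchainG2))
    (q := pprod [pbin 6 1]) (by decide +kernel)
  rw [hC.psum_fixJ_univ (isOrbWords_G2 hC T hT) 7 tchainG2 chk_tchainG2]
  simp only [peval_pmul, peval_pprod, peval_pbin, peval_padd, peval_pmon,
    List.map_cons, List.map_nil, List.prod_cons, List.prod_nil] at h
  push_cast at h
  linear_combination h

theorem card_fix_G2 (hC : IsCartan R cartG2) (T : (sgn R).Sym)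
    (hT : ∀ i : Fin 2, (T.π i : ℕ) = symG2.getD i 0) : Nat.card (T.fixJ Set.univ) = 2 :=
  hC.card_fixJ (isOrbWords_G2 hC T hT) 7 tchainG2 chk_tchainG2 _ (by decide +kernel)

end

/-! ### The diagram symmetry of type B2 -/

/-- The diagram symmetry of type B2 on the indices. -/
def symB2 : List ℕ := [1, 0]

/-- Words for the longest elements of the orbits. -/
def orbwB2 : List (List ℕ) := [[0, 1, 0, 1], [0, 1, 0, 1]]

/-- Part of an orbit. -/
def tchainB2_0_0 : List (List ℤ × ℤ) := [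
    ([-1,-1],4),([1,1],0)]

/-- Orbit certificates. -/
def tchainB2 : List (List ℕ × List (List ℤ × ℤ)) :=
  [([], tchainB2_0_0)]

theorem chk_tchainB2 : chkChain 2 cartB2 orbwB2 symB2 5 (List.range 2) tchainB2 = true := by
  decide +kernel

section
variable {Φ : Type*} [Finite Φ] {R : RS (Fin 2) Φ}

theorem isOrbWords_B2 (hC : IsCartan R cartB2) (T : (sgn R).Sym)
    (hT : ∀ i : Fin 2, (T.π i : ℕ) = symB2.getD i 0) : IsOrbWords T symB2 orbwB2 :=
  hC.isOrbWords T _ hT _ (by decide +kernel) (by decide +kernel)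

theorem psum_fix_B2 (hC : IsCartan R cartB2) (T : (sgn R).Sym)
    (hT : ∀ i : Fin 2, (T.π i : ℕ) = symB2.getD i 0) {A : Type*} [CommRing A] (t : A) :
    1 * (sgn R).psum (T.fixJ Set.univ) t =
      t ^ 4 + 1 := by
  have h := peval_eq_of_peq t (p := pmul (pprod []) (chainPoly 5 tchainB2))
    (q := pprod [pbin 4 1]) (by decide +kernel)
  rw [hC.psum_fixJ_univ (isOrbWords_B2 hC T hT) 5 tchainB2 chk_tchainB2]
  simp only [peval_pmul, peval_pprod, peval_pbin, peval_padd, peval_pmon,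
    List.map_cons, List.map_nil, List.prod_cons, List.prod_nil] at h
  push_cast at h
  linear_combination h

theorem card_fix_B2 (hC : IsCartan R cartB2) (T : (sgn R).Sym)
    (hT : ∀ i : Fin 2, (T.π i : ℕ) = symB2.getD i 0) : Nat.card (T.fixJ Set.univ) = 2 :=
  hC.card_fixJ (isOrbWords_B2 hC T hT) 5 tchainB2 chk_tchainB2 _ (by decide +kernel)

end

end Cfsg.Agent.H34
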