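/-
Poincaré polynomial, order and Coxeter element of the Weyl group of type E₈.
-/
import Mathlib
import Cfsg.Agent.H34.Weyl5

set_option autoImplicit false
set_option maxRecDepth 100000
set_option backward.isDefEq.respectTransparency false
set_option synthInstance.maxSize 2000
set_option linter.unusedSimpArgs false

namespace Cfsg.Agent.H34

open Equiv H40

/-! ### Type E8 -/

/-- The Cartan matrix of type E8. -/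
def cartE8 : List (List ℤ) := [[2, 0, -1, 0, 0, 0, 0, 0], [0, 2, 0, -1, 0, 0, 0, 0], [-1, 0, 2, -1, 0, 0, 0, 0], [0, -1, -1, 2, -1, 0, 0, 0], [0, 0, 0, -1, 2, -1, 0, 0], [0, 0, 0, 0, -1, 2, -1, 0], [0, 0, 0, 0, 0, -1, 2, -1], [0, 0, 0, 0, 0, 0, -1, 2]]

/-- Part of an orbit. -/
def chainE8_0_0 : List (List ℤ × ℤ) := [
    ([0,0,0,0,0,0,0,-1],57),([0,0,0,0,0,0,-1,1],56),([0,0,0,0,0,-1,1,0],55),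
    ([0,0,0,0,-1,1,0,0],54),([0,0,0,-1,1,0,0,0],53),([0,-1,-1,1,0,0,0,0],52),
    ([0,1,-1,0,0,0,0,0],51),([-1,-1,1,0,0,0,0,0],51),([1,-1,0,0,0,0,0,0],50),
    ([-1,1,1,-1,0,0,0,0],50),([1,1,0,-1,0,0,0,0],49),([-1,0,0,1,-1,0,0,0],49),
    ([1,0,-1,1,-1,0,0,0],48),([-1,0,0,0,1,-1,0,0],48),([0,0,1,0,-1,0,0,0],47),
    ([1,0,-1,0,1,-1,0,0],47),([-1,0,0,0,0,1,-1,0],47),([0,0,1,-1,1,-1,0,0],46),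
    ([1,0,-1,0,0,1,-1,0],46),([-1,0,0,0,0,0,1,-1],46)]

/-- Part of an orbit. -/
def chainE8_0_1 : List (List ℤ × ℤ) := [
    ([-1,0,0,0,0,0,0,1],45),([0,-1,0,1,0,-1,0,0],45),([0,0,1,-1,0,1,-1,0],45),
    ([1,0,-1,0,0,0,1,-1],45),([1,0,-1,0,0,0,0,1],44),([0,1,0,0,0,-1,0,0],44),
    ([0,-1,0,1,-1,1,-1,0],44),([0,0,1,-1,0,0,1,-1],44),([0,0,1,-1,0,0,0,1],43),
    ([0,1,0,0,-1,1,-1,0],43),([0,-1,0,0,1,0,-1,0],43),([0,-1,0,1,-1,0,1,-1],43),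
    ([0,-1,0,1,-1,0,0,1],42),([0,1,0,-1,1,0,-1,0],42),([0,1,0,0,-1,0,1,-1],42),
    ([0,-1,0,0,1,-1,1,-1],42),([0,1,0,0,-1,0,0,1],41),([0,-1,0,0,1,-1,0,1],41),
    ([0,0,-1,1,0,0,-1,0],41),([0,1,0,-1,1,-1,1,-1],41)]

/-- Part of an orbit. -/
def chainE8_0_2 : List (List ℤ × ℤ) := [
    ([0,-1,0,0,0,1,0,-1],41),([0,1,0,-1,1,-1,0,1],40),([0,-1,0,0,0,1,-1,1],40),
    ([-1,0,1,0,0,0,-1,0],40),([0,0,-1,1,0,-1,1,-1],40),([0,1,0,-1,0,1,0,-1],40),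
    ([0,-1,0,0,0,0,1,0],39),([0,0,-1,1,0,-1,0,1],39),([0,1,0,-1,0,1,-1,1],39),
    ([1,0,0,0,0,0,-1,0],39),([-1,0,1,0,0,-1,1,-1],39),([0,0,-1,1,-1,1,0,-1],39),
    ([0,1,0,-1,0,0,1,0],38),([-1,0,1,0,0,-1,0,1],38),([0,0,-1,1,-1,1,-1,1],38),
    ([1,0,0,0,0,-1,1,-1],38),([-1,0,1,0,-1,1,0,-1],38),([0,0,-1,0,1,0,0,-1],38),
    ([0,0,-1,1,-1,0,1,0],37),([1,0,0,0,0,-1,0,1],37)]

/-- Part of an orbit. -/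
def chainE8_0_3 : List (List ℤ × ℤ) := [
    ([-1,0,1,0,-1,1,-1,1],37),([0,0,-1,0,1,0,-1,1],37),([1,0,0,0,-1,1,0,-1],37),
    ([-1,0,1,-1,1,0,0,-1],37),([-1,0,1,0,-1,0,1,0],36),([0,0,-1,0,1,-1,1,0],36),
    ([1,0,0,0,-1,1,-1,1],36),([-1,0,1,-1,1,0,-1,1],36),([1,0,0,-1,1,0,0,-1],36),
    ([-1,-1,0,1,0,0,0,-1],36),([0,0,-1,0,0,1,0,0],35),([1,0,0,0,-1,0,1,0],35),
    ([-1,0,1,-1,1,-1,1,0],35),([1,0,0,-1,1,0,-1,1],35),([-1,-1,0,1,0,0,-1,1],35),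
    ([-1,1,0,0,0,0,0,-1],35),([1,-1,-1,1,0,0,0,-1],35),([-1,0,1,-1,0,1,0,0],34),
    ([1,0,0,-1,1,-1,1,0],34),([-1,-1,0,1,0,-1,1,0],34)]

/-- Part of an orbit. -/
def chainE8_0_4 : List (List ℤ × ℤ) := [
    ([-1,1,0,0,0,0,-1,1],34),([1,-1,-1,1,0,0,-1,1],34),([1,1,-1,0,0,0,0,-1],34),
    ([0,-1,1,0,0,0,0,-1],34),([1,0,0,-1,0,1,0,0],33),([-1,-1,0,1,-1,1,0,0],33),
    ([-1,1,0,0,0,-1,1,0],33),([1,-1,-1,1,0,-1,1,0],33),([1,1,-1,0,0,0,-1,1],33),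
    ([0,-1,1,0,0,0,-1,1],33),([0,1,1,-1,0,0,0,-1],33),([-1,-1,0,0,1,0,0,0],32),
    ([-1,1,0,0,-1,1,0,0],32),([1,-1,-1,1,-1,1,0,0],32),([1,1,-1,0,0,-1,1,0],32),
    ([0,-1,1,0,0,-1,1,0],32),([0,1,1,-1,0,0,-1,1],32),([0,0,0,1,-1,0,0,-1],32),
    ([-1,1,0,-1,1,0,0,0],31),([1,-1,-1,0,1,0,0,0],31)]

/-- Part of an orbit. -/
def chainE8_0_5 : List (List ℤ × ℤ) := [
    ([1,1,-1,0,-1,1,0,0],31),([0,-1,1,0,-1,1,0,0],31),([0,1,1,-1,0,-1,1,0],31),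
    ([0,0,0,1,-1,0,-1,1],31),([0,0,0,0,1,-1,0,-1],31),([-1,0,-1,1,0,0,0,0],30),
    ([1,1,-1,-1,1,0,0,0],30),([0,-1,1,-1,1,0,0,0],30),([0,1,1,-1,-1,1,0,0],30),
    ([0,0,0,1,-1,-1,1,0],30),([0,0,0,0,1,-1,-1,1],30),([0,0,0,0,0,1,-1,-1],30),
    ([-2,0,1,0,0,0,0,0],29),([0,-2,0,1,0,0,0,0],29),([1,0,-2,1,0,0,0,0],29),
    ([0,1,1,-2,1,0,0,0],29),([0,0,0,1,-2,1,0,0],29),([0,0,0,0,1,-2,1,0],29),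
    ([0,0,0,0,0,1,-2,1],29),([0,0,0,0,0,0,1,-2],29)]

/-- Part of an orbit. -/
def chainE8_0_6 : List (List ℤ × ℤ) := [
    ([2,0,-1,0,0,0,0,0],28),([0,2,0,-1,0,0,0,0],28),([-1,0,2,-1,0,0,0,0],28),
    ([0,-1,-1,2,-1,0,0,0],28),([0,0,0,-1,2,-1,0,0],28),([0,0,0,0,-1,2,-1,0],28),
    ([0,0,0,0,0,-1,2,-1],28),([0,0,0,0,0,0,-1,2],28),([1,0,1,-1,0,0,0,0],27),
    ([0,1,-1,1,-1,0,0,0],27),([-1,-1,1,1,-1,0,0,0],27),([0,-1,-1,1,1,-1,0,0],27),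
    ([0,0,0,-1,1,1,-1,0],27),([0,0,0,0,-1,1,1,-1],27),([0,0,0,0,0,-1,1,1],27),
    ([1,-1,0,1,-1,0,0,0],26),([-1,1,1,0,-1,0,0,0],26),([0,1,-1,0,1,-1,0,0],26),
    ([-1,-1,1,0,1,-1,0,0],26),([0,-1,-1,1,0,1,-1,0],26)]

/-- Part of an orbit. -/
def chainE8_0_7 : List (List ℤ × ℤ) := [
    ([0,0,0,-1,1,0,1,-1],26),([0,0,0,0,-1,1,0,1],26),([1,1,0,0,-1,0,0,0],25),
    ([1,-1,0,0,1,-1,0,0],25),([-1,1,1,-1,1,-1,0,0],25),([0,1,-1,0,0,1,-1,0],25),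
    ([-1,-1,1,0,0,1,-1,0],25),([0,-1,-1,1,0,0,1,-1],25),([0,0,0,-1,1,0,0,1],25),
    ([1,1,0,-1,1,-1,0,0],24),([1,-1,0,0,0,1,-1,0],24),([-1,0,0,1,0,-1,0,0],24),
    ([-1,1,1,-1,0,1,-1,0],24),([0,1,-1,0,0,0,1,-1],24),([-1,-1,1,0,0,0,1,-1],24),
    ([0,-1,-1,1,0,0,0,1],24),([1,0,-1,1,0,-1,0,0],23),([1,1,0,-1,0,1,-1,0],23),
    ([1,-1,0,0,0,0,1,-1],23),([-1,0,0,1,-1,1,-1,0],23)]

/-- Part of an orbit. -/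
def chainE8_0_8 : List (List ℤ × ℤ) := [
    ([-1,1,1,-1,0,0,1,-1],23),([0,1,-1,0,0,0,0,1],23),([-1,-1,1,0,0,0,0,1],23),
    ([0,0,1,0,0,-1,0,0],22),([1,0,-1,1,-1,1,-1,0],22),([1,1,0,-1,0,0,1,-1],22),
    ([1,-1,0,0,0,0,0,1],22),([-1,0,0,0,1,0,-1,0],22),([-1,0,0,1,-1,0,1,-1],22),
    ([-1,1,1,-1,0,0,0,1],22),([0,0,1,0,-1,1,-1,0],21),([1,0,-1,0,1,0,-1,0],21),
    ([1,0,-1,1,-1,0,1,-1],21),([1,1,0,-1,0,0,0,1],21),([-1,0,0,0,1,-1,1,-1],21),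
    ([-1,0,0,1,-1,0,0,1],21),([0,0,1,-1,1,0,-1,0],20),([0,0,1,0,-1,0,1,-1],20),
    ([1,0,-1,0,1,-1,1,-1],20),([1,0,-1,1,-1,0,0,1],20)]

/-- Part of an orbit. -/
def chainE8_0_9 : List (List ℤ × ℤ) := [
    ([-1,0,0,0,0,1,0,-1],20),([-1,0,0,0,1,-1,0,1],20),([0,-1,0,1,0,0,-1,0],19),
    ([0,0,1,-1,1,-1,1,-1],19),([0,0,1,0,-1,0,0,1],19),([1,0,-1,0,0,1,0,-1],19),
    ([1,0,-1,0,1,-1,0,1],19),([-1,0,0,0,0,1,-1,1],19),([0,1,0,0,0,0,-1,0],18),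
    ([0,-1,0,1,0,-1,1,-1],18),([0,0,1,-1,0,1,0,-1],18),([0,0,1,-1,1,-1,0,1],18),
    ([1,0,-1,0,0,1,-1,1],18),([-1,0,0,0,0,0,1,0],18),([0,1,0,0,0,-1,1,-1],17),
    ([0,-1,0,1,-1,1,0,-1],17),([0,-1,0,1,0,-1,0,1],17),([0,0,1,-1,0,1,-1,1],17),
    ([1,0,-1,0,0,0,1,0],17),([0,1,0,0,-1,1,0,-1],16)]

/-- Part of an orbit. -/
def chainE8_0_10 : List (List ℤ × ℤ) := [
    ([0,1,0,0,0,-1,0,1],16),([0,-1,0,0,1,0,0,-1],16),([0,-1,0,1,-1,1,-1,1],16),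
    ([0,0,1,-1,0,0,1,0],16),([0,1,0,-1,1,0,0,-1],15),([0,1,0,0,-1,1,-1,1],15),
    ([0,-1,0,0,1,0,-1,1],15),([0,-1,0,1,-1,0,1,0],15),([0,0,-1,1,0,0,0,-1],14),
    ([0,1,0,-1,1,0,-1,1],14),([0,1,0,0,-1,0,1,0],14),([0,-1,0,0,1,-1,1,0],14),
    ([-1,0,1,0,0,0,0,-1],13),([0,0,-1,1,0,0,-1,1],13),([0,1,0,-1,1,-1,1,0],13),
    ([0,-1,0,0,0,1,0,0],13),([1,0,0,0,0,0,0,-1],12),([-1,0,1,0,0,0,-1,1],12),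
    ([0,0,-1,1,0,-1,1,0],12),([0,1,0,-1,0,1,0,0],12)]

/-- Part of an orbit. -/
def chainE8_0_11 : List (List ℤ × ℤ) := [
    ([1,0,0,0,0,0,-1,1],11),([-1,0,1,0,0,-1,1,0],11),([0,0,-1,1,-1,1,0,0],11),
    ([1,0,0,0,0,-1,1,0],10),([-1,0,1,0,-1,1,0,0],10),([0,0,-1,0,1,0,0,0],10),
    ([1,0,0,0,-1,1,0,0],9),([-1,0,1,-1,1,0,0,0],9),([1,0,0,-1,1,0,0,0],8),
    ([-1,-1,0,1,0,0,0,0],8),([-1,1,0,0,0,0,0,0],7),([1,-1,-1,1,0,0,0,0],7),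
    ([1,1,-1,0,0,0,0,0],6),([0,-1,1,0,0,0,0,0],6),([0,1,1,-1,0,0,0,0],5),([0,0,0,1,-1,0,0,0],4),
    ([0,0,0,0,1,-1,0,0],3),([0,0,0,0,0,1,-1,0],2),([0,0,0,0,0,0,1,-1],1),([0,0,0,0,0,0,0,1],0)]

/-- Part of an orbit. -/
def chainE8_1_0 : List (List ℤ × ℤ) := [
    ([0,0,0,0,0,0,-1,3],27),([0,0,0,0,0,-1,1,2],26),([0,0,0,0,-1,1,0,2],25),
    ([0,0,0,-1,1,0,0,2],24),([0,-1,-1,1,0,0,0,2],23),([0,1,-1,0,0,0,0,2],22),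
    ([-1,-1,1,0,0,0,0,2],22),([1,-1,0,0,0,0,0,2],21),([-1,1,1,-1,0,0,0,2],21),
    ([1,1,0,-1,0,0,0,2],20),([-1,0,0,1,-1,0,0,2],20),([1,0,-1,1,-1,0,0,2],19),
    ([-1,0,0,0,1,-1,0,2],19),([0,0,1,0,-1,0,0,2],18),([1,0,-1,0,1,-1,0,2],18),
    ([-1,0,0,0,0,1,-1,2],18),([0,0,1,-1,1,-1,0,2],17),([1,0,-1,0,0,1,-1,2],17),
    ([-1,0,0,0,0,0,1,1],17),([0,-1,0,1,0,-1,0,2],16)]

/-- Part of an orbit. -/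
def chainE8_1_1 : List (List ℤ × ℤ) := [
    ([0,0,1,-1,0,1,-1,2],16),([1,0,-1,0,0,0,1,1],16),([0,1,0,0,0,-1,0,2],15),
    ([0,-1,0,1,-1,1,-1,2],15),([0,0,1,-1,0,0,1,1],15),([0,1,0,0,-1,1,-1,2],14),
    ([0,-1,0,0,1,0,-1,2],14),([0,-1,0,1,-1,0,1,1],14),([0,1,0,-1,1,0,-1,2],13),
    ([0,1,0,0,-1,0,1,1],13),([0,-1,0,0,1,-1,1,1],13),([0,0,-1,1,0,0,-1,2],12),
    ([0,1,0,-1,1,-1,1,1],12),([0,-1,0,0,0,1,0,1],12),([-1,0,1,0,0,0,-1,2],11),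
    ([0,0,-1,1,0,-1,1,1],11),([0,1,0,-1,0,1,0,1],11),([1,0,0,0,0,0,-1,2],10),
    ([-1,0,1,0,0,-1,1,1],10),([0,0,-1,1,-1,1,0,1],10)]

/-- Part of an orbit. -/
def chainE8_1_2 : List (List ℤ × ℤ) := [
    ([1,0,0,0,0,-1,1,1],9),([-1,0,1,0,-1,1,0,1],9),([0,0,-1,0,1,0,0,1],9),([1,0,0,0,-1,1,0,1],8),
    ([-1,0,1,-1,1,0,0,1],8),([1,0,0,-1,1,0,0,1],7),([-1,-1,0,1,0,0,0,1],7),
    ([-1,1,0,0,0,0,0,1],6),([1,-1,-1,1,0,0,0,1],6),([1,1,-1,0,0,0,0,1],5),([0,-1,1,0,0,0,0,1],5),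
    ([0,1,1,-1,0,0,0,1],4),([0,0,0,1,-1,0,0,1],3),([0,0,0,0,1,-1,0,1],2),([0,0,0,0,0,1,-1,1],1),
    ([0,0,0,0,0,0,1,0],0)]

/-- Part of an orbit. -/
def chainE8_2_0 : List (List ℤ × ℤ) := [
    ([-1,0,0,0,0,0,2,0],16),([1,0,-1,0,0,0,2,0],15),([0,0,1,-1,0,0,2,0],14),
    ([0,-1,0,1,-1,0,2,0],13),([0,1,0,0,-1,0,2,0],12),([0,-1,0,0,1,-1,2,0],12),
    ([0,1,0,-1,1,-1,2,0],11),([0,-1,0,0,0,1,1,0],11),([0,0,-1,1,0,-1,2,0],10),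
    ([0,1,0,-1,0,1,1,0],10),([-1,0,1,0,0,-1,2,0],9),([0,0,-1,1,-1,1,1,0],9),
    ([1,0,0,0,0,-1,2,0],8),([-1,0,1,0,-1,1,1,0],8),([0,0,-1,0,1,0,1,0],8),([1,0,0,0,-1,1,1,0],7),
    ([-1,0,1,-1,1,0,1,0],7),([1,0,0,-1,1,0,1,0],6),([-1,-1,0,1,0,0,1,0],6),
    ([-1,1,0,0,0,0,1,0],5)]

/-- Part of an orbit. -/
def chainE8_2_1 : List (List ℤ × ℤ) := [
    ([1,-1,-1,1,0,0,1,0],5),([1,1,-1,0,0,0,1,0],4),([0,-1,1,0,0,0,1,0],4),([0,1,1,-1,0,0,1,0],3),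
    ([0,0,0,1,-1,0,1,0],2),([0,0,0,0,1,-1,1,0],1),([0,0,0,0,0,1,0,0],0)]

/-- Part of an orbit. -/
def chainE8_3_0 : List (List ℤ × ℤ) := [
    ([0,-1,0,0,0,2,0,0],10),([0,1,0,-1,0,2,0,0],9),([0,0,-1,1,-1,2,0,0],8),
    ([-1,0,1,0,-1,2,0,0],7),([0,0,-1,0,1,1,0,0],7),([1,0,0,0,-1,2,0,0],6),
    ([-1,0,1,-1,1,1,0,0],6),([1,0,0,-1,1,1,0,0],5),([-1,-1,0,1,0,1,0,0],5),
    ([-1,1,0,0,0,1,0,0],4),([1,-1,-1,1,0,1,0,0],4),([1,1,-1,0,0,1,0,0],3),([0,-1,1,0,0,1,0,0],3),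
    ([0,1,1,-1,0,1,0,0],2),([0,0,0,1,-1,1,0,0],1),([0,0,0,0,1,0,0,0],0)]

/-- Part of an orbit. -/
def chainE8_4_0 : List (List ℤ × ℤ) := [
    ([0,0,-1,0,2,0,0,0],6),([-1,0,1,-1,2,0,0,0],5),([1,0,0,-1,2,0,0,0],4),
    ([-1,-1,0,1,1,0,0,0],4),([-1,1,0,0,1,0,0,0],3),([1,-1,-1,1,1,0,0,0],3),
    ([1,1,-1,0,1,0,0,0],2),([0,-1,1,0,1,0,0,0],2),([0,1,1,-1,1,0,0,0],1),([0,0,0,1,0,0,0,0],0)]

/-- Part of an orbit. -/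
def chainE8_5_0 : List (List ℤ × ℤ) := [
    ([-1,0,0,1,0,0,0,0],2),([1,0,-1,1,0,0,0,0],1),([0,0,1,0,0,0,0,0],0)]

/-- Part of an orbit. -/
def chainE8_6_0 : List (List ℤ × ℤ) := [
    ([0,-1,0,1,0,0,0,0],1),([0,1,0,0,0,0,0,0],0)]

/-- Part of an orbit. -/
def chainE8_7_0 : List (List ℤ × ℤ) := [
    ([-1,0,1,0,0,0,0,0],1),([1,0,0,0,0,0,0,0],0)]

/-- Orbit certificates. -/
def chainE8 : List (List ℕ × List (List ℤ × ℤ)) :=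
  [([0, 1, 2, 3, 4, 5, 6], chainE8_0_0 ++ (chainE8_0_1 ++ (chainE8_0_2 ++ (chainE8_0_3 ++ (chainE8_0_4 ++ (chainE8_0_5 ++ (chainE8_0_6 ++ (chainE8_0_7 ++ (chainE8_0_8 ++ (chainE8_0_9 ++ (chainE8_0_10 ++ (chainE8_0_11)))))))))))),
  ([0, 1, 2, 3, 4, 5], chainE8_1_0 ++ (chainE8_1_1 ++ (chainE8_1_2))),
  ([0, 1, 2, 3, 4], chainE8_2_0 ++ (chainE8_2_1)),
  ([0, 1, 2, 3], chainE8_3_0),
  ([0, 1, 2], chainE8_4_0),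
  ([0, 1], chainE8_5_0),
  ([0], chainE8_6_0),
  ([], chainE8_7_0)]

theorem chk_chainE8 : chkChain 8 cartE8 ((List.range 8).map fun i => [i]) (List.range 8) 58
    (List.range 8) chainE8 = true := by decide +kernel

section
variable {Φ : Type*} [Finite Φ] {R : RS (Fin 8) Φ}

theorem psum_W_E8 (hC : IsCartan R cartE8) {A : Type*} [CommRing A] (t : A) :
    (t - 1) ^ 8 * (sgn R).psum (sgn R).W t =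
      (t ^ 2 - 1) * (t ^ 8 - 1) * (t ^ 12 - 1) * (t ^ 14 - 1) * (t ^ 18 - 1) * (t ^ 20 - 1) * (t ^ 24 - 1) * (t ^ 30 - 1) := by
  have h := peval_eq_of_peq t (p := pmul (pprod (List.replicate 8 (pbin 1 (-1)))) (chainPoly 58 chainE8))
    (q := pprod ([2, 8, 12, 14, 18, 20, 24, 30].map fun d => pbin d (-1))) (by decide +kernel)
  rw [hC.psum_W 58 chainE8 chk_chainE8]
  simp only [peval_pmul, peval_pprod, peval_pbin, List.map_replicate, List.prod_replicate,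
    List.map_cons, List.map_nil, List.prod_cons, List.prod_nil] at h
  push_cast at h
  linear_combination h

theorem card_W_E8 (hC : IsCartan R cartE8) : Nat.card (sgn R).W = 696729600 :=
  hC.card_W 58 chainE8 chk_chainE8 _ (by decide +kernel)

theorem exists_mulEquiv_E8 (hC : IsCartan R cartE8) :
    ∃ e : (sgn R).W ≃* (CoxeterMatrix.E₈).Group, ∀ i, e ((sgn R).sW i) = (CoxeterMatrix.E₈).simple i :=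
  hC.exists_mulEquiv _ (by decide +kernel)

omit [Finite Φ] in
theorem orderOf_cox_E8 (hC : IsCartan R cartE8) :
    orderOf ((sgn R).word (List.finRange 8)) = 30 :=
  hC.orderOf_word _ _ (by norm_num) (by decide +kernel)

end

end Cfsg.Agent.H34
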