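/-
Root tables of `F₄` and the exponents of its maximal tori.
-/
import Mathlib
import Cfsg.Agent.H34.WAdj

set_option autoImplicit false
set_option maxRecDepth 100000

namespace Cfsg.Agent.H34

open Equiv Cfsg.Lie Cfsg.Agent.H37 Cfsg.Agent.H40 Finset
open scoped Matrix

/-- The table of roots. -/
def tabF4 : List RD :=
    [mkRD 0 [-1, -2, -3, -2] [0, 0, 0, -1] [-2, -4, -3, -2], mkRD 1 [-1, -2, -3, -1] [0, 0, -1,
    1] [-2, -4, -3, -1], mkRD 2 [-1, -2, -2, -1] [0, -2, 1, 0] [-2, -4, -2, -1], mkRD 3 [-2, -3,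
    -4, -2] [-1, 0, 0, 0] [-2, -3, -2, -1], mkRD 4 [-1, -1, -2, -1] [-2, 2, -1, 0] [-2, -2, -2,
    -1], mkRD 5 [-1, -1, -1, -1] [-2, 0, 1, -1] [-2, -2, -1, -1], mkRD 6 [-1, -1, -1, 0] [-2, 0,
    0, 1] [-2, -2, -1, 0], mkRD 7 [-1, -3, -4, -2] [1, -1, 0, 0] [-1, -3, -2, -1], mkRD 8 [-1,
    -2, -4, -2] [0, 1, -1, 0] [-1, -2, -2, -1], mkRD 9 [-1, -2, -2, -2] [0, -1, 1, -1] [-1, -2,
    -1, -1], mkRD 10 [-1, -2, -2, 0] [0, -1, 0, 1] [-1, -2, -1, 0], mkRD 11 [-1, -1, -2, -2] [-1,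
    1, 0, -1] [-1, -1, -1, -1], mkRD 12 [-1, -1, -2, 0] [-1, 1, -1, 1] [-1, -1, -1, 0], mkRD 13
    [-1, -1, 0, 0] [-1, -1, 1, 0] [-1, -1, 0, 0], mkRD 14 [-1, 0, 0, 0] [-2, 1, 0, 0] [-1, 0, 0,
    0], mkRD 15 [0, -1, -2, -1] [2, 0, -1, 0] [0, -2, -2, -1], mkRD 16 [0, -1, -1, -1] [2, -2, 1,
    -1] [0, -2, -1, -1], mkRD 17 [0, -1, -1, 0] [2, -2, 0, 1] [0, -2, -1, 0], mkRD 18 [0, -1, -2,
    -2] [1, 0, 0, -1] [0, -1, -1, -1], mkRD 19 [0, -1, -2, 0] [1, 0, -1, 1] [0, -1, -1, 0], mkRD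
    20 [0, -1, 0, 0] [1, -2, 1, 0] [0, -1, 0, 0], mkRD 21 [0, 0, -1, -1] [0, 2, -1, -1] [0, 0,
    -1, -1], mkRD 22 [0, 0, -1, 0] [0, 2, -2, 1] [0, 0, -1, 0], mkRD 23 [0, 0, 0, -1] [0, 0, 1,
    -2] [0, 0, 0, -1], mkRD 24 [0, 0, 0, 1] [0, 0, -1, 2] [0, 0, 0, 1], mkRD 25 [0, 0, 1, 0] [0,
    -2, 2, -1] [0, 0, 1, 0], mkRD 26 [0, 0, 1, 1] [0, -2, 1, 1] [0, 0, 1, 1], mkRD 27 [0, 1, 0,
    0] [-1, 2, -1, 0] [0, 1, 0, 0], mkRD 28 [0, 1, 2, 0] [-1, 0, 1, -1] [0, 1, 1, 0], mkRD 29 [0,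
    1, 2, 2] [-1, 0, 0, 1] [0, 1, 1, 1], mkRD 30 [0, 1, 1, 0] [-2, 2, 0, -1] [0, 2, 1, 0], mkRD
    31 [0, 1, 1, 1] [-2, 2, -1, 1] [0, 2, 1, 1], mkRD 32 [0, 1, 2, 1] [-2, 0, 1, 0] [0, 2, 2, 1],
    mkRD 33 [1, 0, 0, 0] [2, -1, 0, 0] [1, 0, 0, 0], mkRD 34 [1, 1, 0, 0] [1, 1, -1, 0] [1, 1, 0,
    0], mkRD 35 [1, 1, 2, 0] [1, -1, 1, -1] [1, 1, 1, 0], mkRD 36 [1, 1, 2, 2] [1, -1, 0, 1] [1,
    1, 1, 1], mkRD 37 [1, 2, 2, 0] [0, 1, 0, -1] [1, 2, 1, 0], mkRD 38 [1, 2, 2, 2] [0, 1, -1, 1]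
    [1, 2, 1, 1], mkRD 39 [1, 2, 4, 2] [0, -1, 1, 0] [1, 2, 2, 1], mkRD 40 [1, 3, 4, 2] [-1, 1,
    0, 0] [1, 3, 2, 1], mkRD 41 [1, 1, 1, 0] [2, 0, 0, -1] [2, 2, 1, 0], mkRD 42 [1, 1, 1, 1] [2,
    0, -1, 1] [2, 2, 1, 1], mkRD 43 [1, 1, 2, 1] [2, -2, 1, 0] [2, 2, 2, 1], mkRD 44 [2, 3, 4, 2]
    [1, 0, 0, 0] [2, 3, 2, 1], mkRD 45 [1, 2, 2, 1] [0, 2, -1, 0] [2, 4, 2, 1], mkRD 46 [1, 2, 3,
    1] [0, 0, 1, -1] [2, 4, 3, 1], mkRD 47 [1, 2, 3, 2] [0, 0, 0, 1] [2, 4, 3, 2]]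

/-- Root coordinates. -/
def rcF4 : List (List ℤ) := tabF4.map (·.2.2.2)

/-- The table of Cartan integers. -/
def carF4 : List (List (ℤ × ℤ)) :=
    [[], [(-1, -1)], [(-2, -1), (0, 0)], [(-1, -1), (0, 0), (0, 0)]]

theorem tabOKF4 : TabOK chevF4 rcF4 tabF4 carF4 := by decide +kernel

theorem all_of_chunks {α : Type} (l : List α) (p : α → Bool) (m n : ℕ) (hl : l.length ≤ m * n)
    (h : ∀ k < n, ((l.drop (m * k)).take m).all p = true) : l.all p = true := by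
  induction n generalizing l with
  | zero => rw [List.length_eq_zero_iff.1 (by omega : l.length = 0)]; rfl
  | succ n ih =>
    rw [← List.take_append_drop m l, List.all_append, Bool.and_eq_true]
    refine ⟨by simpa using h 0 (by omega), ih _ (by rw [List.length_drop, mul_add] at *; omega)
      fun k hk => ?_⟩
    rw [List.drop_drop, ← mul_one_add, add_comm]
    exact h (k + 1) (by omega)

/-- The test at the leaves of the search through `W(F₄)`. -/
def finF4 (L : List RD) : Bool := fM (leafM L) fun M =>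
  annihF M [-1, -1, 0, 1, 1] || annihF M [-1, 0, 0, 0, 1] || annihF M [-1, 1, 0, -1, 1] ||
    ((annihF M [1, 0, 0, 0, 1] || annihF M [1, 0, -1, 0, 1]) && cycOK 144 M)

/-- A part of the search. -/
def partF4 (k : ℕ) : Bool := ((tabF4.drop (2 * k)).take 2).all fun s =>
  search (okW carF4) finF4 (fun _ => tabF4) 3 [s]

theorem partF4_0 : partF4 0 = true := by decide +kernel
theorem partF4_1 : partF4 1 = true := by decide +kernel
theorem partF4_2 : partF4 2 = true := by decide +kernel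
theorem partF4_3 : partF4 3 = true := by decide +kernel
theorem partF4_4 : partF4 4 = true := by decide +kernel
theorem partF4_5 : partF4 5 = true := by decide +kernel
theorem partF4_6 : partF4 6 = true := by decide +kernel
theorem partF4_7 : partF4 7 = true := by decide +kernel
theorem partF4_8 : partF4 8 = true := by decide +kernel
theorem partF4_9 : partF4 9 = true := by decide +kernel
theorem partF4_10 : partF4 10 = true := by decide +kernel
theorem partF4_11 : partF4 11 = true := by decide +kernel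
theorem partF4_12 : partF4 12 = true := by decide +kernel
theorem partF4_13 : partF4 13 = true := by decide +kernel
theorem partF4_14 : partF4 14 = true := by decide +kernel
theorem partF4_15 : partF4 15 = true := by decide +kernel
theorem partF4_16 : partF4 16 = true := by decide +kernel
theorem partF4_17 : partF4 17 = true := by decide +kernel
theorem partF4_18 : partF4 18 = true := by decide +kernel
theorem partF4_19 : partF4 19 = true := by decide +kernel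
theorem partF4_20 : partF4 20 = true := by decide +kernel
theorem partF4_21 : partF4 21 = true := by decide +kernel
theorem partF4_22 : partF4 22 = true := by decide +kernel
theorem partF4_23 : partF4 23 = true := by decide +kernel

theorem search_F4 : search (okW carF4) finF4 (fun _ => tabF4.filter fun _ => true) chevF4.rank [] =
    true := by
  rw [List.filter_eq_self.2 fun _ _ => rfl]
  refine List.all_eq_true.2 fun s hs => ?_
  rw [Bool.or_eq_true]
  refine Or.inr (List.all_eq_true.1 (all_of_chunks tabF4 (fun s => search (okW carF4) finF4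
    (fun _ => tabF4) 3 [s]) 2 24 (by decide +kernel) fun k hk => ?_) s hs)
  interval_cases k
  exacts [partF4_0, partF4_1, partF4_2, partF4_3, partF4_4, partF4_5, partF4_6, partF4_7,
    partF4_8, partF4_9, partF4_10, partF4_11, partF4_12, partF4_13, partF4_14, partF4_15,
    partF4_16, partF4_17, partF4_18, partF4_19, partF4_20, partF4_21, partF4_22, partF4_23]

end Cfsg.Agent.H34
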