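import Cfsg.Agent.H17.KnDef2

/-!
# KN-CL2: reduction of involutions to sign changes
-/

set_option autoImplicit false

namespace Cfsg.Agent.H34.KnC

open Equiv Subgroup Cfsg.Agent.H11.A16 Cfsg.Agent.H17.Kn

universe u

theorem JJ_le : JJ ≤ S2 := fun u hu => ⟨JJ_x hu, fun p q h => by
  have k : ∀ r : P, (x 1 r).1 / 4 = r.1 / 4 := by decide
  change (u.σ p).1 / 4 = (u.σ q).1 / 4
  rcases mem_JJ.1 hu p with e | e <;> rcases mem_JJ.1 hu q with e' | e' <;>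
    simp only [e, e', k, h]⟩

theorem PP_le : PP ≤ JJ := fun u hu => mem_JJ.2 fun p => Or.inl (by
  rw [show u.σ = 1 from hu]; rfl)

theorem ty_sec (c : Perm P) (u : N2) : ty (sec2 c * u * (sec2 c)⁻¹) = ty u := by
  refine (Finset.card_equiv c fun p => ?_).symm
  have e1 : (sec2 c * u * (sec2 c)⁻¹).σ (c p) = c (u.σ p) := by
    change c (u.σ (c⁻¹ (c p))) = _
    rw [inv_app]
  have e2 : (sec2 c * u * (sec2 c)⁻¹).f (c p) = u.f p := by
    change 0 + (u.f (c⁻¹ (c p)) + 0) = _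
    rw [inv_app, zero_add, add_zero]
  simp only [Finset.mem_filter, Finset.mem_univ, true_and, e1, e2, ne_eq, c.injective.eq_iff]

/-- `r` is trivial on the block `i`. -/
def Out (i : Fin 4) (r : N2) : Prop := r ∈ JJ ∧ ∀ p : P, p.1 / 2 = i.1 → r.σ p = p ∧ r.f p = 0

theorem blk {r : N2} (h : r ∈ JJ) (p : P) : (r.σ p).1 / 2 = p.1 / 2 := by
  have k : ∀ r : P, (x 1 r).1 / 2 = r.1 / 2 := by decide
  rcases mem_JJ.1 h p with e | e <;> simp only [e, k]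

theorem comm_out {i : Fin 4} {r : N2} (h : Out i r) {τ : Perm Ω}
    (h1 : ∀ y : Ω, y.1.1 / 2 ≠ i.1 → τ y = y) (h2 : ∀ y : Ω, y.1.1 / 2 = i.1 → (τ y).1.1 / 2 = i.1) :
    Commute τ (pm2 r) := by
  have a : ∀ y : Ω, y.1.1 / 2 = i.1 → pm2 r y = y := fun ⟨p, e⟩ hp => by
    rw [pm2_apply, (h.2 p hp).1, (h.2 p hp).2, add_zero]
  refine Equiv.ext fun y => ?_
  change τ (pm2 r y) = pm2 r (τ y)
  by_cases hy : y.1.1 / 2 = i.1
  · rw [a y hy, a _ (h2 y hy)]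
  · rw [h1 y hy, h1]
    obtain ⟨p, e⟩ := y
    rw [pm2_apply, blk h.1]
    exact hy

theorem th_s : ∀ (i : Fin 4) (y : Ω), (y.1.1 / 2 ≠ i.1 → th i y = y) ∧
    (y.1.1 / 2 = i.1 → (th i y).1.1 / 2 = i.1) := by decide +kernel

theorem wb_s : ∀ (i k : Fin 4) (y : Ω), (y.1.1 / 2 ≠ i.1 → pm2 (wb i k) y = y) ∧
    (y.1.1 / 2 = i.1 → (pm2 (wb i k) y).1.1 / 2 = i.1) := by decide +kernel

theorem th_wb : ∀ i k, th i * pm2 (wb i k) * (th i)⁻¹ = pm2 (wb i (ω k)) := by decide +kernel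

theorem wb_JI : ∀ i k, wb i k ∈ JI i ∧ wb i k * wb i k = 1 := by decide +kernel

theorem wb_p : ∀ (i k : Fin 4) (p : P), (p.1 / 2 ≠ i.1 → (wb i k).σ p = p ∧ (wb i k).f p = 0) ∧
    (p.1 / 2 = i.1 → k ≠ 3 → (wb i k).σ p ≠ p ∨ (wb i k).f p ≠ 0) := by decide +kernel

theorem wb_q : ∀ (i : Fin 4) (p : P), (wb i 0).σ p = p ∧ (p.1 / 2 = i.1 →
    (p = pa i ∨ p = x 1 (pa i)) ∧ (wb i 1).σ (x 1 p) = p ∧ (wb i 2).σ (x 1 p) = p ∧
      (wb i 1).f (x 1 p) = 0 ∧ (wb i 2).f (x 1 p) = 1) := by decide +kernel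

theorem pa_b : ∀ i : Fin 4, (pa i).1 / 2 = i.1 ∧ (x 1 (pa i)).1 / 2 = i.1 := by decide

theorem Out.mem {i : Fin 4} {r : N2} (h : Out i r) (k : Fin 4) : wb i k * r ∈ JI i :=
  mul_mem (wb_JI i k).1 ⟨h.1, by rw [(h.2 _ (pa_b i).1).2, (h.2 _ (pa_b i).2).2]⟩

theorem Out.cj {i : Fin 4} {r : N2} (h : Out i r) (k : Fin 4) :
    th i * pm2 (wb i k * r) * (th i)⁻¹ = pm2 (wb i (ω k) * r) := by
  have := comm_out h (fun y => (th_s i y).1) fun y => (th_s i y).2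
  rw [map_mul, map_mul, ← th_wb, mul_assoc _ _ (pm2 r), this.inv_left.eq]
  group

theorem Out.sq {i : Fin 4} {r : N2} (h : Out i r) (k : Fin 4) :
    wb i k * r * (wb i k * r) = r * r := by
  have : Commute (wb i k) r := pm2_inj (by
    rw [map_mul, map_mul]
    exact comm_out h (fun y => (wb_s i k y).1) fun y => (wb_s i k y).2)
  rw [this.symm.mul_mul_mul_comm, (wb_JI i k).2, one_mul]

theorem Out.ty {i : Fin 4} {r : N2} (h : Out i r) {k : Fin 4} (hk : k ≠ 3) :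
    ty (wb i k * r) =
      (Finset.univ.filter fun p : P => p.1 / 2 = i.1 ∨ r.σ p ≠ p ∨ r.f p ≠ 0).card := by
  refine congrArg Finset.card (Finset.filter_congr fun p _ => ?_)
  rw [N2.mul_σ, Perm.mul_apply, N2.mul_f]
  by_cases hp : p.1 / 2 = i.1
  · rw [(h.2 p hp).1, (h.2 p hp).2, zero_add]
    exact ⟨fun _ => Or.inl hp, fun _ => (wb_p i k p).2 hp hk⟩
  · have := (wb_p i k (r.σ p)).1 (by rw [blk h.1]; exact hp)
    rw [this.1, this.2, add_zero]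
    exact ⟨Or.inr, fun a => a.resolve_left hp⟩

theorem dec {i : Fin 4} {u : N2} (hu : u ∈ JJ) (h2 : u * u = 1) (hn : u.σ (pa i) ≠ pa i) :
    ∃ r, Out i r ∧ (u = wb i 1 * r ∨ u = wb i 2 * r) := by
  have e1 : u.σ (pa i) = x 1 (pa i) := (mem_JJ.1 hu _).resolve_left hn
  have e2 : u.f (x 1 (pa i)) = u.f (pa i) := by
    have := congrFun (congrArg N2.f h2) (pa i)
    rw [N2.mul_f, e1, N2.one_f] at this
    revert this
    generalize u.f (pa i) = a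
    generalize u.f (x 1 (pa i)) = b
    revert a b
    decide
  have e3 : ∀ p : P, p.1 / 2 = i.1 → u.σ p = x 1 p ∧ u.f p = u.f (pa i) := fun p hp => by
    rcases ((wb_q i p).2 hp).1 with rfl | rfl
    · exact ⟨e1, rfl⟩
    · exact ⟨by rw [JJ_x hu, e1], e2⟩
  rcases H11.A16.z2 (u.f (pa i)) with c | c
  · refine ⟨wb i 1 * u, ⟨mul_mem (wb_JI i 1).1.1 hu, fun p hp => ?_⟩,
      Or.inl (by rw [← mul_assoc, (wb_JI i 1).2, one_mul])⟩
    rw [N2.mul_σ, Perm.mul_apply, N2.mul_f, (e3 p hp).1, (e3 p hp).2, c,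
      ((wb_q i p).2 hp).2.1, ((wb_q i p).2 hp).2.2.2.1]
    exact ⟨rfl, rfl⟩
  · refine ⟨wb i 2 * u, ⟨mul_mem (wb_JI i 2).1.1 hu, fun p hp => ?_⟩,
      Or.inr (by rw [← mul_assoc, (wb_JI i 2).2, one_mul])⟩
    rw [N2.mul_σ, Perm.mul_apply, N2.mul_f, (e3 p hp).1, (e3 p hp).2, c,
      ((wb_q i p).2 hp).2.2.1, ((wb_q i p).2 hp).2.2.2.2]
    exact ⟨rfl, rfl⟩

variable {G : Type u} [Group G] {J : N2 → G} {L : Subgroup G}

theorem step (hT : Th J L) (i : Fin 4) {u : N2} (hu : u ∈ JJ) (h2 : u * u = 1) :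
    ∃ g ∈ L, ∃ v ∈ JJ, v * v = 1 ∧ ty v = ty u ∧ R J g u v ∧ v.σ (pa i) = pa i ∧
      ∀ p, u.σ p = p → v.σ p = p := by
  by_cases hn : u.σ (pa i) = pa i
  · exact ⟨1, one_mem _, u, hu, h2, rfl, by simp [R], hn, fun _ h => h⟩
  obtain ⟨θ, hθ, hE⟩ := hT i
  obtain ⟨r, hr, e⟩ := dec hu h2 hn
  have a : ∀ k, R J θ (wb i k * r) (wb i (ω k) * r) := fun k =>
    hE _ (hr.mem k) _ (hr.mem _) (hr.cj k)
  have b : ∀ k, k ≠ 3 → u = wb i k * r → wb i 0 * r * (wb i 0 * r) = 1 ∧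
      ty (wb i 0 * r) = ty u ∧ ∀ p, u.σ p = p → (wb i 0 * r).σ p = p := by
    rintro k hk rfl
    refine ⟨by rw [hr.sq, ← hr.sq k, h2], by rw [hr.ty hk, hr.ty (by decide)], fun p hp => ?_⟩
    rw [N2.mul_σ, Perm.mul_apply, (wb_q i _).1]
    by_cases hb : p.1 / 2 = i.1
    · exact (hr.2 p hb).1
    · rwa [N2.mul_σ, Perm.mul_apply,
        ((wb_p i k (r.σ p)).1 (by rw [blk hr.1]; exact hb)).1] at hp
  have c : (wb i 0 * r).σ (pa i) = pa i := by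
    rw [N2.mul_σ, Perm.mul_apply, (wb_q i _).1, (hr.2 _ (pa_b i).1).1]
  rcases e with e | e
  · obtain ⟨b1, b2, b3⟩ := b 1 (by decide) e
    exact ⟨θ, hθ, _, (hr.mem 0).1, b1, b2, e ▸ a 1, c, b3⟩
  · obtain ⟨b1, b2, b3⟩ := b 2 (by decide) e
    exact ⟨θ * θ, mul_mem hθ hθ, _, (hr.mem 0).1, b1, b2, e ▸ (a 2).trans (a 1), c, b3⟩

theorem cl2 : Cl2Stmt.{u} := by
  intro G _ _ J φ s H ρ h
  refine ⟨fun L hL hT u hu h2 => ?_, fun e he e' he' ht => ?_⟩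
  · obtain ⟨c, hc⟩ := conj_B (u := sec u.σ) (by
      rw [← map_mul, ← N2.mul_σ, h2, N2.one_σ, map_one])
    have h0 : sec2 c.σ * u * (sec2 c.σ)⁻¹ ∈ JJ := hc
    obtain ⟨g0, hg0, -, a0⟩ := h.lift (sec2 c.σ) (zpowers u) (zpowers_le.2 hu) (by
      rintro _ ⟨n, rfl⟩
      rw [← conj_zpow]
      exact zpow_mem (JJ_le h0) n)
    obtain ⟨g1, hg1, v1, m1, s1, t1, a1, f1, -⟩ := step hT 0 h0 (by
      rw [conj_mul, h2, mul_one, mul_inv_cancel])
    obtain ⟨g2, hg2, v2, m2, s2, t2, a2, f2, k2⟩ := step hT 1 m1 s1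
    obtain ⟨g3, hg3, v3, m3, s3, t3, a3, f3, k3⟩ := step hT 2 m2 s2
    obtain ⟨g4, hg4, v4, m4, -, t4, a4, f4, k4⟩ := step hT 3 m3 s3
    refine ⟨_, mul_mem hg4 (mul_mem hg3 (mul_mem hg2 (mul_mem hg1 (hL hg0)))), v4, ?_,
      by rw [t4, t3, t2, t1, ty_sec],
      ((((a0 u (mem_zpowers u)).trans a1).trans a2).trans a3).trans a4⟩
    have z : ∀ i, v4.σ (pa i) = pa i := by
      intro i
      fin_cases i
      · exact k4 _ (k3 _ (k2 _ f1))
      · exact k4 _ (k3 _ f2)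
      · exact k4 _ f3
      · exact f4
    refine Equiv.ext fun p => ?_
    change v4.σ p = p
    rcases (show ∀ p : P, ∃ i, p = pa i ∨ p = x 1 (pa i) by decide) p with ⟨i, rfl | rfl⟩
    · exact z i
    · rw [JJ_x m4, z]
  · have e1 : e.σ = 1 := he
    have e2 : e'.σ = 1 := he'
    have hc : Fintype.card {p // e.f p ≠ 0} = Fintype.card {p // e'.f p ≠ 0} := by
      rw [Fintype.card_subtype, Fintype.card_subtype]
      simpa [ty, e1, e2] using ht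
    let c := (Fintype.equivOfCardEq hc).extendSubtype
    have hm : sec2 c * e * (sec2 c)⁻¹ = e' := by
      refine N2.ext (by
        change c * e.σ * c⁻¹ = _
        rw [e1, e2, mul_one, mul_inv_cancel]) (funext fun p => ?_)
      obtain ⟨q, rfl⟩ := c.surjective p
      change 0 + (e.f (c⁻¹ (c q)) + 0) = _
      rw [inv_app, zero_add, add_zero]
      by_cases hq : e.f q ≠ 0
      · have := (Fintype.equivOfCardEq hc).extendSubtype_mem q hq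
        rw [(H11.A16.z2 _).resolve_left hq, (H11.A16.z2 _).resolve_left this]
      · have := (Fintype.equivOfCardEq hc).extendSubtype_not_mem q hq
        rw [not_not.1 hq, not_not.1 this]
    obtain ⟨g, hg, -, a⟩ := h.lift (sec2 c) PP (PP_le.trans JJ_le) fun v hv =>
      JJ_le (PP_le (π2.normal_ker.conj_mem v hv _))
    exact ⟨g, hg, hm ▸ a e he⟩

end Cfsg.Agent.H34.KnC
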