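import Cfsg.Agent.H80.FrameX
import Cfsg.Agent.H80.Cover
import Cfsg.Prelude.Def_Local

/-!
# The commutator relations of a frame

`FRel Fr xs xl` says that the elements `xs a b t`, `xl a w ν` of a group `G` satisfy the relations
of the root elements `xE Fr a b t`, `eE P (Fr.e a) w ν` of the frame `Fr`.
-/

set_option autoImplicit false

namespace Cfsg.Agent.H34.FR

open Cfsg.Agent.H78 Cfsg.Agent.H80 Cfsg.Agent.H26 Cfsg.Agent.H26.PForm Subgroup
open Cfsg.Agent.H78.Frame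
open scoped commutatorElement

universe u v

section defs

variable {F V : Type v} [Field F] [AddCommGroup V] [Module F V] {P : PForm F V} {n : ℕ}
  {G : Type u} [Group G] (Fr : Frame P n)

/-- The parameters of the root elements of a root `2 e_a`. -/
def LP (w : V) (ν : F) : Prop := w ∈ Fr.V0 ∧ ν - P.h w ∈ P.Λ

/-- The relations. -/
structure FRel (xs : BI n → BI n → F → G) (xl : BI n → V → F → G) : Prop where
  add : ∀ a b, a.1 ≠ b.1 → ∀ s t, xs a b (s + t) = xs a b s * xs a b t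
  swap : ∀ a b, a.1 ≠ b.1 → ∀ t, xs a b t = xs b a (-(P.ε * P.σ t))
  mul : ∀ a w ν w' ν', LP Fr w ν → LP Fr w' ν' →
    xl a w ν * xl a w' ν' = xl a (w + w') (ν + ν' + P.f w' w)
  c2s : ∀ a b c e, a.1 ≠ b.1 → c.1 ≠ e.1 → c ≠ ng a → c ≠ ng b → e ≠ ng a → e ≠ ng b →
    ∀ s t, Commute (xs a b s) (xs c e t)
  c2l : ∀ a b c, a.1 ≠ b.1 → c ≠ ng a → c ≠ ng b → ∀ s w ν, LP Fr w ν →
    Commute (xs a b s) (xl c w ν)
  c3 : ∀ a c, a.1 ≠ c.1 → ∀ v ν w μ, LP Fr v ν → LP Fr w μ →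
    ⁅xl a v ν, xl c w μ⁆ = xs c a (-(P.ε * P.f w v))
  c4 : ∀ a b c, a.1 ≠ b.1 → a.1 ≠ c.1 → b.1 ≠ c.1 → ∀ s t,
    ⁅xs a b s, xs c (ng a) t⁆ = xs c b (P.f (Fr.e (ng a)) (Fr.e a) * s * t)
  c4' : ∀ a b, a.1 ≠ b.1 → ∀ s t, ⁅xs a b s, xs b (ng a) t⁆ =
    xl b 0 (P.σ (P.f (Fr.e (ng a)) (Fr.e a) * s * t) - P.ε * (P.f (Fr.e (ng a)) (Fr.e a) * s * t))
  c5 : ∀ a b, a.1 ≠ b.1 → ∀ s w ν, LP Fr w ν → ⁅xs b (ng a) s, xl a w ν⁆ =
    xs b a (P.ε * ν * (s * P.f (Fr.e (ng a)) (Fr.e a))) *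
      xl b (-(s * P.f (Fr.e (ng a)) (Fr.e a)) • w)
        (s * P.f (Fr.e (ng a)) (Fr.e a) * P.σ (s * P.f (Fr.e (ng a)) (Fr.e a)) * ν)

/-- The relations in characteristic two for a normalized frame. -/
structure FRel2 (xs : BI n → BI n → F → G) (xl : BI n → V → F → G) : Prop where
  two : (2 : F) = 0
  nrm : Fr.Norm
  add : ∀ a b, a.1 ≠ b.1 → ∀ s t, xs a b (s + t) = xs a b s * xs a b t
  swap : ∀ a b, a.1 ≠ b.1 → ∀ t, xs a b t = xs b a (P.σ t)
  mul : ∀ a w ν w' ν', LP Fr w ν → LP Fr w' ν' →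
    xl a w ν * xl a w' ν' = xl a (w + w') (ν + ν' + P.f w' w)
  c2s : ∀ a b c e, a.1 ≠ b.1 → c.1 ≠ e.1 → c ≠ ng a → c ≠ ng b → e ≠ ng a → e ≠ ng b →
    ∀ s t, Commute (xs a b s) (xs c e t)
  c2l : ∀ a b c, a.1 ≠ b.1 → c ≠ ng a → c ≠ ng b → ∀ s w ν, LP Fr w ν →
    Commute (xs a b s) (xl c w ν)
  c3 : ∀ a c, a.1 ≠ c.1 → ∀ v ν w μ, LP Fr v ν → LP Fr w μ →
    ⁅xl a v ν, xl c w μ⁆ = xs c a (P.f w v)
  c4 : ∀ a b c, a.1 ≠ b.1 → a.1 ≠ c.1 → b.1 ≠ c.1 → ∀ s t,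
    ⁅xs a b s, xs c (ng a) t⁆ = xs c b (s * t)
  c4' : ∀ a b, a.1 ≠ b.1 → ∀ s t, ⁅xs a b s, xs b (ng a) t⁆ = xl b 0 (P.σ (s * t) + s * t)
  c5 : ∀ a b, a.1 ≠ b.1 → ∀ s w ν, LP Fr w ν → ⁅xs b (ng a) s, xl a w ν⁆ =
    xs b a (ν * s) * xl b (s • w) (s * P.σ s * ν)

/-- The group generated by the root elements. -/
def Gen (xs : BI n → BI n → F → G) (xl : BI n → V → F → G) : Subgroup G :=
  closure ({g | ∃ a b t, a.1 ≠ b.1 ∧ g = xs a b t} ∪ {g | ∃ a w ν, LP Fr w ν ∧ g = xl a w ν})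

/-- `φ` maps the root elements of the frame to the given elements. -/
structure Cmp (φ : P.E →* G) (xs : BI n → BI n → F → G) (xl : BI n → V → F → G) : Prop where
  hs : ∀ a b, a.1 ≠ b.1 → ∀ t, φ (xE Fr a b t) = xs a b t
  hl : ∀ a w ν, LP Fr w ν → φ (eE P (Fr.e a) w ν) = xl a w ν
  rng : φ.range = Gen Fr xs xl

/-- The frame has anisotropic kernel and roots `2 e_a`. -/
structure FrOK : Prop where
  aniso : Fr.Aniso
  long : ∃ w ν, LP Fr w ν ∧ ν ≠ 0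
  two : 2 ≤ n

variable {Fr}

theorem LP.ev {w : V} {ν : F} (h : LP Fr w ν) (a : BI n) : P.EV (Fr.e a) w ν :=
  ⟨Fr.sing a, f_V0 h.1 a, h.2⟩

theorem LP.of_ev {w : V} {ν : F} {a : BI n} (hw : w ∈ Fr.V0) (h : P.EV (Fr.e a) w ν) :
    LP Fr w ν := ⟨hw, h.nu⟩

theorem xs_mem_Gen {xs : BI n → BI n → F → G} {xl : BI n → V → F → G} {a b : BI n}
    (h : a.1 ≠ b.1) (t : F) : xs a b t ∈ Gen Fr xs xl := subset_closure (Or.inl ⟨a, b, t, h, rfl⟩)

theorem xl_mem_Gen {xs : BI n → BI n → F → G} {xl : BI n → V → F → G} (a : BI n) {w : V} {ν : F}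
    (h : LP Fr w ν) : xl a w ν ∈ Gen Fr xs xl := subset_closure (Or.inr ⟨a, w, ν, h, rfl⟩)

theorem Gen_le {xs : BI n → BI n → F → G} {xl : BI n → V → F → G} {H : Subgroup G}
    (h1 : ∀ a b, a.1 ≠ b.1 → ∀ t, xs a b t ∈ H) (h2 : ∀ a w ν, LP Fr w ν → xl a w ν ∈ H) :
    Gen Fr xs xl ≤ H := by
  rw [Gen, closure_le]
  rintro _ (⟨a, b, t, h, rfl⟩ | ⟨a, w, ν, h, rfl⟩)
  exacts [h1 a b h t, h2 a w ν h]

theorem eps_one (P : PForm F V) (h2 : (2 : F) = 0) : P.ε = 1 := by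
  rcases P.ε_cases with h | h
  · exact h
  · rw [h]; linear_combination -h2

theorem pair_one (h2 : (2 : F) = 0) (hN : Fr.Norm) (a : BI n) :
    P.f (Fr.e (ng a)) (Fr.e a) = 1 := by
  rcases a with ⟨i, _ | _⟩
  · exact (f_symm_one (hN i)).trans (eps_one P h2)
  · exact hN i

theorem FRel2.rel {xs : BI n → BI n → F → G} {xl : BI n → V → F → G} (h : FRel2 Fr xs xl) :
    FRel Fr xs xl := by
  have h1 := eps_one P h.two
  have h2 := pair_one h.two h.nrm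
  have h3 : ∀ x : F, -x = x := fun x => by linear_combination -x * h.two
  refine ⟨h.add, fun a b hab t => ?_, h.mul, h.c2s, h.c2l, fun a c hac v ν w μ hv hw => ?_,
    fun a b c h4 h5 h6 s t => ?_, fun a b hab s t => ?_, fun a b hab s w ν hw => ?_⟩
  · rw [h1, one_mul, h3]; exact h.swap a b hab t
  · rw [h1, one_mul, h3]; exact h.c3 a c hac v ν w μ hv hw
  · rw [h2, one_mul]; exact h.c4 a b c h4 h5 h6 s t
  · rw [h2, one_mul, h1, one_mul, sub_eq_add_neg, h3]; exact h.c4' a b hab s t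
  · rw [h2, mul_one, h1, one_mul, h3]; exact h.c5 a b hab s w ν hw

theorem FRel.rel2 {xs : BI n → BI n → F → G} {xl : BI n → V → F → G} (h : FRel Fr xs xl)
    (two : (2 : F) = 0) (nrm : Fr.Norm) : FRel2 Fr xs xl := by
  have h1 := eps_one P two
  have h2 := pair_one two nrm
  have h3 : ∀ x : F, -x = x := fun x => by linear_combination -x * two
  refine ⟨two, nrm, h.add, fun a b hab t => ?_, h.mul, h.c2s, h.c2l,
    fun a c hac v ν w μ hv hw => ?_, fun a b c h4 h5 h6 s t => ?_, fun a b hab s t => ?_,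
    fun a b hab s w ν hw => ?_⟩
  · have := h.swap a b hab t
    rwa [h1, one_mul, h3] at this
  · have := h.c3 a c hac v ν w μ hv hw
    rwa [h1, one_mul, h3] at this
  · have := h.c4 a b c h4 h5 h6 s t
    rwa [h2, one_mul] at this
  · have := h.c4' a b hab s t
    rwa [h2, one_mul, h1, one_mul, sub_eq_add_neg, h3] at this
  · have := h.c5 a b hab s w ν hw
    rwa [h2, mul_one, h1, one_mul, h3] at this

variable (Fr) in
/-- The model satisfies the relations. -/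
theorem fRel_model : FRel Fr (xE Fr) (fun a w ν => eE P (Fr.e a) w ν) := by
  have hs := bcSys_XE (Fr := Fr) (d := True) (fun h => absurd trivial h)
  refine ⟨fun a b h => xE_add (fst_ne_iff.1 h).2, fun a b h => xE_swap (fst_ne_iff.1 h).2,
    fun a w ν w' ν' h h' => eE_mul (h.ev a) (h'.ev a),
    fun a b c e h h' h1 h2 h3 h4 s t => hs.c2 a b c e h (fst_ne_iff.1 h').2 h1 h2 h3 h4 _
      (xE_mem (fst_ne_iff.1 h).2 s) _ (xE_mem (fst_ne_iff.1 h').2 t),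
    fun a b c h h1 h2 s w ν hw => hs.c2 a b c c h (ne_ng c) h1 h2 h1 h2 _
      (xE_mem (fst_ne_iff.1 h).2 s) _ (eE_mem hw.1 (hw.ev c)),
    fun a c hac v ν w μ hv hw => ?_,
    fun a b c h1 h2 h3 s t => xE_commutator h1 h2 (fst_ne_iff.1 h3).2 s t,
    fun a b h s t => ?_, fun a b h s w ν hw => commutator_long h hw.1 (hw.ev a) s⟩
  · obtain ⟨h1, h2⟩ := fst_ne_iff.1 hac
    apply Subtype.ext
    change ⁅eT P _ _ _, eT P _ _ _⁆ = Fr.xs c a _
    have hx := eT_mem_XL hv.1 (hv.ev a)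
    rw [(eT_commutator (X_le_isom a a hx) (X_apply_e h2 h2 hx) (hw.ev c)).2, eT_apply (hv.ev a),
      f_V0 hw.1, xs]
    congr 1
    · module
    · simp [f_sub_right, f_smul_right, f_V0 hw.1]
  · rw [xE_commutator h h (ne_ng b)]
    generalize P.f (Fr.e (ng a)) (Fr.e a) * s * t = r
    apply Subtype.ext
    change eT P _ _ _ = eT P _ _ _
    have h1 : P.EV (Fr.e b) 0 (P.σ r - P.ε * r) := by
      refine EV.of_mem (Fr.sing b) ?_
      have := P.Λ_ge (P.σ r)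
      rwa [P.σσ] at this
    ext x
    rw [eT_apply (Fr.ev_xs (ne_ng b) r), eT_apply h1, f_smul_right, P.f_zero_right, smul_smul,
      smul_zero]
    have := P.ε_sq
    have e : P.ε * (0 + (P.σ r - P.ε * r) * P.f x (Fr.e b)) =
        P.ε * (P.σ r * P.f x (Fr.e b) + 0 * P.f x (Fr.e b)) - P.f x (Fr.e b) * r := by
      linear_combination (-(r * P.f x (Fr.e b))) * this
    rw [e]
    module

end defs

/-- **FrHom**: with trivial multiplier the root elements define a homomorphism. -/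
def FrHomStmt : Prop :=
  ∀ {F V : Type v} [Field F] [Finite F] [AddCommGroup V] [Module F V] [FiniteDimensional F V]
    {P : PForm F V} {n : ℕ} (Fr : Frame P n) {G : Type u} [Group G] [Finite G]
    (xs : BI n → BI n → F → G) (xl : BI n → V → F → G), FrOK Fr → (3 ≤ n ∨ 4 ≤ Nat.card F) →
    Cfsg.HasCyclicSchurMultiplier P.E 1 → FRel Fr xs xl → ∃ φ : P.E →* G, Cmp Fr φ xs xl

/-- **FrRec**: the generated group maps onto the projective group, compatibly with the root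
elements (rank at least two). -/
def FrRecStmt : Prop :=
  ∀ {F V : Type v} [Field F] [Finite F] [AddCommGroup V] [Module F V] [FiniteDimensional F V]
    {P : PForm F V} {n : ℕ} (Fr : Frame P n) {G : Type u} [Group G]
    (xs : BI n → BI n → F → G) (xl : BI n → V → F → G), FrOK Fr → (3 ≤ n ∨ 4 ≤ Nat.card F) →
    IsQuasisimple P.E → FRel Fr xs xl → Gen Fr xs xl ≠ ⊥ →
    IsQuasisimple (Gen Fr xs xl) ∧ ∃ f : Gen Fr xs xl →* P.E ⧸ center P.E, Function.Surjective f ∧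
      f.ker = center (Gen Fr xs xl) ∧
      (∀ a b (h : a.1 ≠ b.1) t, f ⟨xs a b t, xs_mem_Gen h t⟩ = QuotientGroup.mk (xE Fr a b t)) ∧
      ∀ a w ν (h : LP Fr w ν),
        f ⟨xl a w ν, xl_mem_Gen a h⟩ = QuotientGroup.mk (eE P (Fr.e a) w ν)

end Cfsg.Agent.H34.FR
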