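import Cfsg.Agent.H34.PEnd
import Cfsg.Agent.H34.PDefs2

/-! # The type free end game for a point parabolic, when `Z` is not cyclic -/

set_option autoImplicit false
set_option linter.style.haveILetI false
set_option linter.unusedSectionVars false

namespace Cfsg.Agent.H34.UE4

open Cfsg Cfsg.Agent.H63 Cfsg.Agent.H63.SL Cfsg.Agent.H34 Cfsg.Agent.H27.End Subgroup
open Cfsg.Agent.H34.TW (YZ YZ_le mem_YZ conj_C conj_YZ cj_le conj_mem_cj)
open Cfsg.Agent.H34.UE (EI RC Geo NY Simp4 Mv4 MidP alt_not_con holt)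
open Cfsg.Agent.H8
open scoped commutatorElement Pointwise

universe u

variable {G : Type u} [Group G]

/-- The facts on `G0` and its normalizer. -/
structure LocP (G0 U Q Z : Subgroup G) (z t : G) : Prop where
  syl : IsSylowIn 2 U G0
  QU : Q ≤ U
  ZQ : Z ≤ Q
  zZ : z ∈ Z
  z1 : z ≠ 1
  Z2 : ∀ w ∈ Z, w * w = 1
  UC : U ≤ C[Z]
  odd : Odd (Nat.card C[G0])
  tN : t ∈ N[G0]
  t2 : orderOf t = 2
  nQ : N[G0] ⊓ N[Z] ≤ N[Q]
  ti : N[G0] ⊓ C1[z] ≤ N[Z]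
  nrs : ∀ m ∈ N[G0], m * z * m⁻¹ ∈ Rt G0 z
  rZ : ∀ w ∈ Z, w ≠ 1 → w ∈ Rt G0 z
  sq : ∀ x ∈ Q, x * x ∈ Z
  com : ⁅Q, Q⁆ = Z
  triv : ∀ g ∈ N[G0] ⊓ C[Z], (∀ y ∈ Q, ⁅g, y⁆ ∈ Z) → g ∈ Q ⊔ C[G0]
  cQ2 : N[G0] ⊓ C[Q] ≤ Z ⊔ C[G0]
  genE : Q ≤ Z ⊔ closure (EI Q Z)
  genY : YZ G0 Z ≤ closure (RC G0 Z z)
  genR : G0 ≤ closure (Rt G0 z)
  perf : ⁅G0, G0⁆ = G0
  big : 16 * Nat.card Z ≤ Nat.card Q
  big2 : 128 ≤ Nat.card Q
  out : ∀ x ∈ N[G0], Is2 x → x ∉ G0 → ∃ j m : ℕ, Odd m ∧ (x ^ j * t) ^ m ∈ G0 ⊔ C[G0]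
  geo : Geo G0 Q Z z
  simp : Simp4 G0 Q Z z
  ny : NY G0 Q Z z
  mv : Mv4 G0 Q Z z t
  four : ∀ w ∈ Z, ∃ d ∈ Z, d ≠ 1 ∧ d * w ≠ 1

variable [Finite G] {X G0 U Q Z : Subgroup G} {z t : G}

namespace LocP

variable (h : LocP G0 U Q Z z t)
include h

theorem tt : t * t = 1 := by rw [← pow_two, ← h.t2, pow_orderOf_eq_one]
theorem UG : U ≤ G0 := h.syl.le
theorem U2 : IsPGroup 2 U := h.syl.isPGroup
theorem ZU : Z ≤ U := h.ZQ.trans h.QU
theorem zU : z ∈ U := h.ZU h.zZ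
theorem zG : z ∈ G0 := h.UG h.zU
theorem UM : U ≤ N[G0] := h.UG.trans le_normalizer
theorem tZ : t ∈ N[Z] := h.ti ⟨h.tN, mem_C1.2 h.mv.tz⟩
theorem tQ : t ∈ N[Q] := h.nQ ⟨h.tN, h.tZ⟩
theorem CQ' : G0 ⊓ C[Z] ≤ N[Q] := fun _ hc =>
  h.nQ ⟨le_normalizer hc.1, centralizer_le_normalizer _ hc.2⟩
theorem UC0 : U ≤ G0 ⊓ C[Z] := le_inf h.UG h.UC
theorem UQ : U ≤ N[Q] := h.UC0.trans h.CQ'
theorem UZ : U ≤ N[Z] := h.UC.trans (centralizer_le_normalizer _)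
theorem Q2 : IsPGroup 2 Q := h.U2.to_le h.QU
theorem comQ {x y : G} (hx : x ∈ Q) (hy : y ∈ Q) : ⁅x, y⁆ ∈ Z :=
  h.com ▸ commutator_mem_commutator hx hy
theorem z_rt : z ∈ Rt G0 z := ⟨1, one_mem _, by group⟩
theorem rt_le {r : G} (hr : r ∈ Rt G0 z) : r ∈ G0 := by
  obtain ⟨m, hm, rfl⟩ := hr
  exact mul_mem (mul_mem hm h.zG) (inv_mem hm)
theorem rt_sq {r : G} (hr : r ∈ Rt G0 z) : r * r = 1 := by
  obtain ⟨m, -, rfl⟩ := hr
  rw [conj_mul, h.Z2 z h.zZ]; group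
theorem rt_conj {r m : G} (hr : r ∈ Rt G0 z) (hm : m ∈ N[G0]) : m * r * m⁻¹ ∈ Rt G0 z := by
  obtain ⟨c, hc, rfl⟩ := hr
  have := h.nrs _ (mul_mem hm (le_normalizer hc))
  rwa [show m * c * z * (m * c)⁻¹ = m * (c * z * c⁻¹) * m⁻¹ by group] at this
theorem rc_conj {r m : G} (hr : r ∈ RC G0 Z z) (hm : m ∈ N[G0]) (hz : m ∈ N[Z]) :
    m * r * m⁻¹ ∈ RC G0 Z z := ⟨h.rt_conj hr.1 hm, conj_C hz hr.2⟩
theorem rc_Y {r : G} (hr : r ∈ RC G0 Z z) : r ∈ YZ G0 Z :=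
  mem_YZ (h.rt_le hr.1) hr.2 (is2_of_sq (h.rt_sq hr.1))
theorem UY : U ≤ YZ G0 Z := fun _ hu => mem_YZ (h.UG hu) (h.UC hu) (is2_of_mem h.U2 hu)

theorem cQ {u : G} (hu : u ∈ U) (hx : ∀ x ∈ Q, ⁅u, x⁆ ∈ Z) : u ∈ Q :=
  mem_of_two ((centralizer_le (h.QU.trans h.UG)).trans (centralizer_le_normalizer _)) h.odd
    (h.triv u ⟨h.UM hu, h.UC hu⟩ hx) (is2_of_mem h.U2 hu)

theorem ne : ¬ U ≤ Q := fun e => by
  obtain ⟨r, hr, h1⟩ := h.simp.ne
  obtain ⟨c, hc, hc'⟩ := (h.syl.mono h.UC0 inf_le_left).exists_conj_le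
    (isPGroup_zpowers (is2_of_sq (h.rt_sq hr.1))) (zpowers_le.2 ⟨h.rt_le hr.1, hr.2⟩)
  exact h1 ((mem_normalizer_iff.1 (h.CQ' hc) r).2 (e (hc' (conj_mem_conj_smul.2 (mem_zpowers r)))))

theorem star {b : G} (hb : b ∈ U) (b2 : b * b ∈ Z) {V : Subgroup G} (h1 : Z ≤ V)
    (h3 : ∀ v ∈ V, ⁅v, b⁆ ∈ Z) (h4 : ∀ e ∈ EI Q Z, ⁅e, b⁆ ∈ V → e ∈ V) : b ∈ Q := by
  have k : ∀ x ∈ Q, ⁅x, b⁆ ∈ V := fun x hx => by
    by_cases e : ⁅x, b⁆ ∈ Z
    · exact h1 e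
    have c2 := h.geo.sq2 b (h.UC0 hb) b2 x hx
    refine h4 _ ⟨comm_mem_left (h.UQ hb) hx, c2, e⟩ ?_
    have c3 := (comm_of_C (h.UC (h.QU (inv_mem hx))) b2).eq
    have c4 : b * ⁅x, b⁆ * b⁻¹ = ⁅x, b⁆⁻¹ := by
      calc _ = b * x * b⁻¹ * (b * b * x⁻¹) * (b * b)⁻¹ := by rw [commutatorElement_def]; group
        _ = _ := by rw [← c3, commutatorElement_def]; group
    rw [commutatorElement_def, mul_assoc, mul_assoc, ← mul_assoc b, inv_eq_of_mul_eq_one_right c2, c4,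
      mul_inv_cancel]
    exact one_mem _
  have k2 : Q ≤ V := h.genE.trans (sup_le h1 ((closure_le _).2 fun e he => h4 e he (k e he.1)))
  exact h.cQ hb fun x hx => comm_sym (h3 x (k2 hx))

theorem mem_DD {c : G} (hc : c ∈ G0 ⊓ C[Z]) : c * t * c⁻¹ * t ∈ DD (G0 ⊓ C[Z]) t :=
  subset_closure ⟨_, ⟨c, hc, rfl⟩, t, ⟨1, one_mem _, by group⟩, rfl⟩

theorem ddQ : Q ≤ DD (G0 ⊓ C[Z]) t := by
  have hN : G0 ⊓ C[Z] ≤ N[DD (G0 ⊓ C[Z]) t] := fun _ hc => N_DD hc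
  have hZ : G0 ⊓ C[Z] ≤ N[Z] := inf_le_right.trans (centralizer_le_normalizer _)
  have QC := h.QU.trans h.UC0
  rcases h.simp.irrC (DD (G0 ⊓ C[Z]) t ⊓ Q ⊔ Z) le_sup_right (sup_le inf_le_right h.ZQ)
    (fun y hy => mem_N_of_conj fun _ hx => sup_conj (fun a ha => mem_sup_left
      (conj_mem (N_inf (hN hy) (h.CQ' hy)) ha))
      (fun a ha => mem_sup_right (conj_mem (hZ hy) ha)) hx) with e | e
  · obtain ⟨x, hx, h1⟩ := h.mv.mvQ
    refine absurd (comm_sym (e (mem_sup_left ⟨?_, comm_mem_left h.tQ hx⟩))) h1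
    rw [commutatorElement_def, inv_eq_of_mul_eq_one_right h.tt]
    exact h.mem_DD (QC hx)
  refine e.trans (sup_le inf_le_left (h.com.ge.trans (commutator_le.2 fun a ha b hb => ?_)))
  obtain ⟨d, hd, w, hw, rfl⟩ := (H67.mem_sup_of_le_normalizer'
    (h.ZQ.trans fun x hx => N_inf (hN (QC hx)) (le_normalizer hx))).1 (e ha)
  rw [comm_mul_l, commutatorElement_eq_one_iff_commute.2 (comm_of_C (h.UC (h.QU hb)) hw).symm, mul_one,
    mul_inv_cancel, one_mul]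
  exact comm_mem_left (hN (QC hb)) hd.1

theorem oddN {K : Subgroup G} (h1 : Q ≤ K) (h2 : K ≤ G0 ⊓ C[Z]) (h3 : G0 ⊓ C[Z] ≤ N[K])
    (h4 : ∀ g ∈ K, Is2 g → g ∈ Q) {g : G} (hg : g ∈ K) {y : G} (hy : y ∈ YZ G0 Z) :
    ⁅g, y⁆ ∈ Q := by
  have hy' := h.genY hy
  clear hy
  induction hy' using closure_induction with
  | mem r hr =>
    have e : ⁅g, r⁆ = g * r * g⁻¹ * r := by
      rw [commutatorElement_def, inv_eq_of_mul_eq_one_right (h.rt_sq hr.1)]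
    rw [e]
    refine (h.simp.simp K h3 h1 _ (h.rc_conj hr (le_normalizer (h2 hg).1)
      (centralizer_le_normalizer _ (h2 hg).2)) r hr
      (e ▸ comm_mem_left (h3 (YZ_le (h.rc_Y hr))) hg)).resolve_right fun k => ?_
    exact h.ne fun u hu => h4 u (k (h.UY hu)) (is2_of_mem h.U2 hu)
  | one => simp
  | mul a b ha hb ia ib =>
    rw [comm_mul_r]
    exact mul_mem ia (conj_mem (h.CQ' (YZ_le ((closure_le _).2 (fun _ => h.rc_Y) ha))) ib)
  | inv a ha ia =>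
    have := conj_mem (inv_mem (h.CQ' (YZ_le ((closure_le _).2 (fun _ => h.rc_Y) ha)))) (inv_mem ia)
    convert this using 1
    simp only [commutatorElement_def]; group

open Cfsg.Agent.H69.SlE in
theorem mid (H : Glob X G0 t) (tX : t ∉ X) : MidP X G0 U := by
  have := H.nrm
  have t2 := h.tt
  have ev : ∀ g : G, g * g ∈ X := fun g => by
    obtain ⟨x, hx, _, ⟨i, rfl⟩, rfl⟩ := mem_sup_of_normal_left.1 (H.gen.ge (mem_top g))
    have e : t ^ i * t ^ i = 1 := by rw [← (Commute.refl t).mul_zpow, t2, one_zpow]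
    rw [show x * t ^ i * (x * t ^ i) = x * (t ^ i * x * (t ^ i)⁻¹) * (t ^ i * t ^ i) by group, e,
      mul_one]
    exact mul_mem hx (H.nrm.conj_mem x hx _)
  have od : ∀ (g : G) (m : ℕ), Odd m → g ^ m ∈ X → g ∈ X := by
    rintro g _ ⟨j, rfl⟩ hg
    rwa [pow_succ, pow_mul, pow_two, mul_mem_cancel_left (pow_mem (ev g) j)] at hg
  have CX : C[G0] ≤ X := fun k hk =>
    od k _ (odd_orderOf_of_mem h.odd hk) (by rw [pow_orderOf_eq_one]; exact one_mem _)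
  have two : ∀ x ∈ N[G0], x ∈ X → Is2 x → x ∈ G0 := fun x h1 h2 h3 => by
    by_contra n
    obtain ⟨j, m, hm, k⟩ := h.out x h1 h3 n
    exact tX ((mul_mem_cancel_left (pow_mem h2 j)).1 (od _ m hm (sup_le H.le CX k)))
  have good : ∀ j ∈ G0, j * j = 1 → Good N[G0] t j := fun j hj j2 => by
    obtain ⟨m, hm, k⟩ := h.mv.inv j hj j2
    refine ⟨m⁻¹, inv_mem (le_normalizer hm), ?_⟩
    calc _ = m⁻¹ * (t * (m * j * m⁻¹)) * m := by group
      _ = _ := by rw [k.eq]; group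
  obtain ⟨S, hS, hle⟩ := exists_isSylowIn_ge (pg_inv t2) (zpowers_le.2 h.tN)
  have sX := (syl_top hS (hle (mem_zpowers t)) H.e0).inf_of_le_normalizer (N := X)
    (normalizer_eq_top X).ge
  rw [top_inf_eq] at sX
  refine ⟨sX.of_card_ge h.U2 (h.UG.trans H.le) (h.syl.card_le sX.isPGroup fun x hx =>
    two x (hS.le hx.1) hx.2 (is2_of_mem hS.isPGroup hx.1)), fun g j hj j2 hg => ?_⟩
  have c2 : g * j * g⁻¹ * (g * j * g⁻¹) = 1 := by rw [conj_mul, j2]; group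
  exact fixc t2 h.tN H.e0 (good j hj j2)
    (good _ (two _ hg (H.nrm.conj_mem j (H.le hj) g) (is2_of_sq c2)) c2)

/-- The conjugates of `t` under `C_{G0}(Z)`. -/
theorem d0 (hG : Glob X G0 t) {d : G} (hd : d ∈ {d | ∃ c ∈ G0 ⊓ C[Z], d = c * t * c⁻¹}) :
    d * d = 1 ∧ d ∈ N[G0] ∧ Fix1 N[G0] {d} ∧ d ∈ N[Z] ∧ d ∈ N[Q] ∧ Commute d z ∧ d ∈ N[X] := by
  obtain ⟨c, hc, rfl⟩ := hd
  haveI := hG.nrm
  have h1 : c ∈ N[G0] := le_normalizer hc.1
  have h2 : c ∈ N[Z] := centralizer_le_normalizer _ hc.2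
  have h3 := comm_of_C hc.2 h.zZ
  refine ⟨by rw [← pow_two, conj_pow, pow_two, h.tt]; group, conj_mem (N_N h1) h.tN,
    Fix1.conj hG.e0 h1, conj_mem (N_N h2) h.tZ, conj_mem (N_N (h.CQ' hc)) h.tQ,
    (h3.mul_left h.mv.tz).mul_left h3.inv_left,
    le_normalizer_of_normal (H := X) (K := ⊤) (mem_top _)⟩

/-- The signalizer step. -/
theorem sig (hG : Glob X G0 t) {O : Subgroup G} (hO : Odd (Nat.card O))
    (h1 : O ≤ C1[z]) (h2 : Q ≤ N[O])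
    (h3 : ∀ d ∈ {d | ∃ c ∈ G0 ⊓ C[Z], d = c * t * c⁻¹}, d ∈ N[O]) : O ≤ C[Q] := by
  refine d2 O Q _ hO h.Q2 (fun d hd => ?_) h.ddQ
  obtain ⟨a1, a2, a3, -, a5, -⟩ := h.d0 hG hd
  refine ⟨a1, h3 d hd, a5, fun o ho => mem_C fun x hx => ?_⟩
  have b1 : o ∈ N[G0] := Fix1.mem a3 (by rw [(mem_C1.1 ho.2).eq, mul_inv_cancel_right]; exact a2)
  have b2 : o ∈ N[Q] := h.nQ ⟨b1, h.ti ⟨b1, h1 ho.1⟩⟩
  exact commutatorElement_eq_one_iff_commute.1 (eq_one_of_is2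
    (is2_of_mem h.Q2 (comm_mem_right b2 hx)) (odd_orderOf_of_mem hO (comm_mem_left (h2 hx) ho.1)))

variable (hM : MidP X G0 U)
include hM

theorem fusR (g : G) {r : G} (hr : r ∈ Rt G0 z) (hg : g * r * g⁻¹ ∈ N[G0]) :
    g * r * g⁻¹ ∈ Rt G0 z := by
  obtain ⟨m, hm, e⟩ := hM.fus g r (h.rt_le hr) (h.rt_sq hr) hg
  exact e ▸ h.rt_conj hr hm

theorem w1 {g e : G} (hg : g ∈ N[Z]) (he : e ∈ EI Q Z) (hU : g * e * g⁻¹ ∈ U) :
    g * e * g⁻¹ ∈ EI Q Z := by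
  refine ⟨h.geo.geoE _ (h.UC0 hU) fun w hw => ?_, by rw [conj_mul, he.2.1]; group,
    fun k => he.2.2 ((mem_normalizer_iff.1 hg e).2 k)⟩
  have hw' := conj_mem (inv_mem hg) hw
  have e1 : g * e * g⁻¹ * w = g * (e * (g⁻¹ * w * g⁻¹⁻¹)) * g⁻¹ := by group
  generalize g⁻¹ * w * g⁻¹⁻¹ = w' at hw' e1
  have k : e * w' ∈ EI Q Z := ⟨mul_mem he.1 (h.ZQ hw'), by
    rw [(comm_of_C (h.UC (h.QU he.1)) hw').symm.mul_mul_mul_comm, he.2.1, h.Z2 _ hw', one_mul],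
    fun k => he.2.2 ((Z.mul_mem_cancel_right hw').1 k)⟩
  obtain ⟨m, hm, e2⟩ := hM.fus g _ (h.UG (h.QU k.1)) k.2.1 (e1 ▸ h.UM (mul_mem hU (h.ZU hw)))
  exact ⟨m, hm, _, k, e1.trans e2.symm⟩

theorem w1' {g : G} (hg : g ∈ N[Z]) (hU : ∀ x ∈ Q, g * x * g⁻¹ ∈ U) : g ∈ N[Q] :=
  mem_N_of_conj fun _ hx => sup_conj (fun _ hw => h.ZQ (conj_mem hg hw))
    (fun _ hw => closure_conj (fun e he => (h.w1 hM hg he (hU e he.1)).1) hw) (h.genE hx)

theorem sylH : IsSylowIn 2 U (X ⊓ C[Z]) := hM.syl.mono (le_inf hM.syl.le h.UC) inf_le_left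

theorem w2 {Y : Subgroup G} (hY : Y ≤ X ⊓ C[Z]) {g e : G} (hg : g ∈ X ⊓ C[Z])
    (hQ : MulAut.conj g • Q ≤ Y) (he : e ∈ EI Q Z) (heY : e ∈ Y) :
    ∃ y ∈ Y, y * e * y⁻¹ ∈ MulAut.conj g • Q := by
  obtain ⟨P, hP, hle⟩ := exists_isSylowIn_ge (isPGroup_conj_smul h.Q2 g) hQ
  obtain ⟨y, hy, hy'⟩ := hP.exists_conj_le (isPGroup_zpowers (is2_of_mem h.Q2 he.1))
    (zpowers_le.2 heY)
  obtain ⟨k, hk, hk'⟩ := (h.sylH hM).exists_conj_le hP.isPGroup (hP.le.trans hY)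
  have hN : ∀ a ∈ X ⊓ C[Z], a ∈ N[Z] := fun a ha => centralizer_le_normalizer _ ha.2
  have h1 : k * g ∈ N[Q] := h.w1' hM (hN _ (mul_mem hk hg)) fun x hx => by
    have := hk' (conj_mem_conj_smul.2 (hle (conj_mem_conj_smul.2 hx)))
    simpa [mul_assoc] using this
  have h2 := (h.w1 hM (hN _ (mul_mem hk (hY hy))) he (by
    have := hk' (conj_mem_conj_smul.2 (hy' (conj_mem_conj_smul.2 (mem_zpowers e))))
    simpa [mul_assoc] using this)).1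
  refine ⟨y, hy, mem_conj_smul.2 ?_⟩
  have := conj_mem (inv_mem h1) h2
  simpa [mul_assoc] using this

theorem sc : ∀ x ∈ Q, ∀ g ∈ X ⊓ C[Z], g * x * g⁻¹ ∈ U → g * x * g⁻¹ ∈ Q := by
  intro x hx g hg hb
  have hb0 : g * x * g⁻¹ ∈ MulAut.conj g • Q := conj_mem_conj_smul.2 hx
  generalize g * x * g⁻¹ = b at hb hb0 ⊢
  obtain ⟨V, -, ⟨k, hk, hbk, rfl⟩, hmax⟩ := exists_maximal_ge
    (fun V : Subgroup G => ∃ k ∈ X ⊓ C[Z], b ∈ MulAut.conj k • Q ∧ V = Q ⊓ MulAut.conj k • Q)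
    ⟨g, hg, hb0, rfl⟩
  have hkZ : k ∈ N[Z] := centralizer_le_normalizer _ hk.2
  have hZ : Z ≤ MulAut.conj k • Q := fun w hw =>
    mem_conj_smul.2 (h.ZQ (by simpa using conj_mem (inv_mem hkZ) hw))
  have hcom : ∀ a ∈ MulAut.conj k • Q, ∀ c ∈ MulAut.conj k • Q, ⁅a, c⁆ ∈ Z := fun a ha c hc => by
    have := conj_mem hkZ (h.comQ (mem_conj_smul.1 ha) (mem_conj_smul.1 hc))
    simpa [commutatorElement_def, mul_assoc] using this
  have hZV : Z ≤ Q ⊓ MulAut.conj k • Q := le_inf h.ZQ hZ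
  refine h.star hb ?_ hZV (fun v hv => hcom v hv.2 b hbk) fun e he hc => ?_
  · have := conj_mem hkZ (h.sq _ (mem_conj_smul.1 hbk))
    simpa [mul_assoc] using this
  set B := (Q ⊓ MulAut.conj k • Q) ⊔ zpowers b with hB
  have hBQ : B ≤ MulAut.conj k • Q := sup_le inf_le_right (zpowers_le.2 hbk)
  have hnorm : ∀ a : G, (∀ v ∈ Q ⊓ MulAut.conj k • Q, ⁅a, v⁆ ∈ B) → ⁅a, b⁆ ∈ B → a ∈ N[B] :=
    fun a h1 h2 => mem_N_of_conj fun y hy => sup_conj (fun v hv => by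
      have := mul_mem (h1 v hv) (mem_sup_left hv : v ∈ B)
      simpa [commutatorElement_def] using this) (by
      rintro _ ⟨n, rfl⟩
      have := mul_mem h2 (mem_sup_right (mem_zpowers b) : b ∈ B)
      rw [← conj_zpow]
      exact zpow_mem (by simpa [commutatorElement_def] using this) n) hy
  have hQH : MulAut.conj k • Q ≤ X ⊓ C[Z] := fun a ha => by
    have := mul_mem (mul_mem hk ((h.sylH hM).le (h.QU (mem_conj_smul.1 ha)))) (inv_mem hk)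
    simpa [mul_assoc] using this
  obtain ⟨y, hy, hy'⟩ := h.w2 hM (Y := (X ⊓ C[Z]) ⊓ N[B]) inf_le_left hk
    (le_inf hQH fun a ha => hnorm a (fun v hv => mem_sup_left (hZV (hcom a ha v hv.2)))
      (mem_sup_left (hZV (hcom a ha b hbk)))) he
    ⟨(h.sylH hM).le (h.QU he.1), hnorm e (fun v hv => mem_sup_left (hZV (h.comQ he.1 hv.1)))
      (mem_sup_left hc)⟩
  have h3 : ∀ a ∈ B, a ∈ MulAut.conj (y⁻¹ * k) • Q := fun a ha => mem_conj_smul.2 (by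
    have := mem_conj_smul.1 (hBQ (conj_mem hy.2 ha))
    simpa [mul_assoc] using this)
  have h4 := hmax (Q ⊓ MulAut.conj (y⁻¹ * k) • Q)
    ⟨_, mul_mem (inv_mem hy.1) hk, h3 b (mem_sup_right (mem_zpowers b)), rfl⟩
    (le_inf inf_le_left fun v hv => h3 v (mem_sup_left hv))
  rw [← h4]
  exact ⟨he.1, mem_conj_smul.2 (by simpa [mul_assoc] using mem_conj_smul.1 hy')⟩

theorem inf_NC : U ⊓ NC (X ⊓ C[Z]) Q = Q := by
  refine le_antisymm ?_ (le_inf h.QU le_NC)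
  by_contra hne
  obtain ⟨b, hb, hbQ⟩ := SetLike.not_le_iff_exists.1 hne
  obtain ⟨k, hk⟩ := is2_of_mem h.U2 hb.1
  have : ∀ k : ℕ, ∀ b ∈ U ⊓ NC (X ⊓ C[Z]) Q, b ^ 2 ^ k ∈ Q → b ∈ Q := by
    intro k
    induction k with
    | zero => intro b _ hb; simpa using hb
    | succ k ih =>
      intro b hb hk
      have h1 : b * b ∈ Q := ih _ (mul_mem hb hb) (by rwa [← pow_two, ← pow_mul, ← pow_succ'])
      obtain ⟨x, hx, hx2⟩ := h.geo.lift b (h.UC0 hb.1) h1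
      exact (Q.mul_mem_cancel_right hx).1 (gsq _ U Q Z (h.sylH hM) h.ZQ h.QU inf_le_right h.com.le
        (h.sc hM) _ (mul_mem hb ⟨h.QU hx, le_NC hx⟩) hx2)
  exact hbQ (this k b hb (by rw [hk]; exact one_mem _))

end LocP

theorem nq1 (h : LocP G0 U Q Z z t) (hG : Glob X G0 t) (hM : MidP X G0 U)
    (hJ : JP X U Q Z) : X ⊓ N[Z] ≤ N[Q] := by
  have h1 := h.inf_NC hM
  have hKH : NC (X ⊓ C[Z]) Q ≤ X ⊓ C[Z] := NC_le (h.QU.trans (h.sylH hM).le)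
  have h2 := (h.sylH hM).inf_of_le_normalizer (le_N_NC (A := Q))
  rw [h1, inf_of_le_right hKH] at h2
  obtain ⟨O, hO, hodd, hN, hle⟩ := bur _ Q Z h2 h.ZQ (hKH.trans inf_le_right) (hJ h1)
  have h3 := h.sig hG hodd (fun o ho => mem_C1.2 (comm_of_C (hKH (hO ho)).2 h.zZ))
    (le_NC.trans (le_normalizer.trans hN)) fun d hd => by
      obtain ⟨-, -, -, a4, a5, -, a7⟩ := h.d0 hG hd
      exact hN (N_NC (N_inf a7 (N_C a4)) a5)
  have h4 : X ⊓ C[Z] ≤ N[Q] := le_N_of_syl h2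
    (hle.trans (sup_le le_normalizer (h3.trans (centralizer_le_normalizer _)))) le_N_NC
  intro g hg
  haveI := hG.nrm
  have hgH : g ∈ N[X ⊓ C[Z]] := N_inf (le_normalizer hg.1) (N_C hg.2)
  have h5 : MulAut.conj g • Q ≤ U := (h.sylH hM).le_of_le_normalizer (isPGroup_conj_smul h.Q2 g)
    (fun a ha => by
      simpa [mul_assoc] using conj_mem hgH ((h.sylH hM).le (h.QU (mem_conj_smul.1 ha))))
    fun u hu => by
      rw [normalizer_conj_smul]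
      exact mem_conj_smul.2 (h4 (by simpa using conj_mem (inv_mem hgH) ((h.sylH hM).le hu)))
  exact h.w1' hM hg.2 fun x hx => h5 (conj_mem_conj_smul.2 hx)

theorem nz1 (h : LocP G0 U Q Z z t) (hG : Glob X G0 t) (hM : MidP X G0 U)
    (hQ : X ⊓ N[Z] ≤ N[Q]) : X ⊓ C1[z] ≤ N[Z] := by
  have hUz : U ≤ C1[z] := fun u hu => mem_C1.2 (comm_of_C (h.UC hu) h.zZ)
  have hS : IsSylowIn 2 U (X ⊓ C1[z]) := hM.syl.mono (le_inf hM.syl.le hUz) inf_le_left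
  have hsc : ∀ w ∈ Z, ∀ c ∈ X ⊓ C1[z], c * w * c⁻¹ ∈ U → c * w * c⁻¹ ∈ Z := by
    intro w hw c hc hU
    have hcz := mem_C1.1 hc.2
    by_contra hn
    have hw1 : w ≠ 1 := by rintro rfl; exact hn (by simp)
    have hwz : w * z ≠ 1 := fun e => by
      have : w = z := by rw [eq_inv_of_mul_eq_one_left e, inv_eq_of_mul_eq_one_right (h.Z2 z h.zZ)]
      rw [this, hcz.eq, mul_inv_cancel_right] at hn
      exact hn h.zZ
    have e1 : c * w * c⁻¹ * z = c * (w * z) * c⁻¹ := by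
      rw [mul_assoc (c * w), hcz.inv_left.eq]; group
    exact hn (h.geo.pt _ (h.fusR hM c (h.rZ w hw hw1) (h.UM hU)) (comm_of_C (h.UC hU) h.zZ)
      (e1 ▸ h.fusR hM c (h.rZ _ (mul_mem hw h.zZ) hwz) (e1 ▸ h.UM (mul_mem hU h.zU))))
  have hKC : NC (X ⊓ C1[z]) Z ≤ X ⊓ C1[z] := NC_le (h.ZU.trans hS.le)
  have hinv : ∀ i ∈ U ⊓ NC (X ⊓ C1[z]) Z, i * i = 1 → i ∈ Z := fun i hi hi2 =>
    gsq _ U Z ⊥ hS bot_le h.ZU le_C_bot (by
      rw [le_bot_iff, commutator_eq_bot_iff_le_centralizer]; exact h.ZU.trans h.UC) hsc i hi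
      (by rw [hi2]; exact one_mem _)
  have hUK : U ≤ N[NC (X ⊓ C1[z]) Z] := hS.le.trans le_N_NC
  have h1 : Q ⊓ NC (X ⊓ C1[z]) Z ≤ Z := by
    by_contra hne
    obtain ⟨x, hx, hxZ, hx'⟩ := exists_fix h.U2 (inf_le_left.trans h.QU) (le_inf h.ZQ le_NC)
      (fun u hu => N_inf (h.UQ hu) (hUK hu)) h.UZ hne
    exact hxZ (hinv x ⟨h.QU hx.1, hx.2⟩ (h.geo.z2 U h.syl h.UC x hx.1 hx'))
  have h2 : U ⊓ NC (X ⊓ C1[z]) Z = Z := le_antisymm (fun u hu => h1 ⟨h.cQ hu.1 fun x hx =>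
    h1 ⟨comm_mem_right (h.UQ hu.1) hx, comm_mem_left (hUK (h.QU hx)) hu.2⟩, hu.2⟩)
    (le_inf h.ZU le_NC)
  have h3 := hS.inf_of_le_normalizer (le_N_NC (A := Z))
  rw [h2, inf_of_le_right hKC] at h3
  obtain ⟨O, hO, hodd, hN, hle⟩ := bur _ Z ⊥ h3 bot_le le_C_bot (by
    intro n hn a ha
    have hnQ := hQ ⟨(hKC hn.1).1, hn.2⟩
    have h4 : ∀ x ∈ Q, ∃ w ∈ Z, n * x * n⁻¹ = w * x := fun x hx =>
      ⟨⁅n, x⁆, h1 ⟨comm_mem_right hnQ hx, comm_mem_left (hUK (h.QU hx)) hn.1⟩, by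
        rw [commutatorElement_def]; group⟩
    have h5 : ⁅Q, Q⁆ ≤ C1[n] := commutator_le.2 fun x hx y hy => by
      obtain ⟨w, hw, e⟩ := h4 x hx
      obtain ⟨w', hw', e'⟩ := h4 y hy
      have c1 : ∀ a ∈ Q, Commute a w := fun a ha => comm_of_C (h.UC (h.QU ha)) hw
      have c2 : ∀ a ∈ Q, Commute a w' := fun a ha => comm_of_C (h.UC (h.QU ha)) hw'
      refine mem_C1.2 (Commute.symm ?_)
      rw [← mul_inv_eq_iff_eq_mul.trans (commute_iff_eq n ⁅x, y⁆).symm, conjugate_commutatorElement,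
        e, e']
      have c3 := (c1 _ (mul_mem (mul_mem hx (h.ZQ hw')) hy)).mul_left (c1 _ (inv_mem hx))
      have c4 := c2 _ (mul_mem hy (inv_mem hx))
      calc ⁅w * x, w' * y⁆ = w * (x * w' * y * x⁻¹) * w⁻¹ * (w' * y)⁻¹ := by
            rw [commutatorElement_def]; group
        _ = x * (w' * (y * x⁻¹)) * y⁻¹ * w'⁻¹ := by rw [← c3.eq]; group
        _ = x * y * x⁻¹ * (w' * y⁻¹ * w'⁻¹) := by rw [← c4.eq]; group
        _ = _ := by rw [← (c2 _ (inv_mem hy)).eq, commutatorElement_def]; group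
    rw [mem_bot, commutatorElement_eq_one_iff_commute]
    exact (mem_C1.1 (h5 (h.com.ge ha))).symm)
  have h4 := h.sig hG hodd (fun o ho => (hKC (hO ho)).2) (h.QU.trans (hUK.trans hN))
    fun d hd => by
      obtain ⟨-, -, -, a4, -, a6, a7⟩ := h.d0 hG hd
      exact hN (N_NC (N_inf a7 (N_C1 a6)) a4)
  exact le_N_of_syl h3 (hle.trans (sup_le le_normalizer
    ((h4.trans (centralizer_le h.ZQ)).trans (centralizer_le_normalizer _)))) le_N_NC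

/-- An element of odd order commuting with the Levi factor on `Q / Z` is trivial or fixed point
free there. -/
theorem semiP (h : LocP G0 U Q Z z t) {y : G} (h1 : y ∈ N[Q])
    (h2 : y ∈ C[Z]) {m : ℕ} (hm : Odd m) (h3 : y ^ m ∈ CQ Q Z)
    (h4 : ∀ e ∈ YZ G0 Z, ⁅y, e⁆ ∈ CQ Q Z) :
    (∀ a ∈ Q, ⁅y, a⁆ ∈ Z) ∨ ∀ a ∈ Q, ⁅y, a⁆ ∈ Z → a ∈ Z := by
  have hQZ := h.QU.trans h.UZ
  have hyZ : y ∈ N[Z] := centralizer_le_normalizer _ h2
  have hE : YZ G0 Z ≤ G0 ⊓ C[Z] := YZ_le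
  have hEZ : YZ G0 Z ≤ N[Z] := hE.trans (inf_le_right.trans (centralizer_le_normalizer _))
  have key : ∀ e ∈ YZ G0 Z, ∀ a ∈ Q, ∃ w ∈ Z, e * ⁅y, a⁆ * e⁻¹ = ⁅y, e * a * e⁻¹⁆ * w :=
    fun e he a ha => by
      have c := (CQ Q Z).inv_mem (h4 e he)
      have a' := conj_mem (h.CQ' (hE he)) ha
      have b := comm_mem_right h1 a'
      refine ⟨_, mul_mem (conj_mem (hQZ (inv_mem b)) (c.2.2 _ b)) (c.2.2 _ a'), ?_⟩
      simp only [commutatorElement_def]; group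
  let V : Subgroup G :=
    { carrier := {a | a ∈ Q ∧ ⁅y, a⁆ ∈ Z}
      one_mem' := ⟨one_mem _, by simp⟩
      mul_mem' := fun {a b} ha hb => ⟨mul_mem ha.1 hb.1, by
        rw [comm_mul_r]; exact mul_mem ha.2 (conj_mem (hQZ ha.1) hb.2)⟩
      inv_mem' := fun {a} ha => ⟨inv_mem ha.1, by
        have := conj_mem (hQZ (inv_mem ha.1)) (inv_mem ha.2)
        convert this using 1
        simp only [commutatorElement_def]; group⟩ }
  let V' : Subgroup G :=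
    { carrier := {b | ∃ a ∈ Q, ∃ w ∈ Z, b = ⁅y, a⁆ * w}
      one_mem' := ⟨1, one_mem _, 1, one_mem _, by simp⟩
      mul_mem' := by
        rintro _ _ ⟨a, ha, w, hw, rfl⟩ ⟨a', ha', w', hw', rfl⟩
        have b := comm_mem_right h1 ha'
        refine ⟨a * a', mul_mem ha ha', _, mul_mem (mul_mem (h.comQ ha (inv_mem b))
          (conj_mem (hQZ (inv_mem b)) hw)) hw', ?_⟩
        rw [comm_mul_r]
        generalize ⁅y, a'⁆ = s
        simp only [commutatorElement_def]; group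
      inv_mem' := by
        rintro _ ⟨a, ha, w, hw, rfl⟩
        have b := comm_mem_right h1 ha
        refine ⟨a, ha, _, mul_mem (conj_mem (hQZ (inv_mem b)) (inv_mem hw)) (inv_mem (h.sq _ b)), ?_⟩
        group }
  have v1 : Z ≤ V := fun w hw => ⟨h.ZQ hw, comm_mem_right hyZ hw⟩
  have v2 : V' ≤ Q := by
    rintro _ ⟨a, ha, w, hw, rfl⟩; exact mul_mem (comm_mem_right h1 ha) (h.ZQ hw)
  rcases (h.simp.irrA V V' v1 (fun _ h => h.1) (fun w hw => ⟨1, one_mem _, w, hw, by simp⟩) v2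
    (fun e he => mem_N_of_conj fun a ha => ⟨conj_mem (h.CQ' (hE he)) ha.1, by
      obtain ⟨w, hw, e1⟩ := key e he a ha.1
      exact (Z.mul_mem_cancel_right hw).1 (e1 ▸ conj_mem (hEZ he) ha.2)⟩)
    (fun e he => mem_N_of_conj (by
      rintro _ ⟨a, ha, w, hw, rfl⟩
      obtain ⟨w', hw', e1⟩ := key e he a ha
      exact ⟨_, conj_mem (h.CQ' (hE he)) ha, _, mul_mem hw' (conj_mem (hEZ he) hw), by
        rw [← mul_assoc ⁅y, _⁆, ← e1]; group⟩))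
    (fun v hv => mem_C (by
      rintro _ ⟨a, ha, w, hw, rfl⟩
      have cz : ∀ b ∈ Q, ∀ w ∈ Z, Commute b w := fun b hb w hw => comm_of_C (h.UC (h.QU hb)) hw
      refine Commute.mul_right ?_ (cz v hv.1 w hw)
      have e1 : v * a * v⁻¹ = ⁅v, a⁆ * a := by rw [commutatorElement_def]; group
      have e2 : v * y * v⁻¹ = ⁅v, y⁆ * y := by rw [commutatorElement_def]; group
      have c1 := h.comQ hv.1 ha
      have c2 := comm_sym hv.2
      rw [← mul_inv_eq_iff_eq_mul.trans (commute_iff_eq v ⁅y, a⁆).symm, conjugate_commutatorElement,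
        e1, e2]
      generalize ⁅v, a⁆ = p at c1
      generalize ⁅v, y⁆ = q at c2
      have d1 := (comm_of_C h2 c1).eq
      have d2 := (comm_of_C h2 c2).inv_left.eq
      have d3 := (cz _ (conj_mem h1 ha) q c2).eq
      have d4 := (cz _ (comm_mem_right h1 ha) p c1).eq
      calc ⁅q * y, p * a⁆ = q * (y * p) * a * y⁻¹ * q⁻¹ * a⁻¹ * p⁻¹ := by
            rw [commutatorElement_def]; group
        _ = q * p * (y * a * y⁻¹) * q⁻¹ * a⁻¹ * p⁻¹ := by rw [d1]; group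
        _ = p * (q * (y * a * y⁻¹)) * q⁻¹ * a⁻¹ * p⁻¹ := by
            rw [← (cz _ (h.ZQ c1) q c2).eq]; group
        _ = p * ⁅y, a⁆ * p⁻¹ := by rw [← d3, commutatorElement_def]; group
        _ = _ := by rw [← d4]; group))).imp_right fun k => k.resolve_right (not_not.2
    (by
      rintro _ ⟨⟨-, hv⟩, a, ha, w, hw, rfl⟩
      have b := comm_mem_right h1 ha
      have b1 : ⁅y, ⁅y, a⁆⁆ ∈ Z := by
        rw [comm_mul_r] at hv
        exact (Z.mul_mem_cancel_right (conj_mem (hQZ b) (comm_mem_right hyZ hw))).1 hv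
      have b2 : ∀ k : ℕ, ⁅y ^ k, a⁆ * (⁅y, a⁆ ^ k)⁻¹ ∈ Z := fun k => by
        induction k with
        | zero => simp
        | succ k ih =>
          have b3 : ⁅y, ⁅y, a⁆ ^ k⁆ ∈ Z := (pow_mem (show ⁅y, a⁆ ∈ V from ⟨b, b1⟩) k).2
          have := mul_mem (conj_mem hyZ ih) b3
          rw [pow_succ' y, comm_mul_l, pow_succ]
          convert this using 1
          generalize ⁅y, a⁆ = s
          simp only [commutatorElement_def]; group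
      obtain ⟨j, rfl⟩ := hm
      have b4 := (Z.mul_mem_cancel_left (h3.2.2 a ha)).1 (b2 (2 * j + 1))
      rw [inv_mem_iff, pow_succ, pow_mul, pow_two] at b4
      exact mul_mem ((Z.mul_mem_cancel_left (pow_mem (h.sq _ b) j)).1 b4) hw)) with h5 | h5
  · exact Or.inr fun a ha h6 => h5 ⟨ha, h6⟩
  · exact Or.inl fun a ha => h5 ⟨a, ha, 1, one_mem _, (mul_one _).symm⟩

theorem mul_pow_mem {C : Subgroup G} {c v : G} (hc : c ∈ C) (hv : v ∈ N[C]) (n : ℕ) :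
    (c * v) ^ n * (v ^ n)⁻¹ ∈ C := by
  induction n with
  | zero => simp
  | succ n ih =>
    have := mul_mem hc (conj_mem hv ih)
    rwa [show c * (v * ((c * v) ^ n * (v ^ n)⁻¹) * v⁻¹) = (c * v) ^ (n + 1) * (v ^ (n + 1))⁻¹ by
      rw [pow_succ' (c * v), pow_succ' v]; group] at this

theorem jp (h : LocP G0 U Q Z z t) (hG : Glob X G0 t) (hM : MidP X G0 U) : JP X U Q Z := by
  intro h1
  have hKH : NC (X ⊓ C[Z]) Q ≤ X ⊓ C[Z] := NC_le (h.QU.trans (h.sylH hM).le)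
  have h2 := (h.sylH hM).inf_of_le_normalizer (le_N_NC (A := Q))
  rw [h1, inf_of_le_right hKH] at h2
  set K := NC (X ⊓ C[Z]) Q with hK
  have hC0 : G0 ⊓ C[Z] ≤ X ⊓ C[Z] := inf_le_inf_right _ hG.le
  have hC0K : G0 ⊓ C[Z] ≤ N[K] := hC0.trans le_N_NC
  have hNZ : K ≤ N[Z] := hKH.trans (inf_le_right.trans (centralizer_le_normalizer _))
  have h3 : ∀ g ∈ K ⊓ N[Q], Is2 g → g ∈ Q := fun g hg h2' =>
    h2.le_of_le_normalizer' (isPGroup_zpowers h2') (zpowers_le.2 hg.1) (zpowers_le.2 hg.2)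
      (mem_zpowers g)
  have hC0N : ∀ c ∈ G0 ⊓ C[Z], c ∈ N[K ⊓ N[Q]] := fun c hc => N_inf (hC0K hc) (N_N (h.CQ' hc))
  have hQC : Q ≤ CQ Q Z := fun x hx => ⟨le_normalizer hx, h.UZ (h.QU hx), fun _ hy => h.comQ hx hy⟩
  set H := X ⊓ C[Z] ⊓ N[Q] with hH
  have HC : H ≤ N[H ⊓ CQ Q Z] := fun g hg => N_inf (le_normalizer hg)
    (N_CQ hg.2 (centralizer_le_normalizer _ hg.1.2))
  have C0H : G0 ⊓ C[Z] ≤ H := le_inf hC0 h.CQ'
  have VH : K ⊓ N[Q] ≤ H := inf_le_inf_right _ hKH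
  have sH : IsSylowIn 2 U H := (h.sylH hM).mono (h.UC0.trans C0H) inf_le_left
  have k2 : ∀ g ∈ H ⊓ CQ Q Z, Is2 g → g ∈ Q := fun g hg g2 => by
    obtain ⟨k, hk, hk'⟩ := sH.exists_conj_le (isPGroup_zpowers g2) (zpowers_le.2 hg.1)
    exact (mem_normalizer_iff.1 hk.2 g).2 (h.cQ (hk' (conj_mem_conj_smul.2 (mem_zpowers g)))
      (conj_mem (HC hk) hg).2.2.2)
  have QD : Q ≤ H ⊓ CQ Q Z := le_inf (h.QU.trans sH.le) hQC
  have h4 : ∀ g ∈ ((H ⊓ CQ Q Z) ⊔ K ⊓ N[Q]) ⊓ G0, ∀ u ∈ YZ G0 Z, ⁅g, u⁆ ∈ Q := fun g hg u hu =>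
    h.oddN (K := ((H ⊓ CQ Q Z) ⊔ K ⊓ N[Q]) ⊓ G0) (le_inf (QD.trans le_sup_left) (h.QU.trans h.UG))
      (fun g hg => ⟨hg.2, (sup_le inf_le_left VH hg.1).1.2⟩)
      (fun c hc => N_inf (mem_N_of_conj fun _ hx => sup_conj
        (fun a ha => mem_sup_left (conj_mem (HC (C0H hc)) ha))
        (fun a ha => mem_sup_right (conj_mem (hC0N c hc) ha)) hx) (le_normalizer hc.1))
      (fun g hg g2 => by
        obtain ⟨c, hc, v, hv, rfl⟩ := (H67.mem_sup_of_le_normalizer' (VH.trans HC)).1 hg.1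
        obtain ⟨j, hj⟩ := exists_odd_pow h3 hv
        obtain ⟨k, hk⟩ := id g2
        refine k2 _ (H69.SlE.mem_of_pow (a := 2 ^ k) (b := 2 * j + 1)
          ((Nat.coprime_two_left.2 ⟨j, rfl⟩).pow_left k) (hk ▸ one_mem _)
          ((mul_mem_cancel_right (inv_mem (QD hj))).1 (mul_pow_mem hc (HC (VH hv)) _))) g2) hg hu
  have hEQ : G0 ⊓ C[Z] ≤ N[CQ Q Z] := fun c hc => N_CQ (h.CQ' hc) (centralizer_le_normalizer _ hc.2)
  have h5 : ∀ y ∈ K ⊓ N[Q], ∀ r ∈ RC G0 Z z, ⁅y, r⁆ ∈ CQ Q Z := fun y hy r hr => by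
    have rY := h.rc_Y hr
    have a1 : ⁅y, r⁆ ∈ K ⊓ N[Q] := comm_mem_left (hC0N r (YZ_le rY)) hy
    obtain ⟨c, hc, y1, hy1, e⟩ := (H67.mem_sup_of_le_normalizer' ((YZ_le.trans C0H).trans HC)).1
      (sup_comm (YZ G0 Z) _ ▸ h.ny U H h.UG sH (YZ_le.trans C0H)
        (le_inf (inf_le_left.trans inf_le_right) inf_le_right)
        (fun k _ r hr hU => h.fusR hM k hr.1 (h.UM hU)) y (VH hy) r hr)
    have e2 : ⁅y, r⁆ = c * (y1 * r⁻¹) := by rw [commutatorElement_def, ← e]; group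
    have a2 := h4 (y1 * r⁻¹) ⟨by
      rw [show y1 * r⁻¹ = c⁻¹ * ⁅y, r⁆ by rw [e2]; group]
      exact Subgroup.mul_mem _ (Subgroup.inv_mem _ (mem_sup_left hc)) (mem_sup_right a1),
      (YZ_le (mul_mem hy1 (inv_mem rY))).1⟩ r rY
    have a3 : ⁅⁅y, r⁆, r⁆ ∈ CQ Q Z := by
      rw [e2, comm_mul_l]
      exact mul_mem (conj_mem (le_normalizer hc.2) (hQC a2)) (comm_mem_left (hEQ (YZ_le rY)) hc.2)
    have a4 : ⁅⁅y, r⁆, r⁆ = ⁅y, r⁆ ^ 2 := by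
      have r2 := inv_eq_of_mul_eq_one_right (h.rt_sq hr.1)
      calc _ = ⁅y, r⁆ * (r * r) * y * r⁻¹ * y⁻¹ * r⁻¹ := by simp only [commutatorElement_def]; group
        _ = _ := by rw [h.rt_sq hr.1, pow_two]; simp only [commutatorElement_def, r2]; group
    obtain ⟨j, hj⟩ := exists_odd_pow h3 a1
    exact H69.SlE.mem_of_pow (a := 2) (b := 2 * j + 1) (by simp) (a4 ▸ a3) (hQC hj)
  have h7 : ∀ y ∈ K ⊓ N[Q], ∀ e ∈ YZ G0 Z, ⁅y, e⁆ ∈ CQ Q Z := by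
    intro y hy e he
    have he' := h.genY he
    have Y1 : closure (RC G0 Z z) ≤ G0 ⊓ C[Z] := ((closure_le _).2 fun _ => h.rc_Y).trans YZ_le
    clear he
    induction he' using closure_induction with
    | mem e he => exact h5 y hy e he
    | one => simp
    | mul a b ha hb ia ib =>
      rw [comm_mul_r]; exact mul_mem ia (conj_mem (hEQ (Y1 ha)) ib)
    | inv a ha ia =>
      have := conj_mem (inv_mem (hEQ (Y1 ha))) (inv_mem ia)
      convert this using 1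
      simp only [commutatorElement_def]; group
  refine (core h2 h.ZQ (hKH.trans inf_le_right) ((closure_le _).2 ?_) h.sq (fun _ ha _ => h.comQ ha)
    h.big fun n hn => ?_).resolve_right fun htr => ?_
  · rintro _ ⟨g, hg, a, ha, rfl⟩
    obtain ⟨k, hk, hk'⟩ := h2.exists_conj_le (isPGroup_zpowers (Is2.conj (is2_of_mem h.Q2 ha) g))
      (zpowers_le.2 (conj_mem_NC hg ha))
    have := conj_mem_NC (inv_mem hk) (hk' (conj_mem_conj_smul.2 (mem_zpowers _)))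
    simpa [mul_assoc] using this
  · obtain ⟨j, hj⟩ := exists_odd_pow h3 hn
    exact semiP h hn.2 (hKH hn.1).2 ⟨j, rfl⟩ (hQC hj) (h7 n hn)
  · have hQZ : ¬ Q ≤ Z := fun e => by
      have := card_le_of_le e
      have := Nat.card_pos (α := Z)
      have := h.big
      omega
    obtain ⟨a, ha, a1, a2⟩ := exists_fix h.U2 h.QU h.ZQ h.UQ h.UZ hQZ
    refine h.ne fun u hu => h.cQ hu fun b hb => comm_sym ?_
    by_cases b1 : b ∈ Z
    · exact comm_mem_left (h.UZ hu) b1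
    obtain ⟨n, hn, e⟩ := htr a ha a1 b hb b1
    have c1 := h7 _ (inv_mem hn) u (h.UY hu)
    have c2 : ⁅a, ⁅n⁻¹, u⁆ * u⁆ ∈ Z := by
      rw [comm_mul_r]
      exact mul_mem (comm_sym (c1.2.2 a ha)) (conj_mem c1.2.1 (a2 u hu))
    have c3 := mul_mem (comm_mem_left (h.UZ hu) (inv_mem e)) (one_mem Z)
    have c4 := mul_mem (conj_mem (le_normalizer (inv_mem e)) (conj_mem (hNZ hn.1) c2)) c3
    convert c4 using 1
    simp only [commutatorElement_def]; group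

/-- `N_X(Z)` normalizes the Levi factor. -/
theorem nyP (h : LocP G0 U Q Z z t) (hG : Glob X G0 t) (hM : MidP X G0 U)
    (hQ : X ⊓ N[Z] ≤ N[Q]) (hz : X ⊓ C1[z] ≤ N[Z]) : X ⊓ N[Z] ≤ N[YZ G0 Z] := by
  haveI := hG.nrm
  have HZ : X ⊓ C[Z] ≤ N[Z] := inf_le_right.trans (centralizer_le_normalizer _)
  have HQ : X ⊓ C[Z] ≤ N[Q] := fun g hg => hQ ⟨hg.1, HZ hg⟩
  have YH : YZ G0 Z ≤ X ⊓ C[Z] := YZ_le.trans (inf_le_inf_right _ hG.le)
  have HC : X ⊓ C[Z] ≤ N[CQ Q Z] := fun g hg => N_CQ (HQ hg) (HZ hg)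
  have h2 := (h.sylH hM).inf_of_le_normalizer HC
  rw [show U ⊓ CQ Q Z = Q from le_antisymm (fun u hu => h.cQ hu.1 hu.2.2.2) (le_inf h.QU
    fun x hx => ⟨le_normalizer hx, h.UZ (h.QU hx), fun _ hy => h.comQ hx hy⟩)] at h2
  obtain ⟨O, hO, hodd, hN, hle⟩ := bur _ Q Z h2 h.ZQ (inf_le_left.trans inf_le_right)
    fun n hn => hn.1.2.2.2
  have HO : X ⊓ C[Z] ≤ N[O] := fun g hg => hN (N_inf (le_normalizer hg) (HC hg))
  have hz' : ∀ w ∈ Z, w ≠ 1 → X ⊓ C1[w] ≤ N[Z] := fun w hw w1 g hg => by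
    obtain ⟨m, hm, rfl⟩ := h.rZ w hw w1
    have m1 : m⁻¹ ∈ N[Z] := mem_N_of_conj fun w' hw' => by
      by_cases e1 : w' = 1
      · simp [e1]
      have e : m⁻¹ * w' * m⁻¹⁻¹ * z = m⁻¹ * (w' * (m * z * m⁻¹)) * m⁻¹⁻¹ := by group
      by_cases e2 : w' * (m * z * m⁻¹) = 1
      · rw [e2, mul_one, mul_inv_cancel] at e
        exact eq_inv_of_mul_eq_one_left e ▸ inv_mem h.zZ
      refine h.geo.pt _ (h.rt_conj (h.rZ w' hw' e1) (inv_mem (le_normalizer hm))) ?_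
        (e ▸ h.rt_conj (h.rZ _ (mul_mem hw' hw) e2) (inv_mem (le_normalizer hm)))
      simpa [mul_assoc] using (comm_of_C (h.UC (h.ZU hw')) hw).map (MulAut.conj m⁻¹)
    have := mul_mem (mul_mem (inv_mem m1) (hz (show m⁻¹ * g * m ∈ _ from
      ⟨X.mul_mem (X.mul_mem (X.inv_mem (hG.le hm)) hg.1) (hG.le hm), mem_C1.2 (by
        simpa [mul_assoc] using (mem_C1.1 hg.2).map (MulAut.conj m⁻¹))⟩))) m1
    simpa [mul_assoc] using this
  have h4 : O ≤ C[YZ G0 Z] := fun o ho => (centralizer_le h.genY) (by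
    rw [centralizer_closure, mem_centralizer_iff]
    rintro _ ⟨⟨n, hn, rfl⟩, hr⟩
    have k1 : cj n Z ≤ YZ G0 Z := cj_le fun w hw => by
      by_cases w1 : w = 1
      · simp [w1]
      have k := h.rt_conj (h.rZ w hw w1) (le_normalizer hn)
      refine h.rc_Y ⟨k, h.geo.cz _ k ?_⟩
      have := comm_of_C (h.geo.cz _ (h.rt_conj h.z_rt (inv_mem (le_normalizer hn))) (by
        simpa [mul_assoc] using ((comm_of_C hr h.zZ).map (MulAut.conj n⁻¹)).symm)) hw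
      simpa [mul_assoc] using (this.map (MulAut.conj n)).symm
    have k2 : IsPGroup 2 (cj n Z) := (h.U2.to_le h.ZU).map _
    refine (comm_of_C (d2 O (cj n Z) {d | ∃ w ∈ Z, w ≠ 1 ∧ d = n * w * n⁻¹} hodd k2 ?_
      (cj_le fun w hw => ?_) ho) (conj_mem_cj h.zZ)).symm
    · rintro _ ⟨w, hw, w1, rfl⟩
      refine ⟨by rw [conj_mul, h.Z2 w hw]; group, HO (YH (k1 (conj_mem_cj hw))),
        le_normalizer (conj_mem_cj hw), fun o ho => mem_C fun x hx => ?_⟩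
      have k3 : o ∈ N[cj n Z] := mem_N_of_conj (by
        rintro _ ⟨y, hy, rfl⟩
        refine ⟨_, conj_mem (hz' w hw w1 (show n⁻¹ * o * n ∈ _ from
          ⟨X.mul_mem (X.mul_mem (X.inv_mem (hG.le hn)) (hO ho.1).1.1) (hG.le hn), mem_C1.2 (by
            simpa [mul_assoc] using (mem_C1.1 ho.2).map (MulAut.conj n⁻¹))⟩)) hy, ?_⟩
        simp [mul_assoc])
      exact commutatorElement_eq_one_iff_commute.1 (eq_one_of_is2 (is2_of_mem k2
        (comm_mem_right k3 hx)) (odd_orderOf_of_mem hodd (comm_mem_left (HO (YH (k1 hx))) ho.1)))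
    obtain ⟨d, hd, d1, d2⟩ := h.four w hw
    refine subset_closure ⟨_, ⟨d, hd, d1, rfl⟩, _, ⟨_, mul_mem hd hw, d2, rfl⟩, ?_⟩
    rw [conj_mul, ← mul_assoc d, h.Z2 d hd, one_mul])
  have h5 : X ⊓ C[Z] ≤ N[YZ G0 Z] := fun g hg => mem_N_of_conj fun y hy => closure_conj
    (fun r hr => mem_of_two (h4.trans (centralizer_le_normalizer _)) hodd
      (sup_le le_sup_left (hle.trans (sup_le_sup_right (h.QU.trans h.UY) _))
        (h.ny U _ h.UG (h.sylH hM) YH (le_inf inf_le_right HQ)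
          (fun k _ r hr hU => h.fusR hM k hr.1 (h.UM hU)) g hg r hr))
      (Is2.conj (is2_of_sq (h.rt_sq hr.1)) g)) (h.genY hy)
  intro g hg
  refine mem_N_of_conj fun _ => conj_YZ fun y h1 h2 h3 => ?_
  obtain ⟨k, hk, hk'⟩ := (h.sylH hM).exists_conj_le (isPGroup_zpowers (Is2.conj h3 g))
    (zpowers_le.2 ⟨hG.nrm.conj_mem y (hG.le h1) g, conj_C hg.2 h2⟩)
  exact (mem_normalizer_iff.1 (h5 hk) _).2 (h.UY (hk' (conj_mem_conj_smul.2 (mem_zpowers _))))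

theorem le_NP (h : LocP G0 U Q Z z t) (hG : Glob X G0 t) (hM : MidP X G0 U)
    (h1 : X ⊓ N[Z] ≤ N[YZ G0 Z]) (h2 : X ⊓ C1[z] ≤ N[Z]) : X ⊓ N[Z] ≤ N[G0] := by
  have step : ∀ g ∈ G0, g * z * g⁻¹ ∈ C[Z] → ∀ k ∈ X ⊓ N[Z],
      ∃ m ∈ G0, ∃ k' ∈ X ⊓ N[Z], k * g = m * k' := fun g hn hnz k hk => by
    obtain ⟨m, hm, e⟩ := h.fusR hM (k * g) h.z_rt (by
      have := le_normalizer (YZ_le (conj_mem (h1 hk) (h.rc_Y ⟨⟨g, hn, rfl⟩, hnz⟩))).1
      simpa [mul_assoc] using this)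
    have hx : m⁻¹ * (k * g) ∈ X := mul_mem (inv_mem (hG.le hm)) (mul_mem hk.1 (hG.le hn))
    refine ⟨m, hm, _, ⟨hx, h2 ⟨hx, mem_C1.2 ?_⟩⟩, by group⟩
    show _ * _ = _ * _
    calc m⁻¹ * (k * g) * z = m⁻¹ * (k * g * z * (k * g)⁻¹) * (k * g) := by group
      _ = _ := by rw [e]; group
  intro k hk
  refine mem_N_of_conj fun x hx => closure_conj ?_ (h.genR hx)
  rintro _ ⟨g, hg, rfl⟩
  obtain ⟨_, ⟨⟨n, hn, rfl⟩, c1⟩, c2⟩ := h.geo.conn _ ⟨g, hg, rfl⟩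
  have hn' := mul_mem (inv_mem hn) hg
  obtain ⟨m, hm, k1, hk1, e1⟩ := step n hn c1 k hk
  obtain ⟨m', hm', k', hk', e⟩ := step _ hn' (h.geo.cz _ ⟨_, hn', rfl⟩ (by
    simpa [mul_assoc] using c2.map (MulAut.conj n⁻¹))) k1 hk1
  have e2 : k * (g * z * g⁻¹) * k⁻¹ = m * m' * (k' * z * k'⁻¹) * (m * m')⁻¹ := by
    calc _ = k * n * (n⁻¹ * g) * z * (k * n * (n⁻¹ * g))⁻¹ := by group
      _ = _ := by rw [e1, mul_assoc m, e]; group
  rw [e2]
  exact mul_mem (mul_mem (mul_mem hm hm') (h.UG (h.ZU (conj_mem hk'.2 h.zZ))))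
    (inv_mem (mul_mem hm hm'))

theorem LocP.nalt (h : LocP G0 U Q Z z t) (k : ℕ) :
    ¬ Nonempty (G0 ≃* alternatingGroup (Fin k)) := by
  rintro ⟨e⟩
  by_cases hk : 9 ≤ k
  · refine alt_not_con (α := Fin k) (by simpa using hk) fun b hb => ?_
    obtain ⟨b, rfl⟩ := e.surjective b
    obtain ⟨R, h1, h2, h3, h4⟩ := h.geo.con b b.2 (by rw [orderOf_coe, ← hb, e.orderOf_eq])
    have m : ∀ g : G0, e g ∈ (R.subgroupOf G0).map e.toMonoidHom ↔ (g : G) ∈ R := fun g =>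
      mem_map_iff_mem (f := e.toMonoidHom) e.injective
    refine ⟨(R.subgroupOf G0).map e.toMonoidHom, (h1.comap_subtype (K := G0)).map _, ?_,
      fun g hg => mem_N_of_conj ?_, fun g hg => ?_⟩
    · rintro _ ⟨r, hr, rfl⟩
      exact mem_C1.2 ((show Commute r b from Subtype.ext (mem_C1.1 (h2 hr).2)).map e)
    · rintro _ ⟨r, hr, rfl⟩
      obtain ⟨g, rfl⟩ := e.surjective g
      exact ⟨g * r * g⁻¹, conj_mem (H := R) (g := (g : G)) (x := (r : G)) (h3 ⟨g.2, mem_C1.2 (congrArg Subtype.val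
        (e.injective (by simpa using (mem_C1.1 hg).eq) : g * b = b * g))⟩) hr, by simp⟩
    obtain ⟨g, rfl⟩ := e.surjective g
    obtain ⟨r, hr, c, hc, e1⟩ := (H67.mem_sup_of_le_normalizer' ((centralizer_le
      (h2.trans inf_le_left)).trans (centralizer_le_normalizer _))).1 (h4 ⟨g.2, mem_C fun r hr =>
        congrArg Subtype.val (e.injective (by
          simpa using (comm_of_C hg ((m ⟨r, (h2 hr).1⟩).2 hr)).eq) :
            g * ⟨r, (h2 hr).1⟩ = ⟨r, (h2 hr).1⟩ * g)⟩)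
    have c1 : c ∈ G0 := (G0.mul_mem_cancel_left (h2 hr).1).1 (e1 ▸ g.2)
    have c2 : e ⟨c, c1⟩ ∈ center (alternatingGroup (Fin k)) := mem_center_iff.2 fun y => by
      obtain ⟨y, rfl⟩ := e.surjective y
      rw [← map_mul, ← map_mul]
      exact congrArg e (Subtype.ext (comm_of_C hc y.2).eq.symm)
    rw [alternatingGroup.center_eq_bot (by simp; omega), mem_bot, map_eq_one_iff _ e.injective] at c2
    rw [m, ← e1, show c = 1 from congrArg Subtype.val c2, mul_one]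
    exact hr
  obtain ⟨n, hn⟩ := h.Q2.exists_card_eq
  have h3 : 7 ≤ n := (Nat.pow_le_pow_iff_right (by norm_num : 1 < 2)).1 (hn ▸ h.big2)
  have h4 : 2 ^ 7 ∣ Nat.card (alternatingGroup (Fin k)) := by
    rw [← Nat.card_congr e.toEquiv]
    exact (pow_dvd_pow 2 h3).trans (hn ▸ card_dvd_of_le (h.QU.trans h.UG))
  have h6 : 2 ≤ k := by
    by_contra k2
    have := Nat.le_of_dvd Nat.card_pos (h4.trans (card_subgroup_dvd_card _))
    rw [Nat.card_perm, Nat.card_eq_fintype_card, Fintype.card_fin] at this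
    have := this.trans (Nat.factorial_le (show k ≤ 1 by omega))
    simp at this
  haveI : Nontrivial (Fin k) := Fin.nontrivial_iff_two_le.2 h6
  have h5 : 2 * 2 ^ 7 ∣ (8 : ℕ).factorial := by
    refine (Nat.mul_dvd_mul_left 2 h4).trans ?_
    rw [two_mul_nat_card_alternatingGroup, Nat.card_perm, Nat.card_eq_fintype_card, Fintype.card_fin]
    exact Nat.factorial_dvd_factorial (by omega)
  norm_num [Nat.factorial] at h5

theorem finP (h : LocP G0 U Q Z z t) (hG : Glob X G0 t)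
    (hM : MidP X G0 U) (h1 : X ⊓ N[Z] ≤ N[YZ G0 Z]) (h2 : X ⊓ C1[z] ≤ N[Z]) : G0 = X := by
  have h3 := le_NP h hG hM h1 h2
  have hne : G0 ≠ ⊥ := fun e => h.z1 (mem_bot.1 (e ▸ h.zG))
  have hns := not_solvable h.perf hne
  haveI := hG.simple
  have hzX : z ∈ X := hG.le h.zG
  let f : G0 →* (N[G0]).subgroupOf X :=
    (inclusion hG.le).codRestrict _ fun g => le_normalizer g.2
  have hf : Function.Injective f := fun a b e =>
    Subtype.ext (congrArg (fun s : (N[G0]).subgroupOf X => s.1.1) e)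
  by_cases hP : (N[G0]).subgroupOf X = ⊤
  · haveI : (G0.subgroupOf X).Normal := ⟨fun a ha g =>
      conj_mem (H := G0) (g := (g : G)) (x := (a : G)) (hP.ge (mem_top g)) ha⟩
    rcases IsSimpleGroup.eq_bot_or_eq_top_of_normal (G0.subgroupOf X) inferInstance with e | e
    · exact absurd (congrArg Subtype.val (mem_bot.1 (e.le (show (⟨z, hzX⟩ : X) ∈ _ from h.zG)))) h.z1
    · exact le_antisymm hG.le (subgroupOf_eq_top.1 e)
  exfalso
  rcases holt (K := X) (fun hc => hns (Group.isSolvable_of_comm fun a b => Subtype.ext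
      (congrArg (fun s : X => (s : G)) (hc.is_comm.comm ⟨a, hG.le a.2⟩ ⟨b, hG.le b.2⟩)))) _ hP ⟨z, hzX⟩ (le_normalizer h.zG)
    ⟨by rw [← orderOf_coe]; exact orderOf_eq_prime (by rw [pow_two, h.Z2 z h.zZ]) h.z1,
      hM.syl.toSylow, h.zU, fun x hx => Subtype.ext (comm_of_C (h.UC hx) h.zZ).eq⟩
    (fun g hg => h3 ⟨g.2, h2 ⟨g.2, mem_C1.2 (congrArg Subtype.val (mem_C1.1 hg).eq)⟩⟩)
    (fun g hg => by
      obtain ⟨m, hm, e⟩ := h.fusR hM g h.z_rt hg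
      exact ⟨⟨m, hG.le hm⟩, le_normalizer hm, Subtype.ext e.symm⟩) with ⟨S, hS⟩ | ⟨n, hn, ⟨e⟩⟩
  · have hz : (⟨z, hzX⟩ : X) ∈ (S : Subgroup X) := (isSylowIn_top S).le_of_le_normalizer'
      (isPGroup_zpowers (is2_of_sq (Subtype.ext (h.Z2 z h.zZ)))) le_top
      (zpowers_le.2 (hS.le (le_normalizer h.zG))) (mem_zpowers _)
    have hle : G0 ≤ (S : Subgroup X).map X.subtype := h.genR.trans ((closure_le _).2 (by
      rintro _ ⟨m, hm, rfl⟩
      exact ⟨_, conj_mem (hS.le (show (⟨m, hG.le hm⟩ : X) ∈ _ from le_normalizer hm)) hz, rfl⟩))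
    haveI := ((S.2.map X.subtype).to_le hle).isNilpotent
    exact hns inferInstance
  · by_cases h5 : n = 5
    · subst h5
      haveI : Group.IsSolvable (Equiv.Perm (Fin (5 - 1))) := H86.solvable_perm_of_le_four _ (by simp)
      exact hns (Group.isSolvable_of_isSolvable_injective (f := (Subgroup.subtype _).comp
        (e.toMonoidHom.comp f)) (Subtype.val_injective.comp (e.injective.comp hf)))
    · haveI := alternatingGroup.isSimpleGroup (α := Fin (n - 1)) (by simp; omega)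
      haveI := e.isSimpleGroup
      haveI : f.range.Normal := ⟨by
        rintro _ ⟨a, rfl⟩ g
        exact ⟨⟨_, conj_mem g.2 a.2⟩, rfl⟩⟩
      rcases IsSimpleGroup.eq_bot_or_eq_top_of_normal f.range inferInstance with e' | e'
      · exact h.z1 (congrArg Subtype.val (hf ((mem_bot.1 (e'.le ⟨⟨z, h.zG⟩, rfl⟩)).trans
          (map_one f).symm)))
      · exact h.nalt _ ⟨(MulEquiv.ofBijective f ⟨hf, MonoidHom.range_eq_top.1 e'⟩).trans e⟩

/-- The end game. -/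
theorem endP (h : LocP G0 U Q Z z t) (hG : Glob X G0 t) (tX : t ∉ X) : G0 = X :=
  have hM := h.mid hG tX
  have hQ := nq1 h hG hM (jp h hG hM)
  finP h hG hM (nyP h hG hM hQ (nz1 h hG hM hQ)) (nz1 h hG hM hQ)

end Cfsg.Agent.H34.UE4
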