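import Cfsg.Agent.H34.PEnd
import Cfsg.Agent.H34.PDefs2
import Cfsg.Agent.H22.UHeis
import Cfsg.Agent.H31.UKitA
import Cfsg.Agent.H36.UKitB
import Cfsg.Agent.H29.UmSI
import Cfsg.Agent.H30.UmOut
import Cfsg.Agent.H45.UInn
import Cfsg.Agent.H65.WrH
import Cfsg.Agent.H70.SLHeis

/-! # The end game for a graph involution of a unitary group: assembly -/

set_option autoImplicit false
set_option linter.unusedSectionVars false

namespace Cfsg.Agent.H34.UE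

open Cfsg Cfsg.Agent.H63 Cfsg.Agent.H63.SL Cfsg.Agent.H34 Cfsg.Agent.H34.TW Cfsg.Agent.H34.UM
  Cfsg.Agent.H31 Cfsg.Agent.H27.End Subgroup Module
open Cfsg.Agent.H8
open scoped commutatorElement

universe u v

section Free

variable {G : Type u} [Group G]

/-- The bound on elementary abelian subgroups of `C(t)`. -/
def RK (t : G) (b : ℕ) : Prop :=
  ∀ A : Subgroup G, A ≤ C1[t] → (∀ g ∈ A, g * g = 1) → Nat.card A < b

theorem exists_inv {A : Type*} [Monoid A] (k : ℕ) : ∀ y : A, y ^ 2 ^ k = 1 → y ≠ 1 →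
    ∃ j, y ^ j ≠ 1 ∧ y ^ j * y ^ j = 1 := by
  induction k with
  | zero => exact fun y h h1 => absurd (by simpa using h) h1
  | succ k ih =>
    intro y h h1
    by_cases e : y * y = 1
    · exact ⟨1, by simpa using h1, by simpa using e⟩
    obtain ⟨j, h2⟩ := ih (y ^ 2) (by rwa [← pow_mul, ← pow_succ']) (by rwa [pow_two])
    exact ⟨2 * j, by rwa [pow_mul]⟩

theorem back {t : G} (g : G) {A : Subgroup G} (h : A ≤ C1[g * t * g⁻¹])
    (h2 : ∀ a ∈ A, a * a = 1) : cj g⁻¹ A ≤ C1[t] ∧ (∀ a ∈ cj g⁻¹ A, a * a = 1) ∧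
      Nat.card (cj g⁻¹ A) = Nat.card A := by
  refine ⟨cj_le fun a ha => mem_C1.2 ?_, ?_, card_map_of_injective (MulAut.conj g⁻¹).injective⟩
  · simpa [mul_assoc] using (mem_C1.1 (h ha)).map (MulAut.conj g⁻¹)
  · rintro _ ⟨a, ha, rfl⟩
    rw [← map_mul, h2 a ha, map_one]

theorem RK.conj {t : G} {b : ℕ} (h : RK t b) (g : G) : RK (g * t * g⁻¹) b := fun A h1 h2 => by
  obtain ⟨k1, k2, k3⟩ := back g h1 h2
  exact k3 ▸ h _ k1 k2

theorem AB.conj {t : G} {b : ℕ} (h : AB t b) (g : G) : AB (g * t * g⁻¹) b := fun A h1 h2 h3 => by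
  obtain ⟨k1, k2, k3⟩ := back g h1 h2
  refine k3 ▸ h _ k1 k2 ?_
  rintro _ ⟨a, ha, rfl⟩
  obtain ⟨y, e⟩ := h3 a ha
  refine ⟨g⁻¹ * y * g, ?_⟩
  calc _ = g⁻¹ * (y * (g * t * g⁻¹) * y⁻¹) * g := by group
    _ = _ := by rw [e]; simp [mul_assoc]

theorem perfX [Finite G] {X G0 : Subgroup G} (hs : IsSimpleGroup X) (le : G0 ≤ X)
    (hp : ⁅G0, G0⁆ = G0) {z : G} (hz : z ∈ G0) (z1 : z ≠ 1) : X ≤ ⁅X, X⁆ := by
  rcases (inferInstance : (_root_.commutator X).Normal).eq_bot_or_eq_top with h | h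
  all_goals rw [← H67.commutator_subgroupOf_self] at h
  · exact absurd ((subgroupOf_eq_bot.1 h).le_bot ⟨commutator_mono le le (hp.ge hz), le hz⟩) z1
  · exact subgroupOf_eq_top.1 h

end Free

variable {F E V : Type v} [Field F] [Field E] [AddCommGroup V] [Module E V] [Finite F] [Finite E]
  [Finite V] [FiniteDimensional E V] {i : F →+* E} {σ : E ≃+* E}
  {B : V →ₛₗ[(σ : E →+* E)] V →ₗ[E] E} {G : Type u} [Group G] [Finite G] {φ : sisom B →* G}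
  {L : Subgroup G} (c : UCtx i φ L)
include c

theorem kA : KitA i φ L := H31.UA.kitA i σ B φ L c
theorem kB : KitB i φ L := H36.UKB.kitB i σ B φ L c

/-- Inner involutions centralize a large elementary abelian group. -/
theorem big_inner {j : G} (hj : j ∈ L) (h2 : j * j = 1) :
    ¬ RK j (Nat.card F ^ (finrank E V / 2) ^ 2) := fun h => by
  have K := kA c
  obtain ⟨s, hs, rfl⟩ := c.lift2 hj (is2_of_sq h2)
  have hss : s * s = 1 := by
    refine c.one ?_ (by rw [map_mul, h2]; exact one_mem _)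
    obtain ⟨k, hk⟩ := hs
    exact ⟨k, by rw [← pow_two, ← pow_mul, mul_comm, pow_mul, hk, one_pow]⟩
  obtain ⟨S, U, h3, h4, -, -, h7, h8⟩ := H45.UInn.exists_max c (H29.UmSI.tot_im c hss)
  obtain ⟨n, h1, h5⟩ := H45.UInn.exists_inj c h4
  have h6 : ∀ A x, (n A).1 x - x ∈ S := fun A x =>
    c.herm.perp_perp S ▸ H45.UInn.sub_mem_perp (h5 A) x
  have h9 : ∀ A, Is2 (n A) := fun A =>
    is2_of_mem (H45.UInn.isP_R0 c S) (H45.UInn.mem_R0_of h4 (h5 A))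
  have := Nat.card_le_card_of_injective (fun A => (⟨φ (n A), (K.as S h4 _).2
    ⟨_, rfl, h6 A, h5 A⟩⟩ : AS i φ S)) fun A A' e =>
      h1 (c.inj2 (h9 A) (h9 A') (congrArg Subtype.val e))
  rw [Nat.card_fun, Nat.card_fun, Nat.card_fin, ← pow_mul, ← pow_two] at this
  refine (h _ (fun g hg => ?_) fun g hg => (H29.UmSI.as_sq c K h4 hg).2.2).not_ge
    ((show finrank E V / 2 = finrank E S by omega) ▸ this)
  obtain ⟨r, hr, rfl⟩ := (H29.UmSI.as_sq c K h4 hg).2.1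
  exact mem_C1.2 ((H45.UInn.comm_R0 c (fun x => h3 (H29.UmSI.mem_im.2 ⟨x, rfl⟩)) r hr).map φ)

variable (ho : Odd (Nat.card C[L]))
include ho

theorem gr_of {d : G} (hd : d ∈ N[L]) (d2 : d * d = 1)
    (rk : RK d (Nat.card F ^ (finrank E V / 2) ^ 2)) : ∃ f, Gr φ L d f := by
  obtain ⟨f, h1, h2, h3⟩ := H30.UmOut.graph c (kA c) hd (is2_of_sq d2) (d2 ▸ one_mem _) fun e =>
    big_inner c (mem_of_two (centralizer_le_normalizer _) ho e (is2_of_sq d2)) d2 rk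
  exact ⟨f, hd, d2, h1, h2, h3⟩

omit ho in
theorem σ_sq : σ * σ = 1 := RingEquiv.ext fun a => c.qf.sq a

omit ho in
theorem σ_ne : σ ≠ 1 := fun e => by
  obtain ⟨ω, h⟩ := c.qf.tr
  rw [e] at h
  simp at h

theorem outP {t : G} {f : V ≃+ V} (h : Gr φ L t f) {x : G} (hx : x ∈ N[L]) (x2 : Is2 x)
    (h1 : x ∉ L) : ∃ j m : ℕ, Odd m ∧ (x ^ j * t) ^ m ∈ L ⊔ C[L] := by
  obtain ⟨ψ, k1, k2⟩ := (kA c).out
  obtain ⟨k, hk⟩ := id x2
  obtain ⟨j, j1, j2⟩ := exists_inv k (ψ ⟨x, hx⟩) (by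
    rw [← map_pow, show (⟨x, hx⟩ : N[L]) ^ 2 ^ k = 1 from Subtype.ext hk, map_one]) fun e => by
      obtain ⟨m, hm, e'⟩ := k2 ⟨x, hx⟩ e
      exact h1 (mem_of_two (centralizer_le_normalizer _) ho (H37.Kit.mem_of_odd_pow x2 hm e') x2)
  have e := H67.UCls.eq_σ c (fun a => DFunLike.congr_fun j2 a) j1
  exact ⟨j, k2 (⟨x, hx⟩ ^ j * ⟨t, h.mem⟩) (by
    rw [MonoidHom.mem_ker, map_mul, map_pow, e, k1 ⟨t, h.mem⟩ f σ h.semi h.act, σ_sq c])⟩

/-- `t` fixes only one coset of `N(L)`. -/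
theorem fix1 {t : G} (cN : C1[t] ≤ N[L]) {f : V ≃+ V} (h : Gr φ L t f)
    (rk : RK t (Nat.card F ^ (finrank E V / 2) ^ 2))
    (al : Even (finrank E V) → ∀ g f', Gr φ L (g * t * g⁻¹) f' → Alt B f')
    (cl : ∀ t' f', Gr φ L t' f' → (Even (finrank E V) → (Alt B f ↔ Alt B f')) →
      t * t' ∈ L ⊔ C[L] → ∃ m ∈ L ⊔ C[L], t' = m * t * m⁻¹) : Fix1 N[L] {t} := by
  intro g hg
  replace hg := hg t rfl
  have c2 : ∀ g : G, g * t * g⁻¹ * (g * t * g⁻¹) = 1 := fun g => by rw [conj_mul, h.sq]; group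
  obtain ⟨ψ, k1, k2⟩ := (kA c).out
  obtain ⟨f1, h1⟩ := gr_of c ho hg (c2 g) (rk.conj g)
  obtain ⟨_, ⟨j, rfl⟩, e⟩ := k2 (⟨t, h.mem⟩ * ⟨_, hg⟩) (by
    rw [MonoidHom.mem_ker, map_mul, k1 ⟨t, h.mem⟩ f σ h.semi h.act, k1 ⟨_, hg⟩ f1 σ h1.semi h1.act,
      σ_sq c])
  change (t * (g * t * g⁻¹)) ^ (2 * j + 1) ∈ _ at e
  have hN := pow_mem (mul_mem h.mem hg) j
  have e1 : ∀ {d : G}, d * d = 1 → t * (((t * d) ^ j)⁻¹ * d * (t * d) ^ j) = (t * d) ^ (2 * j + 1) :=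
    fun {d} d2 => by
      have e2 : d * (t * d) * d⁻¹ = (t * d)⁻¹ := by
        rw [mul_inv_rev, inv_eq_of_mul_eq_one_right d2, inv_eq_of_mul_eq_one_right h.sq,
          mul_assoc, mul_assoc, d2, mul_one]
      rw [← inv_pow, ← e2, conj_pow, two_mul, pow_succ', pow_add]
      group
  have e3 : ((t * (g * t * g⁻¹)) ^ j)⁻¹ * (g * t * g⁻¹) * (t * (g * t * g⁻¹)) ^ j =
      ((t * (g * t * g⁻¹)) ^ j)⁻¹ * g * t * (((t * (g * t * g⁻¹)) ^ j)⁻¹ * g)⁻¹ := by group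
  rw [← e1 (c2 g), e3] at e
  have hg' := e3 ▸ mul_mem (mul_mem (inv_mem hN) hg) hN
  rw [← mul_mem_cancel_left (inv_mem hN)]
  generalize ((t * (g * t * g⁻¹)) ^ j)⁻¹ * g = y at e hg'
  obtain ⟨f2, h2⟩ := gr_of c ho hg' (c2 y) (rk.conj y)
  obtain ⟨m, hm, e4⟩ := cl _ f2 h2 (fun k => iff_of_true (al k 1 f (by simpa using h))
    (al k y f2 h2)) e
  rw [← mul_mem_cancel_left (inv_mem (sup_le le_normalizer (centralizer_le_normalizer _) hm))]
  refine cN (mem_C1.2 ?_)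
  show _ * _ = _ * _
  calc m⁻¹ * y * t = m⁻¹ * (y * t * y⁻¹) * y := by group
    _ = _ := by rw [e4]; group

omit ho in
theorem not_mem {t : G} {f : V ≃+ V} (h : Gr φ L t f) {X : Subgroup G} (H : Glob X L t) :
    t ∉ X := fun tX => by
  obtain ⟨ψ, k1, -⟩ := (kA c).out
  obtain ⟨v, hv⟩ := c.exists_pt
  have cW : ⁅N[L], N[L]⁆ ≤ ψ.ker.map N[L].subtype := commutator_le.2 fun a ha b hb =>
    ⟨⁅(⟨a, ha⟩ : N[L]), ⟨b, hb⟩⁆, by
      rw [SetLike.mem_coe, MonoidHom.mem_ker, map_commutatorElement,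
        commutatorElement_eq_one_iff_mul_comm, H31.UA.ringAut_comm], rfl⟩
  obtain ⟨y, hy, e⟩ := H69.SlE.tr (K := ⊤) cW (map_subtype_le _) (by
      rw [relIndex_top_right, Nat.two_dvd_ne_zero, ← Nat.odd_iff]
      exact Fix1.odd_index H.e0 h.sq h.mem)
    (commutator_mono le_top le_top (perfX H.simple H.le (isPerfect_iff.1 c.mod.qs.1)
      (c.TT_mem hv.1 1) (fun e => one_ne_zero (c.TT_eq_one hv e)) tX)) h.mem h.sq
    fun g _ hg => H69.SlE.conjW cW (H69.SlE.fix_at H.e0 hg) h.mem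
  obtain rfl : y = ⟨t, h.mem⟩ := Subtype.ext e
  exact σ_ne c ((k1 ⟨t, h.mem⟩ f σ h.semi h.act).symm.trans hy)

omit ho in
theorem mem_rt {v w : V} (hv : Pt B v) (hw : Pt B w) {a : F} (ha : a ≠ 0) :
    TT i φ w a ∈ Rt L (TT i φ v 1) := by
  obtain ⟨d, hd⟩ := c.qf.norm_surj a
  obtain ⟨s, e⟩ := c.trans hv (hw.smul (c := d) fun e => ha (i.injective (by simp [← hd, e])))
  exact ⟨φ s, c.mem s, by rw [c.TT_conj s hv.1, e, UCtx.TT_smul w hd.symm, mul_one]⟩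

theorem locP {v : V} (hv : Pt B v) {t : G} {f : V ≃+ V} (h : Gr φ L t f) (t2 : orderOf t = 2)
    (geo : Geo L (QV φ v) (ZV i φ v) (TT i φ v 1)) (simp : Simp L (QV φ v) (ZV i φ v) (TT i φ v 1))
    (ny : NY L (QV φ v) (ZV i φ v) (TT i φ v 1)) (mv : Mv L (QV φ v) (ZV i φ v) (TT i φ v 1) t) :
    ∃ U, LocP L U (QV φ v) (ZV i φ v) (TT i φ v 1) t := by
  obtain ⟨W, _, _, v', κ, p, B', Qf, hd⟩ := H22.UH.exists_hd c hv
  have H := H22.UH.heis0 c hd (kA c)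
  obtain ⟨U, syl, UC⟩ := H22.UH.syl c hv
  have z1 : TT i φ v 1 ≠ 1 := fun e => one_ne_zero (c.TT_eq_one hv e)
  have hW := H70.SL.finW H
  have cd := H70.SL.card_ge H H.ZQ id Function.injective_id fun w =>
    (H.πsurj w).imp fun _ k => ⟨k.1, k⟩
  have cZ : Nat.card (ZV i φ v) ≤ Nat.card F := Nat.card_le_card_of_surjective
    (fun a => (⟨_, TT_mem_ZV v a⟩ : ZV i φ v)) fun ⟨g, hg⟩ =>
      ((H.ζmem g).1 hg).imp fun _ e => Subtype.ext e.symm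
  have b1 := H.big.2
  have b2 : 2 ≤ Nat.card F := Finite.one_lt_card
  have rt : ∀ x, B x x = 0 → ∀ a, TT i φ x a = 1 ∨ TT i φ x a ∈ Rt L (TT i φ v 1) := fun x hx a => by
    by_cases x0 : x = 0
    · exact .inl (x0 ▸ UCtx.TT_zero_left a)
    by_cases a0 : a = 0
    · exact .inl (a0 ▸ UCtx.TT_zero x)
    exact .inr (mem_rt c hv ⟨hx, x0⟩ a0)
  refine ⟨U, syl, syl.le_of_le_normalizer (H22.UH.pQ c hv) H.QL fun u hu =>
      H.nQ ⟨le_normalizer (syl.le hu), centralizer_le_normalizer _ (UC hu)⟩, H.ZQ, TT_mem_ZV v 1, z1,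
    fun _ => H70.SL.Zsq H, UC, ho, h.mem, t2, H.nQ,
    fun g hg => H.ti g hg.1 _ (TT_mem_ZV v 1) z1 (by
      rw [(mem_C1.1 hg.2).eq, mul_inv_cancel_right]; exact TT_mem_ZV v 1),
    fun m hm => ?_, fun w hw w1 => ?_, fun x hx => H.sq x hx ▸ TT_mem_ZV v _,
    le_antisymm (commutator_le.2 fun a ha b hb => H.com a ha b hb ▸ TT_mem_ZV v _)
      (H65.WrH.Z_le_der H), H.triv, fun g hg => ?_, ?_, ?_, c.gen fun x hx a => ?_,
    isPerfect_iff.1 c.mod.qs.1, by nlinarith, by nlinarith, fun x => outP c ho h, geo, simp, ny, mv⟩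
  · obtain ⟨f, θ, hs, ha⟩ := c.mod.ext m hm
    rw [c.TT_act hs ha hv.1 (b := 1) (by simp)]
    exact mem_rt c hv (hs.pt hv) one_ne_zero
  · obtain ⟨a, rfl⟩ := (H.ζmem w).1 hw
    exact (rt v hv.1 a).resolve_left w1
  · obtain ⟨a, z, hz, rfl⟩ := c.cQ (kA c) hv hg.1 hg.2
    exact mul_mem_sup (TT_mem_ZV v a) hz
  · rw [(kB c).qgen v hv]
    refine sup_le ((closure_le _).2 ?_) le_sup_left
    rintro _ ⟨x, h1, h2, rfl⟩
    by_cases e : BB (TT i φ) x v 1 ∈ ZV i φ v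
    · exact mem_sup_left e
    refine mem_sup_right (subset_closure ⟨?_, ?_, e⟩)
    · exact mem_sup_left (subset_closure ⟨x, h1, h2, rfl⟩)
    rw [c.BB_TT h1 hv.1 h2, H22.UH.EE_sq c hv.1 (by simp [h2]) (by simp [h1]) (a := 0) (by simp [h1]),
      UCtx.TT_zero]
  · rw [(kB c).ygen v hv]
    refine (closure_le _).2 ?_
    rintro _ ⟨x, h1, h2, a, rfl⟩
    rcases rt x h1 a with e | e
    · rw [e]; exact one_mem _
    exact subset_closure ⟨e, (YZ_le (H22.UH.TT_YZ c hv.1 h1 h2 a)).2⟩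
  · rcases rt x hx.1 a with e | e
    · rw [e]; exact one_mem _
    exact subset_closure e

omit c ho

theorem rk_lt {q k : ℕ} (hq : 2 ≤ q) (hk : 3 ≤ k ∨ 2 ≤ k ∧ 4 ≤ q) :
    2 * q ^ (k * (k + 1) / 2) < q ^ k ^ 2 := by
  obtain ⟨n, hn⟩ := Nat.even_mul_succ_self k
  have e : k * (k + 1) / 2 = n := by omega
  rw [e]
  rcases hk with hk | ⟨hk, h4⟩
  · calc _ < q ^ 2 * q ^ n := Nat.mul_lt_mul_of_pos_right (by nlinarith) (by positivity)
      _ ≤ _ := by rw [← pow_add]; exact Nat.pow_le_pow_right (by omega) (by nlinarith)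
  · calc _ < q ^ 1 * q ^ n := Nat.mul_lt_mul_of_pos_right (by rw [pow_one]; omega) (by positivity)
      _ ≤ _ := by rw [← pow_add]; exact Nat.pow_le_pow_right (by omega) (by nlinarith)

/-- **ENDU** from its pieces. -/
theorem endU_of (s1 : GeoStmt.{u, v}) (s2 : SimpStmt.{u, v}) (s3 : NYStmt.{u, v})
    (s4 : MvStmt.{u, v}) (s5 : ClStmt.{u, v}) (s6 : AltStmt.{u, v}) (c : UCtx i φ L) {k : ℕ}
    (hk : 3 ≤ k) (hm : finrank E V = 2 * k ∨ finrank E V = 2 * k + 1) {t : G}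
    (t2 : orderOf t = 2) (cN : C1[t] ≤ N[L]) (ho : Odd (Nat.card C[L]))
    (rk : ∀ A : Subgroup G, A ≤ C1[t] → (∀ g ∈ A, g * g = 1) →
      Nat.card A ≤ 2 * Nat.card F ^ (k * (k + 1) / 2))
    (ab : finrank E V = 2 * k → AB t (4 * Nat.card F ^ (k * (k - 1) / 2)))
    {X : Subgroup G} (nrm : X.Normal) (simple : IsSimpleGroup X) (gen : X ⊔ zpowers t = ⊤)
    (le : L ≤ X) : L = X := by
  have m6 : 6 ≤ finrank E V := by omega
  have tt : t * t = 1 := by rw [← pow_two, ← t2, pow_orderOf_eq_one]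
  have rk' : RK t (Nat.card F ^ (finrank E V / 2) ^ 2) := fun A h1 h2 => by
    rw [show finrank E V / 2 = k by omega]
    exact (rk A h1 h2).trans_lt (rk_lt Finite.one_lt_card (.inl hk))
  obtain ⟨f, h⟩ := gr_of c ho (cN (mem_C1.2 (.refl t))) tt rk'
  have al : Even (finrank E V) → ∀ g f', Gr φ L (g * t * g⁻¹) f' → Alt B f' := fun e g f' h' =>
    have e' : finrank E V = 2 * k := by rw [Nat.even_iff] at e; omega
    s6 s5 i σ B φ L c (kA c) (kB c) m6 ho _ f' h' k e' ((ab e').conj g)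
  have H : Glob X L t := ⟨nrm, simple, gen, le, fix1 c ho cN h rk' al fun t' f' h' =>
    s5 i σ B φ L c (kA c) (kB c) m6 ho t f t' f' h h'⟩
  obtain ⟨v, hv, mv⟩ := s4 i σ B φ L c (kA c) (kB c) m6 t f h fun e => al e 1 f (by simpa using h)
  obtain ⟨U, l⟩ := locP c ho hv h t2 (s1 i σ B φ L c (kA c) (kB c) m6 v hv)
    (s2 i σ B φ L c (kA c) (kB c) m6 v hv) (s3 i σ B φ L c (kA c) (kB c) m6 v hv) mv
  exact endP l H (not_mem c h H)

end Cfsg.Agent.H34.UE
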