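/-
The module of `U₆(2)` in the Leech lattice modulo two: equivariant maps and automorphisms.
-/
import Cfsg.Agent.H47.BuLat
import Cfsg.Agent.H34.MidAut3
import Cfsg.Agent.S2603

set_option autoImplicit false
set_option maxRecDepth 100000

namespace Cfsg.Agent.H34.BuA

open Cfsg Subgroup Cfsg.Agent.H48 Cfsg.Agent.H49 Cfsg.Agent.H47.Bu

section dual

variable {b d : Fin 24 → Lam}
  (gr : ∀ i j, dotInt (b i).1 (d j).1 % 16 = if i = j then 8 else 0)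
include gr

theorem dot_comb' (c : Fin 24 → ℕ) (j : Fin 24) :
    16 ∣ dotInt (∑ i, c i • b i).1 (d j).1 - 8 * c j := by
  have e : dotInt (∑ i, c i • b i).1 (d j).1 = ∑ i, (c i : ℤ) * dotInt (b i).1 (d j).1 := by
    change dh (d j) _ = _
    rw [map_sum]
    simp only [map_nsmul, nsmul_eq_mul]
    rfl
  have e2 : (8 * c j : ℤ) = ∑ i, (c i : ℤ) * (if i = j then 8 else 0) := by
    simp [mul_comm]
  rw [e, e2, ← Finset.sum_sub_distrib]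
  refine Finset.dvd_sum fun i _ => ?_
  rw [← mul_sub, ← gr]
  exact Dvd.dvd.mul_left (Int.dvd_self_sub_of_emod_eq rfl) _

theorem exists_comb' (v : Lam) : ∃ c : Fin 24 → ℕ, cong (∑ i, c i • b i) v := by
  have hfin : Finite (Lam ⧸ twoLam) :=
    Nat.finite_of_card_ne_zero (by rw [← AddSubgroup.index_eq_card, index_twoLam]; norm_num)
  let F : (Fin 24 → Fin 2) → Lam ⧸ twoLam := fun c => QuotientAddGroup.mk (∑ i, (c i : ℕ) • b i)
  have key : ∀ a b : Lam, (QuotientAddGroup.mk a : Lam ⧸ twoLam) = QuotientAddGroup.mk b →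
      cong a b := fun a b e => by
    obtain ⟨u, hu⟩ := mem_twoLam.1 (QuotientAddGroup.eq.1 e)
    exact ⟨u, by rw [← two_nsmul, ← hu]; abel⟩
  have inj : Function.Injective F := fun c c' e => by
    funext j
    have h1 := (key _ _ e).dot_mod (d j)
    have h2 := dot_comb' gr (fun i => c i) j
    have h3 := dot_comb' gr (fun i => c' i) j
    have := (c j).2
    have := (c' j).2
    apply Fin.ext
    omega
  obtain ⟨c, hc⟩ := (inj.bijective_of_nat_card_le (by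
    rw [← AddSubgroup.index_eq_card, index_twoLam]; simp)).2 (QuotientAddGroup.mk v)
  exact ⟨_, key _ _ hc⟩

theorem mem_of_dual {A : AddSubgroup Lam} (h0 : ∀ u, u + u ∈ A) {v : Lam}
    (h : ∀ i, b i ∈ A ∨ 16 ∣ dotInt v.1 (d i).1) : v ∈ A := by
  obtain ⟨c, hc⟩ := exists_comb' gr v
  have : ∑ i, c i • b i ∈ A := A.sum_mem fun i _ => (h i).elim (A.nsmul_mem · _) fun h3 => by
    have h1 := hc.dot_mod (d i)
    have h2 := dot_comb' gr c i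
    obtain ⟨k, hk⟩ : ∃ k, c i = k + k := ⟨c i / 2, by omega⟩
    rw [hk, add_nsmul]
    exact h0 _
  obtain ⟨u, rfl⟩ := hc
  exact add_mem this (h0 u)

end dual

/-- a basis of the lattice modulo two -/
def bF : List (List ℤ) :=
  [[4, 0, 0, 0, 0, 0, 0, 0, 0, 0, 0, 0, 0, 0, 0, 0, 0, 0, 0, 0, 0, 0, 0, 4],
   [0, 4, 0, 0, 0, 0, 0, 0, 0, 0, 0, 0, 0, 0, 0, 0, 0, 0, 0, 0, 0, 0, 0, 4],
   [4, 4, 0, 0, 0, 0, 0, 0, 0, 0, 0, 0, 0, 0, 0, 0, 0, 0, 0, 0, 0, 0, 0, 0],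
   [-2, 0, 2, 2, 2, 2, -2, 0, 0, 0, 0, 2, 0, -2, 2, -2, 2, -2, -2, -2, 2, 0, -2, 0],
   [-2, 0, 0, 0, 0, 0, -2, -2, -2, 2, 0, 2, 0, 0, 0, 4, 0, 0, 0, 0, -2, 0, 0, 2],
   [-1, 3, 1, -1, -1, 1, -1, 1, 1, -1, 1, -1, 1, 1, 1, 3, -1, 3, -1, -1, 1, 1, 1, 1],
   [0, 0, -2, -2, 2, -2, 0, 0, 0, -2, 0, 2, -2, -2, 0, 0, -2, -2, -2, -2, 0, 0, 0, 0],
   [-2, -2, 4, 0, 0, 0, 0, -2, 0, -4, 2, 2, 0, 0, 0, 0, 0, -2, 0, 0, 0, 0, 2, 2],
   [0, 0, 2, -2, -2, 2, 0, 0, 2, 0, 2, 0, 0, 2, 0, -2, -2, -2, -4, 2, 2, 0, 0, 0],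
   [2, 2, 0, 0, 0, 0, 0, 0, -2, 2, 0, 0, 0, 0, -2, 0, 0, 0, 0, 2, 0, 0, -2, 6],
   [0, 0, -2, 2, 0, 2, 0, 0, 2, 0, 0, 0, 0, 0, -2, 0, -2, 0, 0, -4, -2, 2, 0, 4],
   [2, -2, 0, 0, 0, 0, 0, 0, 0, 0, 0, 0, 0, 2, 0, 2, 0, 2, -2, 2, 0, 0, 0, 2],
   [-2, -2, -2, -2, 2, -2, 2, 0, 0, -2, 0, 0, -2, -2, -2, 2, 0, -2, -2, -2, 0, 0, 0, 2],
   [-2, 2, 2, -2, -2, 0, 2, 0, 2, 0, 2, 0, 0, -2, 0, 2, -2, 2, -2, -2, 0, 0, -2, 2],
   [-2, -2, 2, 0, 2, 0, 0, 2, 0, 0, 0, 0, 2, -2, -2, 2, -2, 2, 2, -2, 2, 0, 2, 2],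
   [4, 0, 0, 0, 0, 0, 0, 0, 0, 0, 0, 0, 0, 0, -4, 0, 0, 0, 0, 0, 0, 0, 0, 0],
   [4, -4, 0, 0, 0, 0, 0, 0, 0, 0, 0, 0, 0, 0, 0, -4, 0, 0, 0, 0, 0, 0, 0, 4],
   [4, 0, 0, 0, 0, 0, 0, 0, 0, 0, 0, 0, 0, 0, 0, 0, -4, 0, 0, 0, 0, 0, 0, 0],
   [4, 4, 0, 0, 0, 0, 0, 0, 0, 0, 0, 0, 0, 0, 0, 0, 0, 4, 0, 0, 0, 0, 0, 4],
   [0, 4, 0, 0, 0, 0, 0, 0, 0, 0, 0, 0, 0, 0, 0, 0, 0, 0, -4, 0, 0, 0, 0, 0],
   [0, 0, 0, 0, 0, 0, 0, 0, 0, 0, 0, 0, 0, 0, 0, 0, 0, 0, 0, -4, 0, 0, 0, 4],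
   [4, -4, 0, 0, 0, 0, 0, 0, 0, 0, 0, 0, 0, 0, 0, 0, 0, 0, 0, 0, -4, 0, 0, 4],
   [0, 0, 0, 0, 0, 0, 0, 0, 0, 0, 0, 0, 0, 0, 0, 0, 0, 0, 0, 0, 0, -4, 0, 4],
   [0, 4, 0, 0, 0, 0, 0, 0, 0, 0, 0, 0, 0, 0, 0, 0, 0, 0, 0, 0, 0, 0, -4, 0]]

/-- the dual basis -/
def dF : List (List ℤ) :=
  [[3, 1, 1, -1, 1, 1, 1, 1, 1, 1, 1, 1, 1, 3, 3, 1, 3, 1, 1, -1, 1, -1, 1, 3],
   [-1, 1, -1, -3, 1, 1, 1, 1, 1, 1, 1, 1, 1, -1, -1, -1, -1, -1, 1, -3, -1, -3, 1, 1],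
   [1, 1, -1, -1, 1, 1, 1, 1, 1, 1, 1, 1, 1, 1, 1, -1, 1, -1, 1, -1, -1, -1, 1, 3],
   [4, 0, 0, 0, 0, 0, 0, 0, 0, 0, 0, 0, 0, 0, 0, 0, 0, 0, 0, 0, 0, 0, 0, 4],
   [0, 4, 0, 0, 0, 0, 0, 0, 0, 0, 0, 0, 0, 0, 0, 0, 0, 0, 0, 0, 0, 0, 0, 4],
   [0, 0, -8, 0, 0, 0, 0, 0, 0, 0, 0, 0, 0, 0, 0, 0, 0, 0, 0, 0, 0, 0, 0, 0],
   [0, 0, 0, 0, 0, 0, 0, 0, 0, 0, 0, 0, 0, -4, 0, -4, 0, 0, 0, 0, 0, 0, 0, 0],
   [0, 0, 0, 0, 0, 0, 0, 0, 0, 0, 0, 0, 0, -4, 0, 0, 0, -4, 0, 0, 0, 0, 0, 0],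
   [0, 0, 0, 0, 0, 0, 0, 0, 0, 0, 0, 0, 0, -4, 0, 0, 0, 0, -4, 0, 0, 0, 0, 0],
   [0, 0, 0, 0, 0, 0, 0, 0, 0, 0, 0, 0, 0, -4, 0, 0, 0, 0, 0, -4, 0, 0, 0, 0],
   [0, 0, -4, 0, -4, 0, 0, 0, 0, 0, 0, 0, 0, 0, 0, 0, 0, 0, 0, 0, 0, 0, 0, 0],
   [0, 0, 0, 0, -4, 0, 0, 0, 0, 0, 0, 0, 0, -4, 0, 0, 0, 0, 0, 0, 0, 0, 0, 0],
   [0, 0, -4, 0, 0, 0, 0, 0, 0, 0, 0, 0, 0, 0, 0, 0, -4, 0, 0, 0, 0, 0, 0, 0],
   [0, 0, 0, -4, 0, -4, 0, 0, 0, 0, 0, 0, 0, 0, 0, 0, 0, 0, 0, 0, 0, 0, 0, 0],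
   [0, 0, -4, -4, 0, 0, 0, 0, 0, 0, 0, 0, 0, 0, 0, 0, 0, 0, 0, 0, 0, 0, 0, 0],
   [0, 0, 2, 2, -2, -2, -2, 0, 0, -2, 0, 0, -2, 0, -2, 0, 0, 0, 0, 0, 0, 0, 0, 0],
   [0, 0, 0, 2, -2, -2, -2, -2, 0, 0, -2, 0, 0, -2, 0, 2, 0, 0, 0, 0, 0, 0, 0, 0],
   [0, 0, 2, 2, 0, 0, 0, -2, -2, -2, 0, -2, -2, 0, 0, 0, -2, 0, 0, 0, 0, 0, 0, 0],
   [0, 0, 0, 2, -2, 0, 0, 0, -2, -2, -2, 0, -2, -2, 0, 0, 0, 2, 0, 0, 0, 0, 0, 0],
   [0, 0, 2, 2, 0, 0, -2, 0, 0, 0, -2, -2, -2, -2, 0, 0, 0, 0, -2, 0, 0, 0, 0, 0],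
   [0, 0, 2, 0, 0, -2, -2, -2, 0, -2, 0, -2, 0, -2, 0, 0, 0, 0, 0, 2, 0, 0, 0, 0],
   [0, 0, 2, 0, -2, -2, 0, -2, -2, -2, -2, 0, 0, 0, 0, 0, 0, 0, 0, 0, 2, 0, 0, 0],
   [0, 0, 0, 2, 0, -2, -2, 0, -2, -2, -2, -2, 0, 0, 0, 0, 0, 0, 0, 0, 0, 2, 0, 0],
   [0, 0, 0, 0, -2, 0, -2, -2, 0, -2, -2, -2, -2, 0, 0, 0, 0, 0, 0, 0, 0, 0, -2, 0]]

theorem bF_ok : ∀ i : Fin 24, memL (bF.getD i []) = true := by decide +kernel

theorem dF_ok : ∀ i : Fin 24, memL (dF.getD i []) = true := by decide +kernel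

/-- the basis vectors -/
def bw (i : Fin 24) : Lam := lam _ (bF_ok i)

/-- the dual vectors -/
def dw (i : Fin 24) : Lam := lam _ (dF_ok i)

theorem gram' (i j : Fin 24) : dotInt (bw i).1 (dw j).1 % 16 = if i = j then 8 else 0 := by
  rw [bw, dw, lam_val, lam_val, dot_vec _ _ (memL_length (bF_ok i))]
  revert i j
  decide +kernel

/-- octads that avoid the three points -/
def cw (i : Fin 24) : Finset GolayPt := Finset.univ.filter fun k =>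
  ([0, 0, 0, 0, 0, 21116, 42232, 145176, 277580, 535268, 21116, 42232, 72588, 42232, 72588,
    21116, 42232, 72588, 145176, 277580, 535268, 1050548, 2101096, 4202192].getD i 0).testBit (ix k)

/-- indices of vectors -/
def jw (i : Fin 24) : Fin 24 :=
  [2, 2, 2, 2, 2, 3, 14, 14, 14, 14, 15, 15, 15, 16, 16, 23, 23, 23, 23, 23, 23, 23, 23, 23].getD i 2

theorem cw_word : ∀ i, IsWord (cw i) := by simp only [isWord_iff_qr]; decide +kernel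

theorem cw_spec : ∀ i, (∀ k, (if k ∈ cw i then -vU.1 k else vU.1 k) = vU.1 k) ∧
    (∀ k, (if k ∈ cw i then -vX.1 k else vX.1 k) = vX.1 k) ∧
    (∀ k, (if k ∈ cw i then -rp15.1 k else rp15.1 k) = rp15.1 k) ∧ PW (bv (jw i)) ∧
    (5 ≤ i → ∀ k, (if k ∈ cw i then -(bv (jw i)).1 k else (bv (jw i)).1 k) =
      (bv (jw i)).1 k + (dw i).1 k) := by
  unfold PW; decide +kernel

/-- The span of `vU` and `vX`. -/
def VV : AddSubgroup Lam := AddSubgroup.closure {vU, vX}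

/-- The span of `vU`, `vX` and the doubles. -/
def MV : AddSubgroup Lam := VV ⊔ twoLam

theorem two_mem (u : Lam) : u + u ∈ twoLam := ⟨u, two_nsmul u⟩

theorem mem_two {v : Lam} : v ∈ twoLam ↔ cong 0 v :=
  ⟨fun ⟨u, e⟩ => ⟨u, by rw [← e, zero_add]; exact two_nsmul u⟩,
    fun ⟨u, e⟩ => by rw [e, zero_add]; exact two_mem u⟩

theorem U_mem : vU ∈ VV := AddSubgroup.subset_closure (by simp)

theorem X_mem : vX ∈ VV := AddSubgroup.subset_closure (by simp)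

theorem two_MV (u : Lam) : u + u ∈ MV := AddSubgroup.mem_sup_right (two_mem u)

/-- the action of an isometry as an additive map -/
def sm (g : Co0) : Lam →+ Lam := AddMonoidHom.mk' (g • ·) (co_add g)

theorem fix_VV {g : Co0} (hg : g ∈ St vU ⊓ St vX) {v : Lam} (hv : v ∈ VV) : g • v = v :=
  (AddSubgroup.closure_le ((sm g).eqLocus (AddMonoidHom.id _))).2
    (by rintro _ (rfl | rfl); exacts [hg.1, hg.2]) hv

theorem fix_MV {g : Co0} (hg : g ∈ St vU ⊓ St vX) {v : Lam} (hv : v ∈ MV) :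
    g • v - v ∈ twoLam := by
  obtain ⟨x, hx, y, hy, rfl⟩ := AddSubgroup.mem_sup.1 hv
  rw [co_add, fix_VV hg hx, add_sub_add_left_eq_sub]
  exact sub_mem (smul_mem_twoLam g hy) hy

theorem perp_MV {v w : Lam} (hw : PW w) (hv : v ∈ MV) : 16 ∣ dotInt v.1 w.1 := by
  have : MV ≤ (AddSubgroup.zmultiples (16 : ℤ)).comap (dh w) := sup_le
    ((AddSubgroup.closure_le _).2 (by
      rintro _ (rfl | rfl)
      exacts [Int.mem_zmultiples_iff.2 (hw.1.trans (dotInt_comm _ _).dvd),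
        Int.mem_zmultiples_iff.2 (hw.2.trans (dotInt_comm _ _).dvd)]))
    fun v hv => Int.mem_zmultiples_iff.2 (by
      have := (mem_two.1 hv).dot_mod w
      rwa [show dotInt (0 : Lam).1 w.1 = 0 from map_zero (dh w), sub_zero] at this)
  exact Int.mem_zmultiples_iff.1 (this hv)

theorem mem_sup_zm {A : AddSubgroup Lam} (h0 : ∀ u, u + u ∈ A) {v w : Lam}
    (h : v ∈ A ⊔ AddSubgroup.zmultiples w) : v ∈ A ∨ v - w ∈ A := by
  obtain ⟨x, hx, _, ⟨k, rfl⟩, rfl⟩ := AddSubgroup.mem_sup.1 h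
  rcases Int.even_or_odd' k with ⟨m, rfl | rfl⟩
  · exact Or.inl (by convert add_mem hx (h0 (m • w)) using 2; module)
  · exact Or.inr (by convert add_mem hx (h0 (m • w)) using 1; module)

/-- The fixed points of the stabilizer of `rp15`. -/
theorem fix {y : Lam} (hy : PW y)
    (h : ∀ g ∈ St vU ⊓ St vX, g • rp15 = rp15 → g • y - y ∈ MV) : y ∈ MV ∨ y - rp15 ∈ MV := by
  refine mem_sup_zm two_MV (mem_of_dual gram' (fun u => AddSubgroup.mem_sup_left (two_MV u))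
    fun i => ?_)
  by_cases hi : 5 ≤ i
  · obtain ⟨h1, h2, h3, h4, h5⟩ := cw_spec i
    have h6 := perp_MV h4 (h (signEl _ (cw_word i)) ⟨Subtype.ext (funext h1),
      Subtype.ext (funext h2)⟩ (Subtype.ext (funext h3)))
    have h7 : signEl _ (cw_word i) • bv (jw i) = bv (jw i) + dw i := Subtype.ext (funext (h5 hi))
    rw [AddSubgroup.coe_sub, dotInt_sub_left, co_dot_inv, signEl_inv, h7, AddSubgroup.coe_add,
      dotInt_add_right, add_sub_cancel_left] at h6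
    exact Or.inr h6
  · have e0 : bw 0 = vU := Subtype.ext (by decide +kernel)
    have e3 : dw 3 = vU := Subtype.ext (by decide +kernel)
    obtain rfl | rfl | rfl | rfl | rfl : i = 0 ∨ i = 1 ∨ i = 2 ∨ i = 3 ∨ i = 4 := by omega
    exacts [Or.inl (e0 ▸ AddSubgroup.mem_sup_left (AddSubgroup.mem_sup_left U_mem)),
      Or.inl (AddSubgroup.mem_sup_left (AddSubgroup.mem_sup_left X_mem)),
      Or.inl (AddSubgroup.mem_sup_right (AddSubgroup.mem_zmultiples _)), Or.inr (e3 ▸ hy.1),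
      Or.inr hy.2]

/-- The stabilizer of the span of `vU` and `vX`. -/
def NV : Subgroup Co0 where
  carrier := {g | ∀ v ∈ VV, g • v ∈ VV}
  one_mem' := fun v hv => by rwa [one_smul]
  mul_mem' := fun hg hk v hv => by rw [mul_smul]; exact hg _ (hk v hv)
  inv_mem' := fun {g} hg v hv => by
    have : ∀ n : ℕ, g ^ n • v ∈ VV := fun n => by
      induction n with
      | zero => rwa [pow_zero, one_smul]
      | succ n ih => rw [pow_succ', mul_smul]; exact hg _ ih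
    rw [inv_eq_of_mul_eq_one_left (b := g) (a := g ^ (orderOf g - 1)) (by
      rw [← pow_succ, Nat.sub_add_cancel (orderOf_pos g), pow_orderOf_eq_one])]
    exact this _

theorem mem_NV {g : Co0} (h1 : g • vU ∈ VV) (h2 : g • vX ∈ VV) : g ∈ NV := fun _ hv =>
  (AddSubgroup.closure_le (VV.comap (sm g))).2 (by rintro _ (rfl | rfl); exacts [h1, h2]) hv

theorem L_le : St vU ⊓ St vX ≤ NV := fun _ hg _ hv => (fix_VV hg hv).symm ▸ hv

theorem NV_MV {g : Co0} (hg : g ∈ NV) {v : Lam} (hv : v ∈ MV) : g • v ∈ MV := by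
  obtain ⟨x, hx, y, hy, rfl⟩ := AddSubgroup.mem_sup.1 hv
  rw [co_add]
  exact AddSubgroup.add_mem_sup (hg x hx) (smul_mem_twoLam g hy)

theorem NV_W {g : Co0} (hg : g ∈ NV) {w : Lam} (hw : PW w) : PW (g • w) := by
  constructor <;> rw [co_dot_inv, dotInt_comm] <;>
    refine perp_MV hw (AddSubgroup.mem_sup_left (inv_mem hg _ ?_))
  exacts [U_mem, X_mem]

theorem NV_L {n g : Co0} (hn : n ∈ NV) (hg : g ∈ St vU ⊓ St vX) : n * g * n⁻¹ ∈ St vU ⊓ St vX := by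
  constructor <;> change _ • _ = _ <;> rw [mul_smul, mul_smul, fix_VV hg (inv_mem hn _ _),
    smul_inv_smul]
  exacts [U_mem, X_mem]

/-- **Twisted equivariant maps of the module.** -/
theorem rel_eq {n : Co0} (hn : n ∈ NV) {B : AddSubgroup Lam} (h1 : twoLam ≤ B) (h2 : B ≤ MV)
    (r : Lam → Lam → Prop) (ex : ∀ v, PW v → ∃ v', r v v') (pw : ∀ {v v'}, r v v' → PW v')
    (add : ∀ {v v' w w'}, r v v' → r w w' → r (v + w) (v' + w'))
    (un : ∀ {v v' v''}, r v v' → r v v'' → v' - v'' ∈ B) (two : ∀ u, r (u + u) 0)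
    (eqv : ∀ g ∈ St vU ⊓ St vX, ∀ {v v'}, r v v' → r (g • v) ((n * g * n⁻¹) • v'))
    (nz : ∃ v v', PW v ∧ r v v' ∧ v' ∉ MV) {v v' : Lam} (hv : PW v) (rv : r v v') :
    v' - n • v ∈ B := by
  have hn' := inv_mem hn
  obtain ⟨y, ry⟩ := ex rp15 (by unfold PW; decide +kernel)
  have k0 : ∀ g ∈ St vU ⊓ St vX, ∀ x, r (g • rp15) x → n⁻¹ • x - g • n⁻¹ • y ∈ MV :=
    fun g hg x rx => by
      simpa [co_sub, mul_smul] using NV_MV hn' (h2 (un rx (eqv g hg ry)))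
  obtain ⟨t, ht, h01⟩ : ∃ t : ℤ, n⁻¹ • y - t • rp15 ∈ MV ∧ (t = 0 ∨ t = 1) := by
    rcases fix (NV_W hn' (pw ry)) fun g hg e => by
      simpa using neg_mem (k0 g hg y (by rwa [e])) with e | e
    exacts [⟨0, by simpa using e, Or.inl rfl⟩, ⟨1, by simpa using e, Or.inr rfl⟩]
  have k1 : ∀ v, PW v → PW v ∧ ∀ x, r v x → n⁻¹ • x - t • v ∈ MV := by
    refine gen_W' _ (fun u => ⟨PW_two u, fun x rx => sub_mem (NV_MV hn' (h2 (by
      simpa using un rx (two u)))) (zsmul_mem (two_MV u) t)⟩)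
      (fun v w a b => ⟨a.1.add b.1, fun x rx => ?_⟩) fun w a b c => ⟨⟨b ▸ dvd_rfl, c ▸ dvd_rfl⟩,
        fun x rx => ?_⟩
    · obtain ⟨v', r1⟩ := ex v a.1
      obtain ⟨w', r2⟩ := ex w b.1
      convert add_mem (NV_MV hn' (h2 (un rx (add r1 r2)))) (add_mem (a.2 _ r1) (b.2 _ r2)) using 1
      rw [co_sub, co_add, smul_add]; abel
    · obtain ⟨g, hg, rfl⟩ := trans_O15 (v := rp15) (by decide +kernel) (by decide +kernel)
        (by decide +kernel) a b c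
      convert add_mem (k0 g hg x rx) (NV_MV (L_le hg) ht) using 1
      rw [co_sub, co_zsmul]; abel
  obtain rfl | rfl := h01
  · obtain ⟨v, v', a, b, c⟩ := nz
    exact absurd (by simpa using NV_MV hn ((k1 v a).2 v' b)) c
  have k2 : ∀ v x, PW v → r v x → x - n • v ∈ MV := fun v x a b => by
    simpa [co_sub] using NV_MV hn ((k1 v a).2 x b)
  classical
  let f : Lam → Multiplicative (Lam ⧸ B) := fun v =>
    .ofAdd (QuotientAddGroup.mk ((if h : ∃ x, r v x then h.choose else 0) - n • v))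
  have k3 : ∀ {v x}, r v x → f v = .ofAdd (QuotientAddGroup.mk (x - n • v)) := fun {v x} rx => by
    have h : ∃ x, r v x := ⟨x, rx⟩
    simp only [f, dif_pos h]
    exact congrArg _ (QuotientAddGroup.eq_iff_sub_mem.2 (by simpa using un h.choose_spec rx))
  have := inv_fun f (fun v w a b => by
      obtain ⟨v', r1⟩ := ex v a
      obtain ⟨w', r2⟩ := ex w b
      rw [k3 r1, k3 r2, k3 (add r1 r2), ← ofAdd_add, ← QuotientAddGroup.mk_add, co_add]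
      congr 2; abel)
    (fun u => by
      rw [k3 (two u), zero_sub, co_add]
      exact congrArg _ ((QuotientAddGroup.eq_zero_iff _).2 (neg_mem (h1 (two_mem _)))))
    (fun g hg v a => by
      obtain ⟨v', r1⟩ := ex v a
      rw [k3 r1, k3 (eqv g hg r1)]
      refine congrArg _ (QuotientAddGroup.eq_iff_sub_mem.2 (h1 ?_))
      simpa [co_sub, mul_smul] using fix_MV (NV_L hn hg) (k2 v v' a r1)) v hv
  rw [k3 rv] at this
  exact (QuotientAddGroup.eq_zero_iff _).1 this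

theorem not_comm_U6 : ¬ IsMulCommutative ↥(St vU ⊓ St vX) := fun h => by
  have := MidA.simple_U6
  let _ : CommGroup ↥(St vU ⊓ St vX) := { (inferInstance : Group _) with mul_comm := h.1.1 }
  have := IsSimpleGroup.prime_card (α := ↥(St vU ⊓ St vX))
  rw [card_U62'] at this
  norm_num at this

theorem center_U6 : center ↥(St vU ⊓ St vX) = ⊥ :=
  have := MidA.simple_U6
  MidA.center_eq_bot_of_simple not_comm_U6

theorem rp15_not : rp15 ∉ MV := fun h =>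
  absurd (perp_MV (w := dw 2) (by unfold PW; decide +kernel) h) (by decide +kernel)

theorem pm_of_cong {v w : Lam} (h : cong v w) (hv : sqNorm v.1 = 32) (hw : sqNorm w.1 = 32) :
    w = v ∨ w = -v := by
  rcases h.cases with e | e | e
  exacts [Or.inl e, Or.inr e, by omega]

/-- An element of `NV` that commutes with `U₆(2)` acts trivially modulo two. -/
theorem cong_of_cent {c : Co0} (hc : c ∈ NV) (h : ∀ g ∈ St vU ⊓ St vX, c * g * c⁻¹ = g)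
    {v : Lam} (hv : PW v) : cong v (c • v) := by
  have := rel_eq hc le_rfl le_sup_right (fun v v' => PW v ∧ cong v v')
    (fun v a => ⟨v, a, cong.refl v⟩) (fun a => a.1.cong a.2)
    (fun a b => ⟨a.1.add b.1, a.2.add b.2⟩)
    (fun a b => mem_two.2 ((cong_iff_add.1 (a.2.symm.trans b.2)).trans (cong_add_sub _ _)))
    (fun u => ⟨PW_two u, cong_add_self u⟩)
    (fun g hg _ _ a => ⟨a.1.smul hg, by rw [h g hg]; exact a.2.smul g⟩)
    ⟨rp15, rp15, by unfold PW; decide +kernel, ⟨by unfold PW; decide +kernel, cong.refl _⟩,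
      rp15_not⟩ hv ⟨hv, cong.refl v⟩
  exact cong_iff_add.2 ((mem_two.1 this).trans (cong_add_sub _ _).symm)

/-- the three pairs of roots -/
def rt : Fin 3 → Lam := ![vU, vX, vU - vX]

theorem exists_n {i j : Fin 3} (hij : i ≠ j) :
    ∃ n ∈ NV, cong (rt i) (n • vU) ∧ cong (rt j) (n • vX) := by
  have h1 : ∀ i, sqNorm (rt i).1 = 32 := by decide +kernel
  have h2 : ∀ i, rt i ∈ VV := fun i => by
    fin_cases i
    exacts [U_mem, X_mem, sub_mem U_mem X_mem]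
  have h3 : ∀ i j, i ≠ j → dotInt vU.1 vX.1 = dotInt (rt i).1 (rt j).1 ∨
    dotInt vU.1 vX.1 = dotInt (rt i).1 (-rt j).1 := by decide +kernel
  rcases h3 i j hij with e | e
  · obtain ⟨n, e1, e2⟩ := pair_min (h1 0) (h1 1) (h1 i) (h1 j) e
    exact ⟨n, mem_NV (e1 ▸ h2 i) (e2 ▸ h2 j), e1 ▸ cong.refl _, e2 ▸ cong.refl _⟩
  · obtain ⟨n, e1, e2⟩ := pair_min (h1 0) (h1 1) (h1 i) ((sqNorm_neg _).trans (h1 j)) e
    exact ⟨n, mem_NV (e1 ▸ h2 i) (e2 ▸ neg_mem (h2 j)), e1 ▸ cong.refl _, e2 ▸ cong_neg _⟩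

theorem card_out_U6 : Nat.card (Out ↥(St vU ⊓ St vX)) = 6 := by
  have : Fintype (GaloisField 2 2) := Fintype.ofFinite _
  have hF : Fintype.card (GaloisField 2 2) = 4 := by
    rw [← Nat.card_eq_fintype_card, GaloisField.card 2 2 two_ne_zero]; rfl
  obtain ⟨e⟩ := U62.equiv _ hF
  obtain ⟨φ, h1, -, h2⟩ := S2603.result (p := 2) (f := 1) (q := 2) (n := 6) le_rfl rfl hF
    (by norm_num) (by norm_num)
  have h3 := card_eq_card_quotient_mul_card_subgroup φ.ker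
  rw [Nat.card_congr (QuotientGroup.quotientKerEquivOfSurjective φ h1).toEquiv, h2] at h3
  have h4 := card_eq_card_quotient_mul_card_subgroup (Inn ↥(St vU ⊓ St vX))
  have h5 := card_eq_card_quotient_mul_card_subgroup (Inn (PSU 6 (GaloisField 2 2) 2))
  have h6 : center (PSU 6 (GaloisField 2 2) 2) = ⊥ := by
    have := MidA.simple_U6
    have := e.symm.isSimpleGroup
    exact MidA.center_eq_bot_of_simple fun h => not_comm_U6 ⟨⟨fun a b => e.injective (by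
      rw [map_mul, map_mul, h.1.1])⟩⟩
  rw [MidA.card_inn, center_U6, index_bot] at h4
  rw [MidA.card_inn, h6, index_bot, h3, ← Nat.card_congr (MulAut.congr e).toEquiv, h4,
    ← Nat.card_congr e.toEquiv] at h5
  simpa using Nat.eq_of_mul_eq_mul_right Nat.card_pos h5

/-- **The automorphisms of `U₆(2)` are induced by `Co0`.** -/
theorem aut_U6 (γ : MulAut ↥(St vU ⊓ St vX)) : ∃ n ∈ NV, ∀ g, (γ g).1 = n * g.1 * n⁻¹ := by
  have hN : NV ≤ normalizer ((St vU ⊓ St vX : Subgroup Co0) : Set Co0) := fun n hn =>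
    mem_normalizer_of_conj_mem fun g hg => NV_L hn hg
  let φ := (St vU ⊓ St vX).normalizerMonoidHom.comp (inclusion hN)
  have key : ∀ (m n : NV), (QuotientGroup.mk (φ m) : Out _) = QuotientGroup.mk (φ n) → ∃ l ∈ St vU ⊓ St vX,
      ∀ g ∈ St vU ⊓ St vX, (m.1 * l)⁻¹ * n.1 * g * ((m.1 * l)⁻¹ * n.1)⁻¹ = g := fun m n e => by
    obtain ⟨l, hl⟩ := QuotientGroup.eq.1 e
    rw [← map_inv, ← map_mul] at hl
    refine ⟨l, l.2, fun g hg => ?_⟩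
    have := congrArg Subtype.val (DFunLike.congr_fun hl ⟨g, hg⟩)
    change l.1 * g * l.1⁻¹ = m.1⁻¹ * n.1 * g * (m.1⁻¹ * n.1)⁻¹ at this
    calc _ = l.1⁻¹ * (m.1⁻¹ * n.1 * g * (m.1⁻¹ * n.1)⁻¹) * l.1 := by group
      _ = g := by rw [← this]; group
  choose n hn h1 h2 using fun p : {p : Fin 3 × Fin 3 // p.1 ≠ p.2} => exists_n p.2
  have inj : Function.Injective fun p => (QuotientGroup.mk (φ ⟨n p, hn p⟩) : Out _) := fun p q e => by
    obtain ⟨l, hl, hc⟩ := key _ _ e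
    have k : ∀ {v}, PW v → l • v = v → cong (n p • v) (n q • v) := fun {v} hv e => by
      have := (cong_of_cent (mul_mem (inv_mem (mul_mem (hn p) (L_le hl))) (hn q)) hc hv).smul
        (n p * l)
      rwa [mul_smul _ (n q), smul_inv_smul, mul_smul, e] at this
    have k' : ∀ i j, cong (rt i) (rt j) → i = j := fun i j c => by
      have h1 : ∀ i, sqNorm (rt i).1 = 32 := by decide +kernel
      have h2 : ∀ i j, (rt j).1 = (rt i).1 ∨ (rt j).1 = (-rt i).1 → i = j := by decide +kernel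
      exact h2 i j ((pm_of_cong c (h1 i) (h1 j)).imp (congrArg _) (congrArg _))
    exact Subtype.ext (Prod.ext (k' _ _ (((h1 p).trans (k PW_U hl.1)).trans (h1 q).symm))
      (k' _ _ (((h2 p).trans (k PW_X hl.2)).trans (h2 q).symm)))
  have : Finite (Out ↥(St vU ⊓ St vX)) := Nat.finite_of_card_ne_zero (by simp [card_out_U6])
  obtain ⟨p, hp⟩ := (inj.bijective_of_nat_card_le (by
    rw [card_out_U6, Nat.card_eq_fintype_card]; decide)).2 (QuotientGroup.mk γ)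
  obtain ⟨l, hl⟩ := QuotientGroup.eq.1 hp
  refine ⟨n p * l, mul_mem (hn p) (L_le l.2), fun g => ?_⟩
  rw [← mul_inv_cancel_left (φ ⟨n p, hn p⟩) γ, ← hl]
  change n p * (l.1 * g * l.1⁻¹) * (n p)⁻¹ = _
  group

end Cfsg.Agent.H34.BuA
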