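import Mathlib
import Cfsg.Agent.H73.CVKit

/-! A certificate over the field with `32` elements. -/

set_option autoImplicit false
set_option linter.style.haveILetI false

namespace Cfsg.Agent.H34.CvD3a

open Cfsg.Agent.H73.CV Matrix

universe u

/-- polynomials of degree below five -/
structure M where
  a : Bool
  b : Bool
  c : Bool
  d : Bool
  e : Bool
deriving DecidableEq

def zero : M := ⟨false, false, false, false, false⟩
def one : M := ⟨true, false, false, false, false⟩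
def add : M → M → M
  | ⟨a, b, c, d, e⟩, ⟨a', b', c', d', e'⟩ => ⟨xor a a', xor b b', xor c c', xor d d', xor e e'⟩
def mx : M → M
  | ⟨a, b, c, d, true⟩ => ⟨true, !a, !b, c, !d⟩
  | ⟨a, b, c, d, false⟩ => ⟨false, a, b, c, d⟩
def ad : Bool → M → M → M
  | true, x, y => add x y
  | false, _, y => y
def mul (x : M) : M → M
  | ⟨a, b, c, d, e⟩ => ad a x (mx (ad b x (mx (ad c x (mx (ad d x (mx (ad e x zero))))))))
def pw : ℕ → M
  | 0 => one
  | k + 1 => mx (pw k)
def tb (k : ℕ) : M := [⟨false, false, false, false, false⟩, ⟨false, true, false, false, false⟩,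
  ⟨false, false, true, false, false⟩, ⟨false, true, false, true, false⟩,
  ⟨false, false, false, false, true⟩, ⟨true, false, true, true, true⟩,
  ⟨true, false, true, true, true⟩, ⟨false, false, false, false, true⟩,
  ⟨false, true, false, true, false⟩, ⟨false, false, true, false, false⟩,
  ⟨false, true, false, false, false⟩].getD k zero
def cm (k : ℕ) : M := tb (k % 11)
def trM (m : ℕ) (D : M) : List ℕ → M
  | [i, j] => add (mul (mul (add one D) (add one D)) (cm (m * (i + j))))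
      (mul (mul D D) (add (mul (cm (m * i)) (cm (m * j))) (cm (m * (i + j)))))
  | [i, j, k] => mul (add one D) (add (mul (mul (add one D) (add one D)) (cm (m * (i + j + k))))
      (mul (mul D D) (add (mul (mul (cm (m * i)) (cm (m * j))) (cm (m * k)))
        (cm (m * (i + j + k))))))
  | _ => one
def tab (D : M) : List ℕ := [[], [], [2, 7, 8], [1, 3, 6], [3, 4, 5], [1, 2, 6], [3, 6], [3, 5],
  [2, 3], [2, 8], [1, 5, 9], [1, 2, 7], [1, 4], [1, 7], [2, 5], [2, 6], [1, 3, 5], [1, 2, 4],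
  [1, 8], [1, 3], [1, 6], [1, 5], [2, 7], [2, 4], [4, 5], [4, 6], [1, 2], [1, 9], [2, 3, 4],
  [1, 4, 9], [3, 4], [3, 7]].getD
    (D.a.toNat + 2 * D.b.toNat + 4 * D.c.toNat + 8 * D.d.toNat + 16 * D.e.toNat) []

theorem chk : ∀ a b c d e : Bool, (⟨a, b, c, d, e⟩ : M) = zero ∨ (⟨a, b, c, d, e⟩ : M) = one ∨
    ((tab ⟨a, b, c, d, e⟩).length = 2 ∨ (tab ⟨a, b, c, d, e⟩).length = 3) ∧
    trM 1 ⟨a, b, c, d, e⟩ (tab ⟨a, b, c, d, e⟩) = zero ∧ ∀ a' b' c' d' e' : Bool,
      (⟨a', b', c', d', e'⟩ : M) = zero ∨ (⟨a', b', c', d', e'⟩ : M) = one ∨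
      (⟨a', b', c', d', e'⟩ : M) = mul ⟨a, b, c, d, e⟩ ⟨a, b, c, d, e⟩ ∨
      trM 2 ⟨a', b', c', d', e'⟩ (tab ⟨a, b, c, d, e⟩) ≠ zero := by decide +kernel

theorem chk2 : ∀ a b c d e : Bool, (⟨a, b, c, d, e⟩ : M) = zero ∨
    ∃ k < 31, (⟨a, b, c, d, e⟩ : M) = pw k := by decide +kernel

theorem chk3 : ∀ r < 11, tb ((r + 2) % 11) = add (mx (tb ((r + 1) % 11))) (tb r) := by
  decide +kernel

theorem chk4 : pw 31 = one := by decide +kernel

variable {F : Type u} [Field F]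

def f (b : Bool) : F := if b then 1 else 0

def ev (c : F) (x : M) : F := f x.a + f x.b * c + f x.c * c ^ 2 + f x.d * c ^ 3 + f x.e * c ^ 4

section
variable {c : F} (h2 : (2 : F) = 0) (hc : c ^ 5 = c ^ 4 + c ^ 2 + c + 1)

theorem ev_zero : ev c zero = 0 := by simp [ev, zero, f]

theorem ev_one : ev c one = 1 := by simp [ev, one, f]

include h2

theorem f_xor (a b : Bool) : (f (xor a b) : F) = f a + f b := by
  cases a <;> cases b <;> simp [f]
  linear_combination -h2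

theorem f_not (a : Bool) : (f (!a) : F) = f a + 1 := by
  cases a <;> simp [f]
  linear_combination -h2

theorem ev_add (x y : M) : ev c (add x y) = ev c x + ev c y := by
  obtain ⟨a, b, c, d, e⟩ := x
  obtain ⟨a', b', c', d', e'⟩ := y
  simp only [ev, add, f_xor h2]
  ring

theorem ev_ad (t : Bool) (x y : M) : ev c (ad t x y) = f t * ev c x + ev c y := by
  cases t <;> simp [ad, f, ev_add h2]

include hc

theorem ev_mx (x : M) : ev c (mx x) = c * ev c x := by
  obtain ⟨a, b, c, d, e⟩ := x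
  cases e
  · simp only [ev, mx, show (f false : F) = 0 from rfl]
    ring
  · simp only [ev, mx, f_not h2]
    simp only [f, if_true]
    linear_combination -hc

theorem ev_mul (x y : M) : ev c (mul x y) = ev c x * ev c y := by
  obtain ⟨a, b, c', d, e⟩ := y
  simp only [mul, ev_ad h2, ev_mx h2 hc, ev_zero]
  generalize ev c x = t
  simp only [ev]
  ring

theorem ev_pw (k : ℕ) : ev c (pw k) = c ^ k := by
  induction k with
  | zero => rw [pw, ev_one, pow_zero]
  | succ k ih => rw [pw, ev_mx h2 hc, ih, pow_succ']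

theorem pow31 : c ^ 31 = 1 := by rw [← ev_pw h2 hc, chk4, ev_one]

theorem ev_ne {x : M} (hx : x ≠ zero) : ev c x ≠ 0 := by
  obtain ⟨a, b, c', d, e⟩ := x
  obtain ⟨k, -, hk⟩ := (chk2 a b c' d e).resolve_left hx
  rw [hk, ev_pw h2 hc]
  refine pow_ne_zero _ fun h => ?_
  have := pow31 h2 hc
  rw [h] at this
  simp at this

theorem exists_ev {d : F} (hd : d ^ 32 = d) (h0 : d ≠ 0) : ∃ x, d = ev c x := by
  haveI : Fact (Nat.Prime 31) := ⟨by norm_num⟩
  have h1 : orderOf c = 31 := orderOf_eq_prime (pow31 h2 hc) fun h => by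
    rw [h] at hc
    exact one_ne_zero (α := F) (by linear_combination hc + 2 * h2)
  have h3 : IsPrimitiveRoot c 31 := h1 ▸ IsPrimitiveRoot.orderOf c
  obtain ⟨k, -, rfl⟩ := h3.eq_pow_of_pow_eq_one (ξ := d)
    (mul_right_cancel₀ h0 (by rw [← pow_succ, hd, one_mul]))
  exact ⟨_, (ev_pw h2 hc k).symm⟩

theorem ev_cm {x y : F} (hxy : x * y = 1) (e : c = x + y) (k : ℕ) :
    ev c (cm k) = x ^ k + y ^ k := by
  induction k using Nat.twoStepInduction with
  | zero =>
    rw [show cm 0 = zero from rfl, ev_zero]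
    linear_combination -h2
  | one =>
    rw [show cm 1 = mx one from rfl, ev_mx h2 hc, ev_one, e]
    ring
  | more k i1 i2 =>
    have := chk3 (k % 11) (Nat.mod_lt _ (by norm_num))
    rw [show (k % 11 + 2) % 11 = (k + 2) % 11 by omega,
      show (k % 11 + 1) % 11 = (k + 1) % 11 by omega] at this
    rw [cm, this, ev_add h2, ev_mx h2 hc]
    rw [cm] at i1 i2
    rw [i1, i2, e]
    linear_combination (x ^ k + y ^ k) * hxy + (x ^ k + y ^ k) * h2

theorem tr_eq {ω : Fˣ} (e : c = ω + ((ω⁻¹ : Fˣ) : F)) (m : ℕ) (D : M) {l : List ℕ}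
    (hl : l.length = 2 ∨ l.length = 3) :
    (wd (ω ^ m) (ev c D) l).trace = ev c (trM m D l) := by
  have H := ev_cm h2 hc ω.mul_inv e
  rcases hl with hl | hl
  · obtain ⟨i, j, rfl⟩ := List.length_eq_two.1 hl
    simp only [trM, ev_add h2, ev_mul h2 hc, H, ev_one, wd, List.map, List.prod_cons,
      List.prod_nil, bm, xm, ← inv_pow, ← pow_mul, Units.val_pow_eq_pow_val, mul_add m, pow_add,
      Matrix.mul_one, Matrix.mul_fin_two, trace_fin_two_of]
    generalize ev c D = d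
    generalize (ω : F) ^ (m * i) = p
    generalize (ω : F) ^ (m * j) = q
    generalize ((ω⁻¹ : Fˣ) : F) ^ (m * i) = p'
    generalize ((ω⁻¹ : Fˣ) : F) ^ (m * j) = q'
    linear_combination (-(d ^ 2 * (p * q + p' * q'))) * h2
  · obtain ⟨i, j, k, rfl⟩ := List.length_eq_three.1 hl
    simp only [trM, ev_add h2, ev_mul h2 hc, H, ev_one, wd, List.map, List.prod_cons,
      List.prod_nil, bm, xm, ← inv_pow, ← pow_mul, Units.val_pow_eq_pow_val, mul_add m, pow_add,
      Matrix.mul_one, Matrix.mul_fin_two, trace_fin_two_of]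
    generalize ev c D = d
    generalize (ω : F) ^ (m * i) = p
    generalize (ω : F) ^ (m * j) = q
    generalize (ω : F) ^ (m * k) = r
    generalize ((ω⁻¹ : Fˣ) : F) ^ (m * i) = p'
    generalize ((ω⁻¹ : Fˣ) : F) ^ (m * j) = q'
    generalize ((ω⁻¹ : Fˣ) : F) ^ (m * k) = r'
    linear_combination (-((1 + d) * d ^ 2 * (p * q * r + p' * q' * r'))) * h2

end

/-- **D3A** -/
theorem d3a : D3aStmt.{u} := by
  intro F _ _ ω h d e hd he d0 d1 e0 e1 H
  have h2 := h.two_eq rfl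
  obtain ⟨c, hc0⟩ : ∃ c : F, c = ω + ((ω⁻¹ : Fˣ) : F) := ⟨_, rfl⟩
  have hc : c ^ 5 = c ^ 4 + c ^ 2 + c + 1 := by
    have h1 : (ω : F) ^ 11 = 1 := by rw [← Units.val_pow_eq_pow_val, h.pow_r, Units.val_one]
    have h3 : (ω : F) - 1 ≠ 0 := sub_ne_zero.2 fun e => h.ne_one (Units.ext e)
    have h4 : (ω : F) * c = ω ^ 2 + 1 := by rw [hc0, mul_add, ω.mul_inv, sq]
    generalize (ω : F) = x at h1 h3 h4
    have h0 : x ≠ 0 := fun e => by
      rw [e] at h1
      simp at h1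
    have h5 : x ^ 10 + x ^ 9 + x ^ 8 + x ^ 7 + x ^ 6 + x ^ 5 + x ^ 4 + x ^ 3 + x ^ 2 + x + 1 = 0 :=
      mul_left_cancel₀ h3 (by linear_combination h1)
    have h6 : x ^ 5 * (c ^ 5 + c ^ 4 - 4 * c ^ 3 - 3 * c ^ 2 + 3 * c + 1) = 0 := by
      calc _ = (x * c) ^ 5 + x * (x * c) ^ 4 - 4 * x ^ 2 * (x * c) ^ 3 - 3 * x ^ 3 * (x * c) ^ 2 +
          3 * x ^ 4 * (x * c) + x ^ 5 := by ring
        _ = 0 := by rw [h4]; linear_combination h5
    have h7 := (mul_eq_zero.1 h6).resolve_left (pow_ne_zero _ h0)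
    linear_combination h7 + (-c ^ 4 + 2 * c ^ 3 + c ^ 2 - 2 * c - 1) * h2
  obtain ⟨⟨a1, a2, a3, a4, a5⟩, rfl⟩ := exists_ev h2 hc hd d0
  obtain ⟨⟨b1, b2, b3, b4, b5⟩, rfl⟩ := exists_ev h2 hc he e0
  rcases chk a1 a2 a3 a4 a5 with k | k | ⟨k1, k2, k3⟩
  · exact absurd (k ▸ ev_zero) d0
  · exact absurd (k ▸ ev_one) d1
  rcases k3 b1 b2 b3 b4 b5 with k | k | k | k
  · exact absurd (k ▸ ev_zero) e0
  · exact absurd (k ▸ ev_one) e1
  · rw [k, ev_mul h2 hc, sq]
  · have t1 := tr_eq h2 hc hc0 1 ⟨a1, a2, a3, a4, a5⟩ k1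
    rw [k2, ev_zero, pow_one] at t1
    exact absurd ((tr_eq h2 hc hc0 2 _ k1).symm.trans (H _ t1)) (ev_ne h2 hc k)

end Cfsg.Agent.H34.CvD3a
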