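/-
Root tables of `E₇`; `E₇(2)` has no element of order 65.
-/
import Mathlib
import Cfsg.Agent.H34.WSearch
import Cfsg.Agent.S1064

set_option autoImplicit false
set_option maxRecDepth 100000

namespace Cfsg.Agent.H34

open Equiv Cfsg.Lie Cfsg.Agent.H37 Cfsg.Agent.H40 Finset
open scoped Matrix

/-- The table of roots. -/
def tabE7 : List RD :=
    [mkRD 0 [-2, -2, -3, -4, -3, -2, -1] [-1, 0, 0, 0, 0, 0, 0] [-2, -2, -3, -4, -3, -2, -1],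
    mkRD 1 [-1, -2, -3, -4, -3, -2, -1] [1, 0, -1, 0, 0, 0, 0] [-1, -2, -3, -4, -3, -2, -1], mkRD
    2 [-1, -2, -2, -4, -3, -2, -1] [0, 0, 1, -1, 0, 0, 0] [-1, -2, -2, -4, -3, -2, -1], mkRD 3
    [-1, -2, -2, -3, -3, -2, -1] [0, -1, 0, 1, -1, 0, 0] [-1, -2, -2, -3, -3, -2, -1], mkRD 4
    [-1, -2, -2, -3, -2, -2, -1] [0, -1, 0, 0, 1, -1, 0] [-1, -2, -2, -3, -2, -2, -1], mkRD 5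
    [-1, -2, -2, -3, -2, -1, -1] [0, -1, 0, 0, 0, 1, -1] [-1, -2, -2, -3, -2, -1, -1], mkRD 6
    [-1, -2, -2, -3, -2, -1, 0] [0, -1, 0, 0, 0, 0, 1] [-1, -2, -2, -3, -2, -1, 0], mkRD 7 [-1,
    -1, -2, -3, -3, -2, -1] [0, 1, 0, 0, -1, 0, 0] [-1, -1, -2, -3, -3, -2, -1], mkRD 8 [-1, -1,
    -2, -3, -2, -2, -1] [0, 1, 0, -1, 1, -1, 0] [-1, -1, -2, -3, -2, -2, -1], mkRD 9 [-1, -1, -2,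
    -3, -2, -1, -1] [0, 1, 0, -1, 0, 1, -1] [-1, -1, -2, -3, -2, -1, -1], mkRD 10 [-1, -1, -2,
    -3, -2, -1, 0] [0, 1, 0, -1, 0, 0, 1] [-1, -1, -2, -3, -2, -1, 0], mkRD 11 [-1, -1, -2, -2,
    -2, -2, -1] [0, 0, -1, 1, 0, -1, 0] [-1, -1, -2, -2, -2, -2, -1], mkRD 12 [-1, -1, -2, -2,
    -2, -1, -1] [0, 0, -1, 1, -1, 1, -1] [-1, -1, -2, -2, -2, -1, -1], mkRD 13 [-1, -1, -2, -2,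
    -2, -1, 0] [0, 0, -1, 1, -1, 0, 1] [-1, -1, -2, -2, -2, -1, 0], mkRD 14 [-1, -1, -2, -2, -1,
    -1, -1] [0, 0, -1, 0, 1, 0, -1] [-1, -1, -2, -2, -1, -1, -1], mkRD 15 [-1, -1, -2, -2, -1,
    -1, 0] [0, 0, -1, 0, 1, -1, 1] [-1, -1, -2, -2, -1, -1, 0], mkRD 16 [-1, -1, -2, -2, -1, 0,
    0] [0, 0, -1, 0, 0, 1, 0] [-1, -1, -2, -2, -1, 0, 0], mkRD 17 [-1, -1, -1, -2, -2, -2, -1]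
    [-1, 0, 1, 0, 0, -1, 0] [-1, -1, -1, -2, -2, -2, -1], mkRD 18 [-1, -1, -1, -2, -2, -1, -1]
    [-1, 0, 1, 0, -1, 1, -1] [-1, -1, -1, -2, -2, -1, -1], mkRD 19 [-1, -1, -1, -2, -2, -1, 0]
    [-1, 0, 1, 0, -1, 0, 1] [-1, -1, -1, -2, -2, -1, 0], mkRD 20 [-1, -1, -1, -2, -1, -1, -1]
    [-1, 0, 1, -1, 1, 0, -1] [-1, -1, -1, -2, -1, -1, -1], mkRD 21 [-1, -1, -1, -2, -1, -1, 0]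
    [-1, 0, 1, -1, 1, -1, 1] [-1, -1, -1, -2, -1, -1, 0], mkRD 22 [-1, -1, -1, -2, -1, 0, 0] [-1,
    0, 1, -1, 0, 1, 0] [-1, -1, -1, -2, -1, 0, 0], mkRD 23 [-1, -1, -1, -1, -1, -1, -1] [-1, -1,
    0, 1, 0, 0, -1] [-1, -1, -1, -1, -1, -1, -1], mkRD 24 [-1, -1, -1, -1, -1, -1, 0] [-1, -1, 0,
    1, 0, -1, 1] [-1, -1, -1, -1, -1, -1, 0], mkRD 25 [-1, -1, -1, -1, -1, 0, 0] [-1, -1, 0, 1,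
    -1, 1, 0] [-1, -1, -1, -1, -1, 0, 0], mkRD 26 [-1, -1, -1, -1, 0, 0, 0] [-1, -1, 0, 0, 1, 0,
    0] [-1, -1, -1, -1, 0, 0, 0], mkRD 27 [-1, 0, -1, -1, -1, -1, -1] [-1, 1, 0, 0, 0, 0, -1]
    [-1, 0, -1, -1, -1, -1, -1], mkRD 28 [-1, 0, -1, -1, -1, -1, 0] [-1, 1, 0, 0, 0, -1, 1] [-1,
    0, -1, -1, -1, -1, 0], mkRD 29 [-1, 0, -1, -1, -1, 0, 0] [-1, 1, 0, 0, -1, 1, 0] [-1, 0, -1,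
    -1, -1, 0, 0], mkRD 30 [-1, 0, -1, -1, 0, 0, 0] [-1, 1, 0, -1, 1, 0, 0] [-1, 0, -1, -1, 0, 0,
    0], mkRD 31 [-1, 0, -1, 0, 0, 0, 0] [-1, 0, -1, 1, 0, 0, 0] [-1, 0, -1, 0, 0, 0, 0], mkRD 32
    [-1, 0, 0, 0, 0, 0, 0] [-2, 0, 1, 0, 0, 0, 0] [-1, 0, 0, 0, 0, 0, 0], mkRD 33 [0, -1, -1, -2,
    -2, -2, -1] [1, 0, 0, 0, 0, -1, 0] [0, -1, -1, -2, -2, -2, -1], mkRD 34 [0, -1, -1, -2, -2,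
    -1, -1] [1, 0, 0, 0, -1, 1, -1] [0, -1, -1, -2, -2, -1, -1], mkRD 35 [0, -1, -1, -2, -2, -1,
    0] [1, 0, 0, 0, -1, 0, 1] [0, -1, -1, -2, -2, -1, 0], mkRD 36 [0, -1, -1, -2, -1, -1, -1] [1,
    0, 0, -1, 1, 0, -1] [0, -1, -1, -2, -1, -1, -1], mkRD 37 [0, -1, -1, -2, -1, -1, 0] [1, 0, 0,
    -1, 1, -1, 1] [0, -1, -1, -2, -1, -1, 0], mkRD 38 [0, -1, -1, -2, -1, 0, 0] [1, 0, 0, -1, 0,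
    1, 0] [0, -1, -1, -2, -1, 0, 0], mkRD 39 [0, -1, -1, -1, -1, -1, -1] [1, -1, -1, 1, 0, 0, -1]
    [0, -1, -1, -1, -1, -1, -1], mkRD 40 [0, -1, -1, -1, -1, -1, 0] [1, -1, -1, 1, 0, -1, 1] [0,
    -1, -1, -1, -1, -1, 0], mkRD 41 [0, -1, -1, -1, -1, 0, 0] [1, -1, -1, 1, -1, 1, 0] [0, -1,
    -1, -1, -1, 0, 0], mkRD 42 [0, -1, -1, -1, 0, 0, 0] [1, -1, -1, 0, 1, 0, 0] [0, -1, -1, -1,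
    0, 0, 0], mkRD 43 [0, -1, 0, -1, -1, -1, -1] [0, -1, 1, 0, 0, 0, -1] [0, -1, 0, -1, -1, -1,
    -1], mkRD 44 [0, -1, 0, -1, -1, -1, 0] [0, -1, 1, 0, 0, -1, 1] [0, -1, 0, -1, -1, -1, 0],
    mkRD 45 [0, -1, 0, -1, -1, 0, 0] [0, -1, 1, 0, -1, 1, 0] [0, -1, 0, -1, -1, 0, 0], mkRD 46
    [0, -1, 0, -1, 0, 0, 0] [0, -1, 1, -1, 1, 0, 0] [0, -1, 0, -1, 0, 0, 0], mkRD 47 [0, -1, 0,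
    0, 0, 0, 0] [0, -2, 0, 1, 0, 0, 0] [0, -1, 0, 0, 0, 0, 0], mkRD 48 [0, 0, -1, -1, -1, -1, -1]
    [1, 1, -1, 0, 0, 0, -1] [0, 0, -1, -1, -1, -1, -1], mkRD 49 [0, 0, -1, -1, -1, -1, 0] [1, 1,
    -1, 0, 0, -1, 1] [0, 0, -1, -1, -1, -1, 0], mkRD 50 [0, 0, -1, -1, -1, 0, 0] [1, 1, -1, 0,
    -1, 1, 0] [0, 0, -1, -1, -1, 0, 0], mkRD 51 [0, 0, -1, -1, 0, 0, 0] [1, 1, -1, -1, 1, 0, 0]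
    [0, 0, -1, -1, 0, 0, 0], mkRD 52 [0, 0, -1, 0, 0, 0, 0] [1, 0, -2, 1, 0, 0, 0] [0, 0, -1, 0,
    0, 0, 0], mkRD 53 [0, 0, 0, -1, -1, -1, -1] [0, 1, 1, -1, 0, 0, -1] [0, 0, 0, -1, -1, -1,
    -1], mkRD 54 [0, 0, 0, -1, -1, -1, 0] [0, 1, 1, -1, 0, -1, 1] [0, 0, 0, -1, -1, -1, 0], mkRD
    55 [0, 0, 0, -1, -1, 0, 0] [0, 1, 1, -1, -1, 1, 0] [0, 0, 0, -1, -1, 0, 0], mkRD 56 [0, 0, 0,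
    -1, 0, 0, 0] [0, 1, 1, -2, 1, 0, 0] [0, 0, 0, -1, 0, 0, 0], mkRD 57 [0, 0, 0, 0, -1, -1, -1]
    [0, 0, 0, 1, -1, 0, -1] [0, 0, 0, 0, -1, -1, -1], mkRD 58 [0, 0, 0, 0, -1, -1, 0] [0, 0, 0,
    1, -1, -1, 1] [0, 0, 0, 0, -1, -1, 0], mkRD 59 [0, 0, 0, 0, -1, 0, 0] [0, 0, 0, 1, -2, 1, 0]
    [0, 0, 0, 0, -1, 0, 0], mkRD 60 [0, 0, 0, 0, 0, -1, -1] [0, 0, 0, 0, 1, -1, -1] [0, 0, 0, 0,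
    0, -1, -1], mkRD 61 [0, 0, 0, 0, 0, -1, 0] [0, 0, 0, 0, 1, -2, 1] [0, 0, 0, 0, 0, -1, 0],
    mkRD 62 [0, 0, 0, 0, 0, 0, -1] [0, 0, 0, 0, 0, 1, -2] [0, 0, 0, 0, 0, 0, -1], mkRD 63 [0, 0,
    0, 0, 0, 0, 1] [0, 0, 0, 0, 0, -1, 2] [0, 0, 0, 0, 0, 0, 1], mkRD 64 [0, 0, 0, 0, 0, 1, 0]
    [0, 0, 0, 0, -1, 2, -1] [0, 0, 0, 0, 0, 1, 0], mkRD 65 [0, 0, 0, 0, 0, 1, 1] [0, 0, 0, 0, -1,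
    1, 1] [0, 0, 0, 0, 0, 1, 1], mkRD 66 [0, 0, 0, 0, 1, 0, 0] [0, 0, 0, -1, 2, -1, 0] [0, 0, 0,
    0, 1, 0, 0], mkRD 67 [0, 0, 0, 0, 1, 1, 0] [0, 0, 0, -1, 1, 1, -1] [0, 0, 0, 0, 1, 1, 0],
    mkRD 68 [0, 0, 0, 0, 1, 1, 1] [0, 0, 0, -1, 1, 0, 1] [0, 0, 0, 0, 1, 1, 1], mkRD 69 [0, 0, 0,
    1, 0, 0, 0] [0, -1, -1, 2, -1, 0, 0] [0, 0, 0, 1, 0, 0, 0], mkRD 70 [0, 0, 0, 1, 1, 0, 0] [0,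
    -1, -1, 1, 1, -1, 0] [0, 0, 0, 1, 1, 0, 0], mkRD 71 [0, 0, 0, 1, 1, 1, 0] [0, -1, -1, 1, 0,
    1, -1] [0, 0, 0, 1, 1, 1, 0], mkRD 72 [0, 0, 0, 1, 1, 1, 1] [0, -1, -1, 1, 0, 0, 1] [0, 0, 0,
    1, 1, 1, 1], mkRD 73 [0, 0, 1, 0, 0, 0, 0] [-1, 0, 2, -1, 0, 0, 0] [0, 0, 1, 0, 0, 0, 0],
    mkRD 74 [0, 0, 1, 1, 0, 0, 0] [-1, -1, 1, 1, -1, 0, 0] [0, 0, 1, 1, 0, 0, 0], mkRD 75 [0, 0,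
    1, 1, 1, 0, 0] [-1, -1, 1, 0, 1, -1, 0] [0, 0, 1, 1, 1, 0, 0], mkRD 76 [0, 0, 1, 1, 1, 1, 0]
    [-1, -1, 1, 0, 0, 1, -1] [0, 0, 1, 1, 1, 1, 0], mkRD 77 [0, 0, 1, 1, 1, 1, 1] [-1, -1, 1, 0,
    0, 0, 1] [0, 0, 1, 1, 1, 1, 1], mkRD 78 [0, 1, 0, 0, 0, 0, 0] [0, 2, 0, -1, 0, 0, 0] [0, 1,
    0, 0, 0, 0, 0], mkRD 79 [0, 1, 0, 1, 0, 0, 0] [0, 1, -1, 1, -1, 0, 0] [0, 1, 0, 1, 0, 0, 0],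
    mkRD 80 [0, 1, 0, 1, 1, 0, 0] [0, 1, -1, 0, 1, -1, 0] [0, 1, 0, 1, 1, 0, 0], mkRD 81 [0, 1,
    0, 1, 1, 1, 0] [0, 1, -1, 0, 0, 1, -1] [0, 1, 0, 1, 1, 1, 0], mkRD 82 [0, 1, 0, 1, 1, 1, 1]
    [0, 1, -1, 0, 0, 0, 1] [0, 1, 0, 1, 1, 1, 1], mkRD 83 [0, 1, 1, 1, 0, 0, 0] [-1, 1, 1, 0, -1,
    0, 0] [0, 1, 1, 1, 0, 0, 0], mkRD 84 [0, 1, 1, 1, 1, 0, 0] [-1, 1, 1, -1, 1, -1, 0] [0, 1, 1,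
    1, 1, 0, 0], mkRD 85 [0, 1, 1, 1, 1, 1, 0] [-1, 1, 1, -1, 0, 1, -1] [0, 1, 1, 1, 1, 1, 0],
    mkRD 86 [0, 1, 1, 1, 1, 1, 1] [-1, 1, 1, -1, 0, 0, 1] [0, 1, 1, 1, 1, 1, 1], mkRD 87 [0, 1,
    1, 2, 1, 0, 0] [-1, 0, 0, 1, 0, -1, 0] [0, 1, 1, 2, 1, 0, 0], mkRD 88 [0, 1, 1, 2, 1, 1, 0]
    [-1, 0, 0, 1, -1, 1, -1] [0, 1, 1, 2, 1, 1, 0], mkRD 89 [0, 1, 1, 2, 1, 1, 1] [-1, 0, 0, 1,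
    -1, 0, 1] [0, 1, 1, 2, 1, 1, 1], mkRD 90 [0, 1, 1, 2, 2, 1, 0] [-1, 0, 0, 0, 1, 0, -1] [0, 1,
    1, 2, 2, 1, 0], mkRD 91 [0, 1, 1, 2, 2, 1, 1] [-1, 0, 0, 0, 1, -1, 1] [0, 1, 1, 2, 2, 1, 1],
    mkRD 92 [0, 1, 1, 2, 2, 2, 1] [-1, 0, 0, 0, 0, 1, 0] [0, 1, 1, 2, 2, 2, 1], mkRD 93 [1, 0, 0,
    0, 0, 0, 0] [2, 0, -1, 0, 0, 0, 0] [1, 0, 0, 0, 0, 0, 0], mkRD 94 [1, 0, 1, 0, 0, 0, 0] [1,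
    0, 1, -1, 0, 0, 0] [1, 0, 1, 0, 0, 0, 0], mkRD 95 [1, 0, 1, 1, 0, 0, 0] [1, -1, 0, 1, -1, 0,
    0] [1, 0, 1, 1, 0, 0, 0], mkRD 96 [1, 0, 1, 1, 1, 0, 0] [1, -1, 0, 0, 1, -1, 0] [1, 0, 1, 1,
    1, 0, 0], mkRD 97 [1, 0, 1, 1, 1, 1, 0] [1, -1, 0, 0, 0, 1, -1] [1, 0, 1, 1, 1, 1, 0], mkRD
    98 [1, 0, 1, 1, 1, 1, 1] [1, -1, 0, 0, 0, 0, 1] [1, 0, 1, 1, 1, 1, 1], mkRD 99 [1, 1, 1, 1,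
    0, 0, 0] [1, 1, 0, 0, -1, 0, 0] [1, 1, 1, 1, 0, 0, 0], mkRD 100 [1, 1, 1, 1, 1, 0, 0] [1, 1,
    0, -1, 1, -1, 0] [1, 1, 1, 1, 1, 0, 0], mkRD 101 [1, 1, 1, 1, 1, 1, 0] [1, 1, 0, -1, 0, 1,
    -1] [1, 1, 1, 1, 1, 1, 0], mkRD 102 [1, 1, 1, 1, 1, 1, 1] [1, 1, 0, -1, 0, 0, 1] [1, 1, 1, 1,
    1, 1, 1], mkRD 103 [1, 1, 1, 2, 1, 0, 0] [1, 0, -1, 1, 0, -1, 0] [1, 1, 1, 2, 1, 0, 0], mkRD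
    104 [1, 1, 1, 2, 1, 1, 0] [1, 0, -1, 1, -1, 1, -1] [1, 1, 1, 2, 1, 1, 0], mkRD 105 [1, 1, 1,
    2, 1, 1, 1] [1, 0, -1, 1, -1, 0, 1] [1, 1, 1, 2, 1, 1, 1], mkRD 106 [1, 1, 1, 2, 2, 1, 0] [1,
    0, -1, 0, 1, 0, -1] [1, 1, 1, 2, 2, 1, 0], mkRD 107 [1, 1, 1, 2, 2, 1, 1] [1, 0, -1, 0, 1,
    -1, 1] [1, 1, 1, 2, 2, 1, 1], mkRD 108 [1, 1, 1, 2, 2, 2, 1] [1, 0, -1, 0, 0, 1, 0] [1, 1, 1,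
    2, 2, 2, 1], mkRD 109 [1, 1, 2, 2, 1, 0, 0] [0, 0, 1, 0, 0, -1, 0] [1, 1, 2, 2, 1, 0, 0],
    mkRD 110 [1, 1, 2, 2, 1, 1, 0] [0, 0, 1, 0, -1, 1, -1] [1, 1, 2, 2, 1, 1, 0], mkRD 111 [1, 1,
    2, 2, 1, 1, 1] [0, 0, 1, 0, -1, 0, 1] [1, 1, 2, 2, 1, 1, 1], mkRD 112 [1, 1, 2, 2, 2, 1, 0]
    [0, 0, 1, -1, 1, 0, -1] [1, 1, 2, 2, 2, 1, 0], mkRD 113 [1, 1, 2, 2, 2, 1, 1] [0, 0, 1, -1,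
    1, -1, 1] [1, 1, 2, 2, 2, 1, 1], mkRD 114 [1, 1, 2, 2, 2, 2, 1] [0, 0, 1, -1, 0, 1, 0] [1, 1,
    2, 2, 2, 2, 1], mkRD 115 [1, 1, 2, 3, 2, 1, 0] [0, -1, 0, 1, 0, 0, -1] [1, 1, 2, 3, 2, 1, 0],
    mkRD 116 [1, 1, 2, 3, 2, 1, 1] [0, -1, 0, 1, 0, -1, 1] [1, 1, 2, 3, 2, 1, 1], mkRD 117 [1, 1,
    2, 3, 2, 2, 1] [0, -1, 0, 1, -1, 1, 0] [1, 1, 2, 3, 2, 2, 1], mkRD 118 [1, 1, 2, 3, 3, 2, 1]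
    [0, -1, 0, 0, 1, 0, 0] [1, 1, 2, 3, 3, 2, 1], mkRD 119 [1, 2, 2, 3, 2, 1, 0] [0, 1, 0, 0, 0,
    0, -1] [1, 2, 2, 3, 2, 1, 0], mkRD 120 [1, 2, 2, 3, 2, 1, 1] [0, 1, 0, 0, 0, -1, 1] [1, 2, 2,
    3, 2, 1, 1], mkRD 121 [1, 2, 2, 3, 2, 2, 1] [0, 1, 0, 0, -1, 1, 0] [1, 2, 2, 3, 2, 2, 1],
    mkRD 122 [1, 2, 2, 3, 3, 2, 1] [0, 1, 0, -1, 1, 0, 0] [1, 2, 2, 3, 3, 2, 1], mkRD 123 [1, 2,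
    2, 4, 3, 2, 1] [0, 0, -1, 1, 0, 0, 0] [1, 2, 2, 4, 3, 2, 1], mkRD 124 [1, 2, 3, 4, 3, 2, 1]
    [-1, 0, 1, 0, 0, 0, 0] [1, 2, 3, 4, 3, 2, 1], mkRD 125 [2, 2, 3, 4, 3, 2, 1] [1, 0, 0, 0, 0,
    0, 0] [2, 2, 3, 4, 3, 2, 1]]

/-- Root coordinates. -/
def rcE7 : List (List ℤ) := tabE7.map (·.2.2.2)

/-- The table of Cartan integers. -/
def carE7 : List (List (ℤ × ℤ)) :=
    [[], [(0, 0)], [(0, 0), (-1, -1)], [(-1, -1), (-1, -1), (0, 0)], [(-1, -1), (0, 0), (0, 0),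
    (0, 0)], [(-1, -1), (0, 0), (0, 0), (0, 0), (0, 0)], [(-1, -1), (0, 0), (0, 0), (0, 0), (0,
    0), (0, 0)]]

theorem tabOKE7 : TabOK chevE7 rcE7 tabE7 carE7 := by decide +kernel

/-- The matrix of a Coxeter element of `E₆`. -/
def coxE6 : List (List ℤ) := [[-1, 0, -1, -1, -1, -1, 0], [0, -1, 0, -1, -1, -1, 0],
  [1, 0, 0, 0, 0, 0, 0], [0, 1, 1, 1, 1, 1, 0], [0, 0, 0, 1, 0, 0, 0], [0, 0, 0, 0, 1, 0, 0],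
  [0, 0, 0, 0, 0, 1, 1]]

theorem wordMat_coxE6 : WordMat chevE7 [[2, 0, -1, 0, 0, 0, 0], [0, 2, 0, -1, 0, 0, 0],
    [-1, 0, 2, -1, 0, 0, 0], [0, -1, -1, 2, -1, 0, 0], [0, 0, 0, -1, 2, -1, 0],
    [0, 0, 0, 0, -1, 2, -1], [0, 0, 0, 0, 0, -1, 2]] [0, 1, 2, 3, 4, 5] coxE6 := by decide +kernel

theorem search_E7_13 : search (okW carE7) (fun L => annih (leafM L) (pmul [1, 0, -1, 0, 1]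
    [-1, 0, 0, 0, 0, 0, 1])) (fun j => tabE7.filter fun s =>
      (dot [10, 6, 4, 5, 8, 1, 0] s.2.2.1 - ([6, 1, 12, 10, 7, 1, 11] : List ℤ).getD j 0) % 13 == 0)
    chevE7.rank [] = true := by decide +kernel

theorem E7_two_no_65 (g : chevE7.group (ZMod 2)) : ¬ 65 ∣ orderOf g := by
  intro h65
  obtain ⟨g, hg⟩ : ∃ g : chevE7.group (ZMod 2), orderOf g = 65 :=
    ⟨g ^ (orderOf g / 65), orderOf_pow_orderOf_div (orderOf_pos g).ne' h65⟩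
  let C : Cert chevE7 := cert (by simp)
  let k := AlgebraicClosure (ZMod 2)
  obtain ⟨ζ, hζ, -⟩ := exists_prim_unit k (N := 13) (by
    rw [Ne, CharP.cast_eq_zero_iff k 2]; norm_num)
  obtain ⟨l, -, hl⟩ := C.rep_of_wordMat wordMat_coxE6
  let v : Fin chevE7.rank → ℤ := fun i => ([10, 6, 4, 5, 8, 1, 0] : List ℤ).getD i 0
  have hcard := S1064.result (F := ZMod 2) (q := 2) (ZMod.card 2)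
  obtain ⟨w, c, h, hc, hw⟩ := C.exists_norm invE7 two_ne_zero (algebraMap (ZMod 2) k) (ZMod.card 2)
    (by norm_num) 2 (s := 13) (by norm_num) (by
      rw [show Nat.gcd 2 (2 - 1) = 1 by norm_num, one_mul] at hcard
      rw [hcard]; norm_num) hζ v
    (w0 := ⟨_, C.S.word_mem_W l⟩) (by
      rw [C.rep_unique invE7 two_ne_zero (C.rep_mat _) hl]
      funext i
      rw [pull_apply, evw_zpow, Pi.pow_apply, ← zpow_natCast, ← zpow_mul, ← mul_inv_eq_one,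
        ← zpow_neg, ← zpow_add, hζ.zpow_eq_one_iff_dvd]
      revert i
      decide +kernel) (by decide +kernel) (g := g) (by rw [hg]; norm_num) (m := 5)
      (by rw [orderOf_pow, hg]; norm_num)
  have h1 := C.leaf tabOKE7 w.2 (fun j => ?_) search_E7_13
  · have h2 := C.zpow_eq_one_of_annih tabOKE7 (C.torChar_of_pull h) h1
    obtain ⟨u, hu⟩ := isConj_iff.1 hc
    have h3 : orderOf (C.tg k c) = 65 := by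
      rw [← hg, ← orderOf_injective _ (C.V.fieldHom_injective (algebraMap (ZMod 2) k)), ← hu,
        ← MulAut.conj_apply, MulEquiv.orderOf_eq]
    rw [← orderOf_dvd_iff_zpow_eq_one, h3] at h2
    revert h2
    decide +kernel
  · rw [beq_iff_eq, ← Int.dvd_iff_emod_eq_zero, Cert.dot_wt _ rfl]
    have h2 := hw (C.R.simple j)
    have h3 : ∀ j : Fin chevE7.rank, (13 : ℤ) ∣ (2 : ℕ) * ∑ i, v i * wtD chevE7 (chevE7.simple j) i -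
        ([6, 1, 12, 10, 7, 1, 11] : List ℤ).getD j 0 := by decide +kernel
    have h4 := dvd_add h2 (C.simple_val j ▸ h3 j)
    rwa [sub_add_sub_cancel] at h4

end Cfsg.Agent.H34
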