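import Cfsg.Agent.H76.K0Defs

/-! Project K0: the arithmetic piece. -/

set_option autoImplicit false

namespace Cfsg.Agent.H34.K0Ar

open Cfsg.Agent.H76.K0

def gg {p : ℕ} (x : ZMod p) : ℤ := (x.val : ℤ) * (p - x.val)

theorem gg_cast {p : ℕ} [NeZero p] (w : ℤ) (h : |w| < p) : gg (w : ZMod p) = |w| * (p - |w|) := by
  unfold gg
  rw [ZMod.val_intCast]
  rcases le_or_gt 0 w with h0 | h0
  · rw [abs_of_nonneg h0] at h ⊢
    rw [Int.emod_eq_of_lt h0 h]
  · rw [abs_of_neg h0] at h ⊢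
    have : w % (p : ℤ) = w + p := by
      rw [← Int.add_emod_right, Int.emod_eq_of_lt (by omega) (by omega)]
    rw [this]
    ring

theorem ar : ArStmt := by
  intro p hp p2 d e hd he h
  have : Fact p.Prime := ⟨hp⟩
  have p3 : 3 ≤ p := by have := hp.two_le; omega
  have po : p % 2 = 1 := hp.eq_two_or_odd.resolve_left p2
  have bd : ∀ x : ZMod p, 2 * |x.valMinAbs| < p := by
    intro x
    have h1 := ZMod.natAbs_valMinAbs_le x
    have h2 : |x.valMinAbs| = (x.valMinAbs.natAbs : ℤ) := (Int.natCast_natAbs _).symm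
    omega
  have d0 : (d : ZMod p) ≠ 0 := fun h => hd ((ZMod.intCast_zmod_eq_zero_iff_dvd _ _).1 h)
  have e0 : (e : ZMod p) ≠ 0 := fun h => he ((ZMod.intCast_zmod_eq_zero_iff_dvd _ _).1 h)
  have t0 : (2 : ZMod p) ≠ 0 := by
    intro h
    have h' : ((2 : ℕ) : ZMod p) = 0 := by exact_mod_cast h
    have := Nat.le_of_dvd (by norm_num) ((ZMod.natCast_eq_zero_iff _ _).1 h')
    omega
  have dv : ∀ (x : ZMod p) (c : ℤ), (p : ℤ) ∣ (x * c).valMinAbs - (x.val : ℤ) * c := by
    intro x c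
    rw [← ZMod.intCast_zmod_eq_zero_iff_dvd]
    simp
  have le : ∀ x : ZMod p, gg x ≤ (x * d).valMinAbs ^ 2 + (x * e).valMinAbs ^ 2 := by
    intro x
    have := h x.val _ _ (dv x d) (dv x e)
    unfold gg
    nlinarith
  have pm : ∀ (c : ZMod p), c ≠ 0 → ∀ f : ZMod p → ℤ, ∑ x, f (x * c) = ∑ x, f x :=
    fun c hc f => Equiv.sum_comp (Equiv.mulRight₀ c hc) f
  have k : ∀ x : ZMod p, 2 * gg x - gg (x * 2) = 2 * x.valMinAbs ^ 2 := by
    intro x
    have h1 := gg_cast (p := p) x.valMinAbs (by have := bd x; have := abs_nonneg x.valMinAbs; omega)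
    have h2 := gg_cast (p := p) (x.valMinAbs * 2) (by
      have := bd x
      rw [abs_mul, abs_two]
      omega)
    rw [ZMod.coe_valMinAbs] at h1
    rw [Int.cast_mul, ZMod.coe_valMinAbs, Int.cast_ofNat, abs_mul, abs_two] at h2
    rw [h1, h2, ← sq_abs x.valMinAbs]
    ring
  have s : ∑ x : ZMod p, gg x = ∑ x : ZMod p, ((x * d).valMinAbs ^ 2 + (x * e).valMinAbs ^ 2) := by
    have h1 := Finset.sum_congr (rfl : (Finset.univ : Finset (ZMod p)) = _) fun x _ => k x
    rw [Finset.sum_sub_distrib, pm 2 t0 gg, ← Finset.mul_sum, ← Finset.mul_sum] at h1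
    rw [Finset.sum_add_distrib, pm d d0 (fun x => x.valMinAbs ^ 2), pm e e0 (fun x => x.valMinAbs ^ 2)]
    linarith
  have eq := (Finset.sum_eq_sum_iff_of_le fun x _ => le x).1 s
  have e1 := eq ((1 : ℤ) : ZMod p) (Finset.mem_univ _)
  have e2 := eq ((2 : ℤ) : ZMod p) (Finset.mem_univ _)
  rw [gg_cast 1 (by rw [abs_one]; omega), Int.cast_one, one_mul (d : ZMod p), one_mul (e : ZMod p),
    abs_one] at e1
  rw [gg_cast 2 (by rw [abs_two]; omega), abs_two] at e2
  have b0 : (d : ZMod p).valMinAbs ≠ 0 := fun h => d0 ((ZMod.valMinAbs_eq_zero _).1 h)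
  have c0 : (e : ZMod p).valMinAbs ≠ 0 := fun h => e0 ((ZMod.valMinAbs_eq_zero _).1 h)
  have db : (p : ℤ) ∣ (d : ZMod p).valMinAbs - d := by
    rw [← ZMod.intCast_zmod_eq_zero_iff_dvd]; simp
  have dc : (p : ℤ) ∣ (e : ZMod p).valMinAbs - e := by
    rw [← ZMod.intCast_zmod_eq_zero_iff_dvd]; simp
  have b1 := sq_pos_of_ne_zero b0
  have c1 := sq_pos_of_ne_zero c0
  by_cases big : 14 ≤ p
  · exfalso
    have dbl : ∀ y : ZMod p, y.valMinAbs ^ 2 ≤ (p : ℤ) - 2 →
        (((2 : ℤ) : ZMod p) * y).valMinAbs = 2 * y.valMinAbs := by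
      intro y hy
      have hp' : (14 : ℤ) ≤ p := by exact_mod_cast big
      rw [ZMod.valMinAbs_spec]
      refine ⟨by simp, ?_, ?_⟩ <;> nlinarith
    rw [dbl _ (by linarith), dbl _ (by linarith)] at e2
    have hp' : (14 : ℤ) ≤ p := by exact_mod_cast big
    nlinarith
  · generalize (d : ZMod p).valMinAbs = b at *
    generalize (e : ZMod p).valMinAbs = c at *
    have hp' : (p : ℤ) ≤ 13 := by omega
    have bl : -4 < b := by nlinarith
    have bu : b < 4 := by nlinarith
    have cl : -4 < c := by nlinarith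
    have cu : c < 4 := by nlinarith
    clear e2 eq s k pm le dv t0 e0 d0 bd
    by_cases h11 : p = 11
    · subst h11
      exfalso
      push_cast at *
      have h1 := h 4 4 1
      have h2 := h 4 4 (-1)
      have h3 := h 4 (-4) 1
      have h4 := h 4 (-4) (-1)
      have h5 := h 4 1 4
      have h6 := h 4 1 (-4)
      have h7 := h 4 (-1) 4
      have h8 := h 4 (-1) (-4)
      interval_cases b <;> interval_cases c <;> omega
    · have h9 : p ≠ 9 := by rintro rfl; exact absurd hp (by norm_num)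
      interval_cases b <;> interval_cases c <;> omega

end Cfsg.Agent.H34.K0Ar
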