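import Cfsg.Agent.H44.K5Defs

set_option autoImplicit false

namespace Cfsg.Agent.H34.K5Uni

open Matrix Cfsg.Agent.H44.K5

theorem cong {m : ℕ} (A U : Matrix (Fin m) (Fin m) ℤ) (hs : Aᵀ = A)
    (hp : ∀ x : Fin m → ℤ, x ≠ 0 → 0 < x ⬝ᵥ A *ᵥ x) (hd : A.det = 1) (hU : IsUnit U.det) :
    (Uᵀ * A * U)ᵀ = Uᵀ * A * U ∧ (∀ x : Fin m → ℤ, x ≠ 0 → 0 < x ⬝ᵥ (Uᵀ * A * U) *ᵥ x) ∧
      (Uᵀ * A * U).det = 1 := by
  refine ⟨?_, ?_, ?_⟩
  · rw [transpose_mul, transpose_mul, transpose_transpose, hs, Matrix.mul_assoc]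
  · intro x hx
    have h1 : U *ᵥ x ≠ 0 := fun h => hx (Matrix.eq_zero_of_mulVec_eq_zero hU.ne_zero h)
    have h2 := hp _ h1
    rw [← Matrix.mulVec_mulVec, ← Matrix.mulVec_mulVec, Matrix.dotProduct_mulVec, Matrix.vecMul_transpose]
    exact h2
  · rw [det_mul, det_mul, det_transpose, hd]
    rcases Int.isUnit_iff.mp hU with h | h <;> rw [h] <;> norm_num

theorem uni (herm : HermStmt) : UniStmt := by
  intro n
  induction n with
  | zero => intro _ A _ _ _; exact ⟨1, Subsingleton.elim _ _⟩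
  | succ n ih =>
    intro hn A hs hp hd
    obtain ⟨U, hU, hb⟩ := herm n A hs hp
    obtain ⟨hs1, hp1, hd1⟩ := cong A U hs hp hd hU
    generalize hB : Uᵀ * A * U = B at hb hs1 hp1 hd1
    have hpos : 0 < B 0 0 := by
      have := hp1 (Pi.single 0 1) (by intro h; simpa using congrFun h 0)
      simpa using this
    have h1 : B 0 0 = 1 := by
      by_contra hne
      have h2 : (2 : ℤ) ≤ B 0 0 := by omega
      have h3 : (2 : ℤ) ^ (n + 1) ≤ B 0 0 ^ (n + 1) := pow_le_pow_left₀ (by norm_num) h2 _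
      rw [hd] at hb
      have hn' : n ≤ 4 := by omega
      generalize B 0 0 ^ (n + 1) = c at hb h3
      interval_cases n <;> norm_num at hb h3 <;> omega
    have hsym : ∀ i j, B j i = B i j := fun i j => by
      have := congrFun (congrFun hs1 i) j
      simpa using this
    let E : Matrix (Fin (n + 1)) (Fin (n + 1)) ℤ :=
      Matrix.of fun i j => if i = j then 1 else if i = 0 then - B 0 j else 0
    have hE : E.det = 1 := by
      rw [Matrix.det_of_upperTriangular]
      · simp [E]
      · intro i j hij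
        have hij' : j < i := hij
        have a1 : i ≠ j := ne_of_gt hij'
        have a2 : i ≠ 0 := by rintro rfl; exact absurd hij' (by simp)
        simp [E, a1, a2]
    obtain ⟨hs2, hp2, hd2⟩ := cong B E hs1 hp1 hd1 (by rw [hE]; exact isUnit_one)
    have hBE : ∀ j, (B * E) 0 j = if j = 0 then 1 else 0 := by
      intro j
      refine Fin.cases ?_ (fun j => ?_) j
      · simp [Matrix.mul_apply, Fin.sum_univ_succ, E, h1]
      · simp [Matrix.mul_apply, Fin.sum_univ_succ, E, h1, (Fin.succ_ne_zero j).symm]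
    have hC0 : ∀ j, (Eᵀ * B * E) 0 j = if j = 0 then 1 else 0 := by
      intro j
      rw [Matrix.mul_assoc, Matrix.mul_apply, Fin.sum_univ_succ, hBE]
      simp [E]
    generalize hC : Eᵀ * B * E = C at hs2 hp2 hd2 hC0
    have hC00 : C 0 0 = 1 := by simpa using hC0 0
    have hC1 : ∀ j : Fin n, C 0 j.succ = 0 := fun j => by simpa using hC0 j.succ
    have hC2 : ∀ j : Fin n, C j.succ 0 = 0 := fun j => by
      have := congrFun (congrFun hs2 0) j.succ
      rw [transpose_apply] at this
      rw [this, hC1]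
    obtain ⟨V, hV⟩ := ih (by omega) (C.submatrix Fin.succ Fin.succ)
      (by rw [transpose_submatrix, hs2])
      (by
        intro x hx
        have := hp2 (Fin.cons 0 x) (by
          intro h; apply hx; funext i; simpa using congrFun h i.succ)
        simpa [dotProduct, Matrix.mulVec, Fin.sum_univ_succ] using this)
      (by
        rw [Matrix.det_succ_row_zero, Fin.sum_univ_succ] at hd2
        simpa [hC00, hC1] using hd2)
    let W : Matrix (Fin (n + 1)) (Fin (n + 1)) ℤ :=
      Matrix.of (Fin.cons (Fin.cons 1 0) fun i => Fin.cons 0 (V i))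
    refine ⟨U * E * W, ?_⟩
    have e : (U * E * W)ᵀ * A * (U * E * W) = Wᵀ * C * W := by
      rw [← hC, ← hB]
      simp only [transpose_mul, Matrix.mul_assoc]
    rw [e]
    ext i j
    refine Fin.cases ?_ (fun i => ?_) i <;> refine Fin.cases ?_ (fun j => ?_) j
    · simp [Matrix.mul_apply, Fin.sum_univ_succ, W, hC00, hC1, hC2]
    · simp [Matrix.mul_apply, Fin.sum_univ_succ, W, hC00, hC1, hC2, (Fin.succ_ne_zero j).symm]
    · simp [Matrix.mul_apply, Fin.sum_univ_succ, W, hC00, hC1, hC2]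
    · have := congrFun (congrFun hV i) j
      simpa [Matrix.mul_apply, Fin.sum_univ_succ, W, hC00, hC1, hC2, Matrix.one_apply] using this

end Cfsg.Agent.H34.K5Uni
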