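import Cfsg.Agent.H78.G40B

/-! Fusion of the central involution. -/

set_option autoImplicit false

namespace Cfsg.Agent.H34.L40Zu

open Subgroup Cfsg.Agent.H83 Cfsg.Agent.H46.L40 Cfsg.Agent.H78.G40

universe u

variable {X G : Type*} [Group X] [Group G] {ψ : X →* G} {p : ℕ}

theorem syl_map (hi : Function.Injective ψ) {T : Subgroup X} (h : IsSylowIn p T ⊤) :
    IsSylowIn p (T.map ψ) ψ.range := by
  refine ⟨map_le_range _ _, h.isPGroup.map _, fun P hP pP hT => ?_⟩
  rw [← h.max (P.comap ψ) le_top (pP.comap_of_injective ψ hi) (map_le_iff_le_comap.1 hT),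
    map_comap_eq_self hP]

theorem syl_comap (hi : Function.Injective ψ) {S : Subgroup G} (h : IsSylowIn p S ψ.range) :
    IsSylowIn p (S.comap ψ) ⊤ := by
  refine ⟨le_top, h.isPGroup.comap_of_injective ψ hi, fun P _ pP hS => ?_⟩
  rw [← h.max (P.map ψ) (map_le_range _ _) (pP.map _)
    ((map_comap_eq_self h.le).symm.le.trans (map_mono hS)), comap_map_eq_self_of_injective hi]

/-- **ZU** -/
theorem zu : ZuS.{u} := by
  intro ncj dih X _ e σ τ θ T hT hz cl G _ _ S ψ tie g hg hR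
  have hR' : g * S.z * g⁻¹ ∈ ψ.range := tie.rg ▸ hR
  obtain ⟨x, hx⟩ := hR'
  have mR : ∀ c, ψ c ∈ S.R := fun c => tie.rg ▸ ⟨c, rfl⟩
  have zz : S.z * S.z = 1 := by
    rw [← map_mul, show z0 * z0 = 1 by decide, map_one]
  have z1 : S.z ≠ 1 := fun h => absurd (S.inj2 (S.ez.trans (h.trans (map_one _).symm))) (by decide)
  rcases cl x (tie.inj (by rw [map_mul, hx, conj_mul, zz, mul_one, mul_inv_cancel, map_one]))
    (fun h => z1 (by rwa [h, map_one, eq_comm, conj_eq_one_iff] at hx)) with h | ⟨j, h, hj, hS⟩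
  · obtain ⟨c, rfl⟩ := isConj_iff.1 h
    exact ⟨ψ c, mR c, by rw [← hx, map_mul, map_mul, map_inv, tie.he]⟩
  · obtain ⟨c, rfl⟩ := isConj_iff.1 h
    refine absurd ?_ (ncj dih G S.R S.X S.t S.fn S.z (ψ j) (T.map ψ)
      (tie.rg ▸ syl_map tie.inj hT) ?_ (Or.inl (by rw [tie.ht, hj])) (fun P hP hle => ?_)
      ((ψ c)⁻¹ * g) (mul_mem (inv_mem (S.fn.le (mR c))) hg))
    · rw [map_mul, map_mul, map_inv] at hx
      calc (ψ c)⁻¹ * g * S.z * ((ψ c)⁻¹ * g)⁻¹ = (ψ c)⁻¹ * (g * S.z * g⁻¹) * ψ c := by group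
        _ = _ := by rw [← hx]; group
    · rintro _ ⟨y, hy, rfl⟩
      refine mem_centralizer_singleton_iff.2 ?_
      rw [show S.z = ψ (e z0) from (tie.he _).symm, ← map_mul, ← map_mul,
        mem_centralizer_singleton_iff.1 (hz hy)]
    · refine hS _ (syl_comap tie.inj (tie.rg ▸ hP)) fun y hy =>
        mem_centralizer_singleton_iff.2 (tie.inj ?_)
      rw [map_mul, map_mul]
      exact mem_centralizer_singleton_iff.1 (hle hy)

end Cfsg.Agent.H34.L40Zu
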