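/-
Involutions commuting with a product of quaternion groups: group-theoretic and `SL₂` preliminaries.
-/
import Mathlib
import Cfsg.Agent.H34.Tori1
import Cfsg.Agent.H40.RootSL2
import Cfsg.Agent.H93.STDA

set_option autoImplicit false

namespace Cfsg.Agent.H34.NS

open Equiv Cfsg.Lie Cfsg.Agent.H37 Cfsg.Agent.H40 Subgroup
open scoped MatrixGroups

section grp
variable {G : Type*} [Group G]

theorem isPGroup_closure (L : List G) (h4 : ∀ x ∈ L, x ^ 4 = 1)
    (hn : ∀ x ∈ L, ∀ y ∈ L, y * x * y⁻¹ = x ∨ y * x * y⁻¹ = x⁻¹) :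
    IsPGroup 2 (closure {x | x ∈ L}) := by
  induction L with
  | nil =>
    have : closure {x : G | x ∈ ([] : List G)} = ⊥ := by simp
    rw [this]; exact IsPGroup.of_bot
  | cons a L ih =>
    have e : closure {x : G | x ∈ a :: L} = closure {x | x ∈ L} ⊔ zpowers a := by
      rw [zpowers_eq_closure, ← Subgroup.closure_union]
      congr 1; ext x; simp
    rw [e]
    refine IsPGroup.to_sup_of_normal_right' (ih (fun x hx => h4 x (by simp [hx]))
      fun x hx y hy => hn x (by simp [hx]) y (by simp [hy])) ?_ ?_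
    · rintro ⟨_, z, rfl⟩
      refine ⟨2, Subtype.ext ?_⟩
      show (a ^ z) ^ (2 ^ 2) = 1
      rw [← zpow_natCast, ← zpow_mul, mul_comm, zpow_mul, zpow_natCast,
        show a ^ (2 ^ 2) = 1 from h4 a (by simp), one_zpow]
    · refine (closure_le _).2 fun y hy => ?_
      have h := hn a (by simp) y (by simp [show y ∈ L from hy])
      have h' : y⁻¹ * a * y = a ∨ y⁻¹ * a * y = a⁻¹ := by
        rcases h with h | h
        · left; conv_lhs => rw [← h]
          group
        · right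
          calc y⁻¹ * a * y = y⁻¹ * (y * a * y⁻¹)⁻¹ * y := by rw [h, inv_inv]
            _ = _ := by group
      have key : ∀ w : G, (w * a * w⁻¹ = a ∨ w * a * w⁻¹ = a⁻¹) → ∀ x ∈ zpowers a,
          w * x * w⁻¹ ∈ zpowers a := by
        rintro w hw _ ⟨z, rfl⟩
        rw [← conj_zpow]
        rcases hw with hw | hw <;> rw [hw]
        exacts [zpow_mem (mem_zpowers a) z, zpow_mem (inv_mem (mem_zpowers a)) z]
      refine mem_normalizer_iff.2 fun x => ⟨key y h x, fun hx => ?_⟩
      have := key y⁻¹ (by simpa using h') _ hx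
      simpa [mul_assoc] using this

theorem exists_conj_comm [Finite G] {u : G} (hu : Odd (centralizer ({u} : Set G)).index)
    {P : Subgroup G} (hP : IsPGroup 2 P) : ∃ g : G, ∀ x ∈ P, x * (g * u * g⁻¹) = g * u * g⁻¹ * x := by
  obtain ⟨q, hq⟩ := hP.nonempty_fixed_point_of_prime_not_dvd_card (G ⧸ centralizer ({u} : Set G))
    (by rw [← index_eq_card, ← even_iff_two_dvd, Nat.not_even_iff_odd]; exact hu)
  obtain ⟨g, rfl⟩ := QuotientGroup.mk_surjective q
  refine ⟨g, fun x hx => ?_⟩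
  have h1 : ((x * g : G) : G ⧸ centralizer ({u} : Set G)) = g := hq ⟨x, hx⟩
  have h2 := mem_centralizer_iff.1 (QuotientGroup.eq.1 h1) u rfl
  calc x * (g * u * g⁻¹) = x * g * (u * ((x * g)⁻¹ * g)) * g⁻¹ * x := by group
    _ = _ := by rw [h2]; group

theorem noSplit_of_sq (h : ∀ u : G, orderOf u = 2 → Odd (centralizer ({u} : Set G)).index →
    ∃ x, x * x = u) : H93.STD.NoSplit G := fun u hu ho K hK => by
  obtain ⟨x, rfl⟩ := h u hu ho
  exact mem_subgroupOf.1 (mul_self_mem_of_index_two hK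
    (⟨x, mem_centralizer_iff.2 fun y hy => by rw [hy, mul_assoc]⟩ : centralizer ({x * x} : Set G)))

end grp

section sl2
variable {k : Type*} [Field k]

/-- The diagonal matrix. -/
def dg (c : kˣ) : SL(2, k) := ⟨!![(c : k), 0; 0, (c⁻¹ : kˣ)], by simp [Matrix.det_fin_two]⟩

/-- The antidiagonal matrix. -/
def ad (c : kˣ) : SL(2, k) := ⟨!![0, (c : k); -(c⁻¹ : kˣ), 0], by simp [Matrix.det_fin_two]⟩

theorem coe_dg (c : kˣ) : ((dg c : SL(2, k)) : Matrix (Fin 2) (Fin 2) k) = !![(c : k), 0; 0, (c : k)⁻¹] := by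
  rw [← Units.val_inv_eq_inv_val]; rfl

theorem coe_ad (c : kˣ) : ((ad c : SL(2, k)) : Matrix (Fin 2) (Fin 2) k) = !![0, (c : k); -(c : k)⁻¹, 0] := by
  rw [← Units.val_inv_eq_inv_val]; rfl

omit [Field k] in
theorem mat_ext {a b c d a' b' c' d' : k} (h1 : a = a') (h2 : b = b') (h3 : c = c') (h4 : d = d') :
    !![a, b; c, d] = !![a', b'; c', d'] := by rw [h1, h2, h3, h4]

theorem ad_eq (c : kˣ) : ad c = slX (c : k) * slY (-(c : k)⁻¹) * slX (c : k) := by
  apply Subtype.ext
  simp only [Matrix.SpecialLinearGroup.coe_mul, coe_ad, coe_slX, coe_slY, Matrix.mul_fin_two]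
  apply mat_ext <;> simp

theorem slW_eq : (slW : SL(2, k)) = slX 1 * slY (-1) * slX 1 := by
  apply Subtype.ext
  simp only [Matrix.SpecialLinearGroup.coe_mul, coe_slW, coe_slX, coe_slY, Matrix.mul_fin_two]
  apply mat_ext <;> simp

theorem dg_mul_ad (e c : kˣ) : dg e * ad c = ad (e * c) := by
  apply Subtype.ext
  simp only [Matrix.SpecialLinearGroup.coe_mul, coe_ad, coe_dg, Matrix.mul_fin_two]
  apply mat_ext <;> simp [mul_comm]

theorem dg_one : dg (1 : kˣ) = 1 := by
  apply Subtype.ext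
  rw [coe_dg, Matrix.SpecialLinearGroup.coe_one, Matrix.one_fin_two]
  apply mat_ext <;> simp

theorem dg_mul (e c : kˣ) : dg (e * c) = dg e * dg c := by
  apply Subtype.ext
  simp only [Matrix.SpecialLinearGroup.coe_mul, coe_dg, Matrix.mul_fin_two]
  apply mat_ext <;> simp [mul_comm]

theorem sl2_ind {P : SL(2, k) → Prop} (hX : ∀ t, P (slX t)) (hY : ∀ t, P (slY t))
    (hmul : ∀ a b, P a → P b → P (a * b)) (g : SL(2, k)) : P g :=
  sl2_induction hX (slW_eq (k := k) ▸ hmul _ _ (hmul _ _ (hX _) (hY _)) (hX _)) hmul g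

theorem commute_of_gen {G : Type*} [Group G] {f : SL(2, k) →* G} {z : G}
    (hX : ∀ t, Commute (f (slX t)) z) (hY : ∀ t, Commute (f (slY t)) z) (x : SL(2, k)) :
    Commute (f x) z :=
  sl2_ind (P := fun x => Commute (f x) z) hX hY (fun a b ha hb => map_mul f a b ▸ ha.mul_left hb) x

theorem hom_dg {G : Type*} [Group G] {x y : k → G} (h : RankOneRel x y) (c : kˣ) :
    h.hom (dg c) = RankOneRel.hh x y c := by
  show RankOneRel.phi x y (dg c) = _
  rw [RankOneRel.phi, if_pos (by simp [coe_dg])]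
  simp [coe_dg, h.x_zero]

/-- The second generator of the quaternion group. -/
def jM (a b : k) : SL(2, k) := slX ((a - 1) / b) * slY b * slX ((-a - 1) / b)

theorem coe_jM {a b : k} (h : a ^ 2 + b ^ 2 = -1) (hb : b ≠ 0) :
    ((jM a b : SL(2, k)) : Matrix (Fin 2) (Fin 2) k) = !![a, b; b, -a] := by
  simp only [jM, Matrix.SpecialLinearGroup.coe_mul, coe_slX, coe_slY, Matrix.mul_fin_two]
  apply mat_ext <;> field_simp
  · ring
  · linear_combination (-1 : k) * h
  · ring
  · ring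

/-- The matrix diagonalising the Weyl element. -/
def mM {ι : k} (hι : ι ^ 2 = -1) (h2 : (2 : k) ≠ 0) : SL(2, k) :=
  ⟨!![1, ι / 2; ι, 1 / 2], by
    simp only [Matrix.det_fin_two_of]; field_simp; linear_combination (-1 : k) * hι⟩

variable {ι a b : k} (hι : ι ^ 2 = -1) (h2 : (2 : k) ≠ 0)

theorem coe_mM : ((mM hι h2 : SL(2, k)) : Matrix (Fin 2) (Fin 2) k) = !![1, ι / 2; ι, 1 / 2] := rfl

theorem W_mM {c : kˣ} (hc : (c : k) = ι) : slW * mM hι h2 = mM hι h2 * dg c := by
  have h3 : ι⁻¹ = -ι := inv_eq_of_mul_eq_one_right (by linear_combination (-1 : k) * hι)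
  apply Subtype.ext
  simp only [Matrix.SpecialLinearGroup.coe_mul, coe_slW, coe_mM, coe_dg, Matrix.mul_fin_two, hc, h3]
  apply mat_ext
  · ring
  · linear_combination (1 / 2 : k) * hι
  · linear_combination (-1 : k) * hι
  · ring

theorem j_mM (h : a ^ 2 + b ^ 2 = -1) (hb : b ≠ 0) :
    ∃ β : kˣ, jM a b * mM hι h2 = mM hι h2 * ad β := by
  have h3 : (a * ι + b) / 2 * (-2 * (b - a * ι)) = 1 := by
    field_simp; linear_combination (-1 : k) * h + a ^ 2 * hι
  refine ⟨Units.mkOfMulEqOne _ _ h3, Subtype.ext ?_⟩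
  simp only [Matrix.SpecialLinearGroup.coe_mul, coe_jM h hb, coe_mM, coe_ad, Matrix.mul_fin_two,
    Units.val_mkOfMulEqOne, inv_eq_of_mul_eq_one_right h3]
  apply mat_ext <;> field_simp
  · linear_combination a * hι
  · ring
  · ring
  · linear_combination (-a) * hι

theorem W_pow : (slW : SL(2, k)) ^ 4 = 1 := by
  apply Subtype.ext
  simp only [pow_succ, pow_zero, one_mul, Matrix.SpecialLinearGroup.coe_mul, coe_slW, Matrix.mul_fin_two,
    Matrix.SpecialLinearGroup.coe_one, Matrix.one_fin_two]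
  apply mat_ext <;> ring

theorem j_pow (h : a ^ 2 + b ^ 2 = -1) (hb : b ≠ 0) : jM a b ^ 4 = 1 := by
  apply Subtype.ext
  simp only [pow_succ, pow_zero, one_mul, Matrix.SpecialLinearGroup.coe_mul, coe_jM h hb,
    Matrix.mul_fin_two, Matrix.SpecialLinearGroup.coe_one, Matrix.one_fin_two]
  apply mat_ext
  · linear_combination (a ^ 2 + b ^ 2 - 1) * h
  · ring
  · ring
  · linear_combination (a ^ 2 + b ^ 2 - 1) * h

theorem j_W (h : a ^ 2 + b ^ 2 = -1) (hb : b ≠ 0) : jM a b * slW * (jM a b)⁻¹ = slW⁻¹ := by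
  rw [mul_inv_eq_iff_eq_mul, eq_inv_mul_iff_mul_eq]
  apply Subtype.ext
  simp only [Matrix.SpecialLinearGroup.coe_mul, coe_jM h hb, coe_slW, Matrix.mul_fin_two]
  apply mat_ext <;> ring

theorem W_j (h : a ^ 2 + b ^ 2 = -1) (hb : b ≠ 0) : slW * jM a b * slW⁻¹ = (jM a b)⁻¹ := by
  rw [mul_inv_eq_iff_eq_mul, eq_inv_mul_iff_mul_eq]
  apply Subtype.ext
  simp only [Matrix.SpecialLinearGroup.coe_mul, coe_jM h hb, coe_slW, Matrix.mul_fin_two]
  apply mat_ext
  · ring
  · linear_combination (-1 : k) * h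
  · linear_combination h
  · ring

end sl2

end Cfsg.Agent.H34.NS
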