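/-
The involutions of a Chevalley group commuting with the quaternion subgroups of a cascade of
fundamental subgroups are squares.
-/
import Mathlib
import Cfsg.Agent.H34.NoSplit1

set_option autoImplicit false

namespace Cfsg.Agent.H34.NS

open Equiv Cfsg.Lie Cfsg.Agent.H37 Cfsg.Agent.H40 Subgroup Cert
open scoped MatrixGroups

/-- The sum of the Cartan integers of the roots of a block. -/
def pv (D : ChevalleyDatum) (L : List ℕ) (r : ℕ) : ℤ := (L.map fun θ => D.pairing θ r).sum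

variable {D : ChevalleyDatum} {C : Cert D} {k : Type*} [Field k]

theorem commute_wg {w w' : List (ℕ × k)}
    (h : ∀ p ∈ w, ∀ p' ∈ w', Commute (C.xg k p.1 p.2) (C.xg k p'.1 p'.2)) :
    Commute (C.wg k w) (C.wg k w') := by
  refine Commute.list_prod_left _ _ fun x hx => Commute.list_prod_right _ _ fun y hy => ?_
  obtain ⟨p, hp, rfl⟩ := List.mem_map.1 hx
  obtain ⟨p', hp', rfl⟩ := List.mem_map.1 hy
  exact h p hp p' hp'

variable (C) in
/-- A diagonally embedded `SL₂`. -/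
structure Blk (L : List ℕ) (φ : SL(2, k) →* D.group k) : Prop where
  hX : ∀ t, φ (slX t) = C.wg k (L.map fun r => (r, t))
  hY : ∀ t, φ (slY t) = C.wg k (L.map fun r => (D.neg r, t))
  hd : ∀ x : kˣ, ∃ c, φ (dg x) = C.tg k c ∧ ∀ r, torChar D c r = x ^ pv D L r

theorem Blk.commute {L L' : List ℕ} {φ φ' : SL(2, k) →* D.group k} (h : Blk C L φ)
    (h' : Blk C L' φ') (ho : ∀ r ∈ L, ∀ s ∈ L', Orth D r s) (x y : SL(2, k)) :
    Commute (φ x) (φ' y) := by
  have key : ∀ (f f' : ℕ → ℕ), (∀ r, f r ∈ [r, D.neg r]) → (∀ r, f' r ∈ [r, D.neg r]) → ∀ t u : k,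
      Commute (C.wg k (L.map fun r => (f r, t))) (C.wg k (L'.map fun r => (f' r, u))) :=
    fun f f' hf hf' t u => commute_wg fun p hp p' hp' => by
      obtain ⟨r, hr, rfl⟩ := List.mem_map.1 hp
      obtain ⟨s, hs, rfl⟩ := List.mem_map.1 hp'
      exact commute_xg (ho r hr s hs _ (hf r) _ (hf' s)) _ _
  refine commute_of_gen (fun t => ?_) (fun t => ?_) x <;>
    refine (commute_of_gen (fun u => ?_) (fun u => ?_) y).symm
  · rw [h.hX, h'.hX]; exact (key id id (by simp) (by simp) t u).symm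
  · rw [h.hX, h'.hY]; exact (key id D.neg (by simp) (by simp) t u).symm
  · rw [h.hY, h'.hX]; exact (key D.neg id (by simp) (by simp) t u).symm
  · rw [h.hY, h'.hY]; exact (key D.neg D.neg (by simp) (by simp) t u).symm

theorem blk_one {r : ℕ} (hr : r < D.nroots) : Blk C [r] (rk C k hr).hom where
  hX t := by rw [RankOneRel.hom_X]; simp
  hY t := by rw [RankOneRel.hom_Y]; simp
  hd x := ⟨_, (hom_dg _ x).trans (hg_eq_tg hr x), fun s => by
    rw [torChar_eq_evw, evw_zpow, pv, List.map_singleton, List.sum_singleton, pairing_eq_sum,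
      Finset.sum_range]; rfl⟩

variable (C k) in
theorem exists_blk {L : List ℕ} (hL : ∀ r ∈ L, r < D.nroots) (ho : L.Pairwise (Orth D)) :
    ∃ φ : SL(2, k) →* D.group k, Blk C L φ := by
  induction L with
  | nil => exact ⟨1, fun _ => rfl, fun _ => rfl, fun x => ⟨1, (map_one _).symm, fun r => by
      simp [torChar, pv]⟩⟩
  | cons r L ih =>
    obtain ⟨φ, h⟩ := ih (fun s hs => hL s (by simp [hs])) (List.pairwise_cons.1 ho).2
    have h1 := blk_one (C := C) (k := k) (hL r (by simp))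
    have hc := h1.commute h fun a ha s hs => by
      rw [List.mem_singleton.1 ha]; exact (List.pairwise_cons.1 ho).1 s hs
    refine ⟨(MonoidHom.noncommCoprod _ _ hc).comp ((MonoidHom.id _).prod (MonoidHom.id _)),
      fun t => ?_, fun t => ?_, fun x => ?_⟩
    · simp [h1.hX, h.hX]
    · simp [h1.hY, h.hY]
    · obtain ⟨c, e, hc⟩ := h1.hd x
      obtain ⟨c', e', hc'⟩ := h.hd x
      refine ⟨c * c', ?_, fun s => ?_⟩
      · simp [e, e']
      · rw [torChar_mul, hc, hc', ← zpow_add]; simp [pv]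

include C in
theorem torChar_neg (c : Fin D.rank → kˣ) {r : ℕ} (hr : r < D.nroots) :
    torChar D c (D.neg r) = (torChar D c r)⁻¹ := by
  have : wtD D (D.neg r) = (-1 : ℤ) • wtD D r := by
    funext i
    have := C.R.wt_neg ⟨r, hr⟩ i
    rw [C.wt_eq, C.wt_eq, C.neg_val] at this
    simp [wtD, this]
  rw [torChar_eq_evw, this, evw_smul, zpow_neg_one, torChar_eq_evw]

theorem Blk.conj_ad {L : List ℕ} {φ : SL(2, k) →* D.group k} (h : Blk C L φ)
    (hL : ∀ r ∈ L, r < D.nroots) {c : Fin D.rank → kˣ} {e : kˣ} (he : ∀ r ∈ L, torChar D c r = e)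
    (β : kˣ) : C.tg k c * φ (ad β) * (C.tg k c)⁻¹ = φ (dg e) * φ (ad β) := by
  have h1 : ∀ t, MulAut.conj (C.tg k c) (φ (slX t)) = φ (slX (e * t)) := fun t => by
    rw [MulAut.conj_apply, h.hX, h.hX, tg_conj_wg c (by simpa using hL), List.map_map]
    exact congrArg _ (List.map_congr_left fun r hr => by simp [he r hr])
  have h2 : ∀ t, MulAut.conj (C.tg k c) (φ (slY t)) = φ (slY ((e : k)⁻¹ * t)) := fun t => by
    rw [MulAut.conj_apply, h.hY, h.hY, tg_conj_wg c (by
      simpa using fun r hr => C.neg_val ⟨r, hL r hr⟩ ▸ (C.R.neg ⟨r, hL r hr⟩).2), List.map_map]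
    exact congrArg _ (List.map_congr_left fun r hr => by
      simp [torChar_neg (C := C) c (hL r hr), he r hr])
  rw [← map_mul, dg_mul_ad, ← MulAut.conj_apply, ad_eq, ad_eq]
  simp only [map_mul, h1, h2, Units.val_mul, mul_inv, mul_neg]

theorem eq_one_of_comm {α : Type*} {c : α → Fin D.rank → kˣ}
    (h1 : ∀ r : Fin D.nroots, ∃ a, torChar D (c a) r ≠ 1) {w : Perm (Fin D.nroots)}
    (hw : w ∈ C.S.W) {v : D.group k} (hv : v ∈ (C.split k).U (C.S.inv w))
    (e : ∀ a, C.tg k (c a) * v * (C.tg k (c a))⁻¹ = v) : v = 1 := by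
  classical
  obtain ⟨y, hy, rfl⟩ := Split.exists_prod ((C.split k).cl_inv hw)
    (L := (Finset.univ.filter fun r => r ∈ C.S.inv w).toList) (Finset.nodup_toList _)
    (fun r => by simp) hv
  refine List.prod_eq_one fun x hx => ?_
  obtain ⟨r, hr, rfl⟩ := List.mem_map.1 hx
  obtain ⟨a, ha⟩ := h1 r
  have h2 := Split.prod_inj (P := C.split k) (Finset.nodup_toList _)
    (fun r hr => ((Finset.mem_filter.1 (Finset.mem_toList.1 hr)).2 : r ∈ C.S.inv w).1)
    (y := fun r => MulAut.conj (C.tg k (c a)) (y r)) (y' := y) (fun r _ => by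
      obtain ⟨t, ht⟩ := mem_X.1 (hy r)
      exact mem_X.2 ⟨_, by rw [← ht]; exact (tg_conj (c a) r.2 t).symm⟩) (fun r _ => hy r)
    (by rw [← e a, ← MulAut.conj_apply, map_list_prod, List.map_map]; rfl) r hr
  obtain ⟨t, ht⟩ := mem_X.1 (hy r)
  rw [← ht] at h2 ⊢
  have := xg_injective r.2 ((tg_conj (C := C) (c a) r.2 t).symm.trans h2)
  rw [xg_eq_one_iff r.2]
  by_contra ht
  exact ha (Units.ext ((mul_eq_right₀ ht).1 this))

theorem mem_N_of_comm {α : Type*} {c : α → Fin D.rank → kˣ}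
    (h1 : ∀ r : Fin D.nroots, ∃ a, torChar D (c a) r ≠ 1) {g : D.group k}
    (hg : ∀ a, C.tg k (c a) * g = g * C.tg k (c a)) : g ∈ (C.split k).N ∧
      ∀ a (r : Fin D.nroots), torChar D (c a) ((C.split k).ν g r) = torChar D (c a) r := by
  have hN : g ∈ (C.split k).N := by
    obtain ⟨a, ha, n, hn, u, hu, rfl⟩ := (C.split k).bruhat g
    have key : ∀ b, C.tg k (c b) * a * (C.tg k (c b))⁻¹ = a ∧ C.tg k (c b) * u * (C.tg k (c b))⁻¹ = u :=
      fun b => by
      have hs := tg_mem_H (C := C) (c b)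
      have hg := hg b
      set s := C.tg k (c b)
      have hN := Split.H_le_N hs
      have e1 : (C.split k).ν (s * n * s⁻¹) = (C.split k).ν n := by
        rw [(C.split k).ν_mul _ (mul_mem hN hn) _ (inv_mem hN), (C.split k).ν_mul _ hN _ hn,
          Split.ν_H hs, Split.ν_H (inv_mem hs), one_mul, mul_one]
      obtain ⟨e2, -, e4⟩ := Split.bruhat_unique (Split.conj_U_H hs ha) (cj1 _ hN hn)
        (e1.symm ▸ Split.conj_U_H hs hu) ha hn hu (by
          calc _ = s * (a * n * u) * s⁻¹ := by group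
            _ = _ := by rw [hg, mul_inv_cancel_right])
      exact ⟨e2, e4⟩
    rw [eq_one_of_comm h1 ((C.split k).ν_mem n hn) hu fun b => (key b).2,
      eq_one_of_comm h1 (C.S.wJ_mem_W _) (by rw [(C.split k).inv_w0]; exact ha) fun b => (key b).1]
    simpa using hn
  refine ⟨hN, fun a r => ?_⟩
  have := (((C.idTw (k := k)).conj hN).map_tg_iff (c := c a) (d := c a)).1 (by
    show g * C.tg k (c a) * g⁻¹ = _
    rw [← hg, mul_inv_cancel_right]) r
  exact Units.ext (by simpa using this)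

theorem eq_of_xg_eq {r s : Fin D.nroots} {t u : k} (ht : t ≠ 0) (e : C.xg k r t = C.xg k s u) :
    r = s :=
  Split.eq_of_mem_X (P := C.split k) (xg_mem_X r t) (e ▸ xg_mem_X s u) (by rwa [Ne, xg_eq_one_iff r.2])

theorem ν_comm {φ : k →+* k} {π : Perm (Fin D.nroots)} (σ : FrobTw C φ π) {n : D.group k}
    (hn : n ∈ (C.split k).N) (e : σ.σ n = n) (r : Fin D.nroots) :
    π ((C.split k).ν n r) = (C.split k).ν n (π r) := by
  obtain ⟨a, ha⟩ := σ.map
  obtain ⟨b, -, hb⟩ := conj_xg hn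
  have := congrArg σ.σ (hb r 1)
  rw [map_mul, map_mul, map_inv, e, ha, ha, hb] at this
  exact (eq_of_xg_eq (by simp) this).symm

/-- The invariants of a root. -/
def cd (D : ChevalleyDatum) (ρ : ℕ → ℕ) (Bs : List (List ℕ)) (r : ℕ) : ℤ :=
  Bs.foldr (fun L c => 4 * c + pv D L r % 4) (if ρ r = r then 1 else 0)

/-- The bit as an integer. -/
def bit (s j : ℕ) : ℤ := if s.testBit j then 1 else 0

/-- The certificate: the blocks are orthogonal. -/
def Cert0 (D : ChevalleyDatum) (ρ : ℕ → ℕ) (Bs : List (List ℕ)) : Prop :=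
  (∀ a < Bs.length, (∀ r ∈ Bs.getD a [], r < D.nroots) ∧ (Bs.getD a []).Pairwise (Orth D) ∧
    (∀ b < Bs.length, a ≠ b → ∀ r ∈ Bs.getD a [], ∀ s ∈ Bs.getD b [], Orth D r s) ∧
    (Bs.getD a []).headD 0 < D.nroots ∧ ∀ r ∈ Bs.getD a [], r = (Bs.getD a []).headD 0 ∨
      r = ρ ((Bs.getD a []).headD 0) ∨ r = ρ (ρ ((Bs.getD a []).headD 0)))

/-- The certificate: no non-trivial element of the Weyl group preserves the invariants. -/
def Cert1 (D : ChevalleyDatum) (ρ : ℕ → ℕ) (Bs : List (List ℕ)) (I : List ℤ) (nb : List ℕ) : Prop :=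
  (∀ r < D.nroots, I.getD r 0 = cd D ρ Bs r ∧ ∃ a < Bs.length, pv D (Bs.getD a []) r % 4 ≠ 0) ∧
  ∀ j < D.rank, nb.getD j 0 < D.rank ∧ ∀ r < D.nroots, I.getD r 0 = I.getD (D.simple j) 0 →
    D.IsPosRoot r ∨ ∀ s < D.nroots, I.getD s 0 = I.getD (D.simple (nb.getD j 0)) 0 →
      D.pairing r s ≠ D.pairing (D.simple j) (D.simple (nb.getD j 0))

/-- The certificate: the surviving sign characters are squares. -/
def Cert2 (D : ChevalleyDatum) (ρ : ℕ → ℕ) (Bs : List (List ℕ)) (od : List ℕ) (R : List (List ℤ))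
    (T : List (ℕ × ℕ)) : Prop :=
  (∀ a < Bs.length, (od.getD a 0 < D.nroots ∧ pv D (Bs.getD a []) (od.getD a 0) % 2 = 1) ∧
    ∀ i < D.rank, D.cartan i ((Bs.getD a []).headD 0) =
      ∑ j ∈ Finset.range D.rank, gt R a j * D.cartan i (D.simple j)) ∧
  ∀ s < 2 ^ D.rank, (∀ a < Bs.length, (∑ j ∈ Finset.range D.rank, gt R a j * bit s j) % 2 = 0) →
    (∀ j < D.rank, ∀ j' < D.rank, ρ (D.simple j) = D.simple j' → bit s j = bit s j') →
    ∀ j < D.rank, (∑ a ∈ Finset.range Bs.length,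
      bit ((T.lookup s).getD 0) a * pv D (Bs.getD a []) (D.simple j)) % 2 = bit s j

instance (D : ChevalleyDatum) (ρ : ℕ → ℕ) (Bs : List (List ℕ)) : Decidable (Cert0 D ρ Bs) := by
  unfold Cert0; infer_instance

set_option synthInstance.maxSize 2000 in
instance (D : ChevalleyDatum) (ρ : ℕ → ℕ) (Bs : List (List ℕ)) (I : List ℤ) (nb : List ℕ) :
    Decidable (Cert1 D ρ Bs I nb) := by
  unfold Cert1; infer_instance

set_option synthInstance.maxSize 2000 in
instance (D : ChevalleyDatum) (ρ : ℕ → ℕ) (Bs : List (List ℕ)) (od : List ℕ) (R : List (List ℤ))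
    (T : List (ℕ × ℕ)) : Decidable (Cert2 D ρ Bs od R T) := by
  unfold Cert2; infer_instance

theorem cd_congr {ρ : ℕ → ℕ} {Bs : List (List ℕ)} {r s : ℕ} (h1 : ρ r = r ↔ ρ s = s)
    (h2 : ∀ L ∈ Bs, pv D L r % 4 = pv D L s % 4) : cd D ρ Bs r = cd D ρ Bs s := by
  induction Bs with
  | nil => simp [cd, h1]
  | cons L Bs ih =>
    have := ih fun L' h => h2 L' (by simp [h])
    simp only [cd, List.foldr_cons] at this ⊢
    rw [this, h2 L (by simp)]

theorem Cert1.eq_one {ρ : ℕ → ℕ} {Bs : List (List ℕ)} {I : List ℤ} {nb : List ℕ}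
    (h : Cert1 D ρ Bs I nb) {w : Perm (Fin D.nroots)} (hw : w ∈ C.S.W)
    (e : ∀ r : Fin D.nroots, cd D ρ Bs (w r) = cd D ρ Bs r) : w = 1 := by
  have e' : ∀ j : Fin D.rank, I.getD (w (C.R.simple j)) 0 = I.getD (D.simple j) 0 := fun j => by
    rw [(h.1 _ (w _).2).1, e, ← C.simple_val, (h.1 _ (C.R.simple j).2).1]
  refine C.S.eq_one_of_pos hw fun j => (C.pos_iff _).2 ?_
  obtain ⟨h1, h2⟩ := h.2 j j.2
  refine (h2 _ (w (C.R.simple j)).2 (e' j)).resolve_right fun h3 => ?_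
  refine h3 _ (w (C.R.simple ⟨_, h1⟩)).2 (e' ⟨_, h1⟩) ?_
  rw [pairing_W C hw, C.simple_val, C.simple_val]

theorem exists_bits {l : ℕ} (b : Fin l → Bool) : ∃ s < 2 ^ l, ∀ j : Fin l, s.testBit j = b j :=
  ⟨Nat.ofBits b, Nat.ofBits_lt_two_pow b, fun j => Nat.testBit_ofBits_lt b j j.2⟩

theorem zpow_iota {ι : kˣ} (hι : (ι : k) ^ 2 = -1) (h2 : (2 : k) ≠ 0) {a b : ℤ} (h : ι ^ a = ι ^ b) :
    a % 4 = b % 4 := by
  have h1 : ι ^ 2 = -1 := Units.ext (by simpa using hι)
  have h3 : (-1 : kˣ) ≠ 1 := fun e => h2 (by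
    have := congrArg Units.val e
    simp only [Units.val_neg, Units.val_one] at this
    linear_combination (-1 : k) * this)
  have h4 : orderOf ι = 2 ^ (1 + 1) := orderOf_eq_prime_pow (by rwa [pow_one, h1]) (by
    rw [show 2 ^ (1 + 1) = 2 * 2 from rfl, pow_mul, h1]; simp)
  have := zpow_eq_zpow_iff_modEq.1 h
  rw [h4] at this
  exact this

theorem neg_one_zpow_eq {a b : ℤ} (h2 : (2 : k) ≠ 0) : (-1 : kˣ) ^ a = (-1) ^ b ↔ a % 2 = b % 2 := by
  have h3 : (-1 : kˣ) ≠ 1 := fun e => h2 (by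
    have := congrArg Units.val e
    simp only [Units.val_neg, Units.val_one] at this
    linear_combination (-1 : k) * this)
  rw [zpow_eq_zpow_iff_modEq, orderOf_eq_prime (p := 2) (by simp) h3]; rfl

/-- An involution commuting with the quaternion groups. -/
theorem exists_sq {ρ : ℕ → ℕ} {Bs : List (List ℕ)} {I : List ℤ} {nb od : List ℕ} {R : List (List ℤ)}
    {T : List (ℕ × ℕ)} (c0 : Cert0 D ρ Bs) (c1 : Cert1 D ρ Bs I nb) (c2 : Cert2 D ρ Bs od R T)
    {φ : Fin Bs.length → SL(2, k) →* D.group k} (hφ : ∀ a : Fin Bs.length, Blk C (Bs.getD a []) (φ a))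
    (hc : Pairwise fun a b => ∀ x y, Commute (φ a x) (φ b y))
    {ι β : kˣ} (hι : (ι : k) ^ 2 = -1) (h2 : (2 : k) ≠ 0)
    {f : k →+* k} {π : Perm (Fin D.nroots)} (σ : FrobTw C f π) (hπ : ∀ r, (π r : ℕ) = ρ r)
    {u : D.group k} (hu : u * u = 1) (hσ : σ.σ u = u) (hi : ∀ a, φ a (dg ι) * u = u * φ a (dg ι))
    (hj : ∀ a, φ a (ad β) * u = u * φ a (ad β)) : ∃ A : Fin Bs.length → Bool,
      u = MonoidHom.noncommPiCoprod φ hc (fun a => if A a then dg ι else 1) *
        MonoidHom.noncommPiCoprod φ hc (fun a => if A a then dg ι else 1) := by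
  classical
  choose c hc1 hc2 using fun a x => (hφ a).hd x
  obtain ⟨hN, hν⟩ := mem_N_of_comm (C := C) (c := fun a => c a ι) (fun r => by
    obtain ⟨a, ha, h⟩ := (c1.1 r r.2).2
    exact ⟨⟨a, ha⟩, fun e => h (zpow_iota hι h2 (b := 0) ((hc2 ⟨a, ha⟩ ι r).symm.trans (e.trans (zpow_zero _).symm)))⟩)
    (g := u) fun a => by rw [← hc1, hi]
  have hw : (C.split k).ν u = 1 := c1.eq_one ((C.split k).ν_mem u hN) fun r => cd_congr (by
      rw [← hπ, ← hπ, ν_comm σ hN hσ, Fin.val_inj, Fin.val_inj, EmbeddingLike.apply_eq_iff_eq])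
    fun L hL => by
      obtain ⟨a, ha, rfl⟩ := List.getElem_of_mem hL
      have := hν ⟨a, ha⟩ r
      rw [hc2, hc2, List.getD_eq_getElem _ _ ha] at this
      exact zpow_iota hι h2 this
  obtain ⟨d, rfl⟩ := mem_H_iff.1 (Split.mem_H_of hN hw)
  have hd : ∀ r : Fin D.nroots, torChar D d r = 1 ∨ torChar D d r = -1 := fun r => by
    have := tg_eq_iff'.1 (show C.tg k (d * d) = C.tg k 1 by rw [map_mul, hu, map_one]) r
    rw [torChar_mul] at this
    have h3 : torChar D 1 r = (1 : kˣ) := by simp [torChar]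
    rw [h3, Units.ext_iff, Units.val_mul, Units.val_one, mul_self_eq_one_iff] at this
    exact this.imp (fun e => Units.ext e) fun e => Units.ext e
  have hρ : ∀ r < D.nroots, torChar D d (ρ r) = torChar D d r := fun r hr => by
    have := σ.map_tg_iff.1 hσ ⟨r, hr⟩
    rw [hπ] at this
    rcases hd ⟨r, hr⟩ with e | e <;> exact Units.ext (this.trans (by rw [e]; simp))
  obtain ⟨s, hs, hb⟩ := exists_bits fun j : Fin D.rank => decide (torChar D d (D.simple j) ≠ 1)
  have hb' : ∀ j < D.rank, torChar D d (D.simple j) = (-1) ^ bit s j := fun j hj => by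
    have := hd (C.R.simple ⟨j, hj⟩)
    rw [C.simple_val] at this
    rw [bit, hb ⟨j, hj⟩]
    by_cases e : torChar D d (D.simple j) = 1
    · simp [e]
    · simpa [e] using this
  have key := c2.2 s hs (fun a ha => by
    obtain ⟨h3, -, -, h4, h5⟩ := c0 a ha
    obtain ⟨⟨h6, h7⟩, h8⟩ := c2.1 a ha
    have h9 := (hφ ⟨a, ha⟩).conj_ad h3 (c := d) (e := torChar D d ((Bs.getD a []).headD 0))
      (fun r hr => by
        rcases h5 r hr with e | e | e
        · rw [← e]
        · rw [e, hρ _ h4]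
        · rw [e, hρ _ (hπ ⟨_, h4⟩ ▸ (π ⟨_, h4⟩).2), hρ _ h4]) β
    rw [← hj, mul_inv_cancel_right, right_eq_mul, hc1, ← map_one (C.tg k), tg_eq_iff'] at h9
    have h10 := h9 ⟨_, h6⟩
    have h11 : torChar D d ((Bs.getD a []).headD 0) =
        (-1) ^ ∑ j ∈ Finset.range D.rank, gt R a j * bit s j := by
      have : wtD D ((Bs.getD a []).headD 0) = ∑ j ∈ Finset.range D.rank, gt R a j • wtD D (D.simple j) := by
        funext i; rw [Finset.sum_apply]; exact h8 i i.2
      rw [torChar_eq_evw, this, evw_sum, ← prod_zpow_sum]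
      refine Finset.prod_congr rfl fun j hj => ?_
      rw [evw_smul, ← torChar_eq_evw, hb' j (Finset.mem_range.1 hj), ← zpow_mul, mul_comm]
    rw [hc2, h11, ← zpow_mul, show torChar D 1 _ = (-1 : kˣ) ^ (0 : ℤ) by simp [torChar],
      neg_one_zpow_eq h2, Int.mul_emod] at h10
    simp only [h7] at h10
    omega) fun j hj j' hj' e => by
      have := hρ _ (C.simple_val ⟨j, hj⟩ ▸ (C.R.simple ⟨j, hj⟩).2)
      rw [e, hb' j hj, hb' j' hj', neg_one_zpow_eq h2] at this
      simp only [bit] at this ⊢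
      split_ifs at this ⊢ <;> omega
  refine ⟨fun a => ((T.lookup s).getD 0).testBit a, ?_⟩
  have e : MonoidHom.noncommPiCoprod φ hc (fun a => if ((T.lookup s).getD 0).testBit a then dg ι else 1) =
      C.tg k (∏ a : Fin Bs.length, if ((T.lookup s).getD 0).testBit a then c a ι else 1) := by
    rw [MonoidHom.noncommPiCoprod_apply, ← Finset.noncommProd_eq_prod]
    refine Eq.trans ?_ (Finset.map_noncommProd _ _ _ (C.tg k)).symm
    refine Finset.noncommProd_congr rfl (fun a _ => ?_) _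
    split_ifs
    · exact hc1 _ _
    · simp
  rw [e, ← map_mul, tg_eq_iff]
  intro j
  have h3 : torChar D (∏ a : Fin Bs.length, if ((T.lookup s).getD 0).testBit a then c a ι else 1)
      (D.simple j) = ι ^ ∑ a ∈ Finset.range Bs.length,
        bit ((T.lookup s).getD 0) a * pv D (Bs.getD a []) (D.simple j) := by
    rw [Finset.sum_range, ← prod_zpow_sum]
    have : ∀ g : Fin Bs.length → Fin D.rank → kˣ, torChar D (∏ a, g a) (D.simple j) =
        ∏ a, torChar D (g a) (D.simple j) := fun g => by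
      simp only [torChar, Finset.prod_apply, ← Finset.prod_zpow]
      exact Finset.prod_comm
    rw [this]
    refine Finset.prod_congr rfl fun a _ => ?_
    rw [bit]
    split_ifs
    · rw [hc2, one_mul]
    · simp [torChar]
  rw [torChar_mul, h3, ← mul_zpow, show ι * ι = -1 from Units.ext (by simpa [sq] using hι),
    hb' j j.2, neg_one_zpow_eq h2, key j j.2, bit]
  split_ifs <;> rfl

theorem Cert0.exists_blk {ρ : ℕ → ℕ} {Bs : List (List ℕ)} (c0 : Cert0 D ρ Bs) (C : Cert D)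
    (k : Type*) [Field k] : ∃ φ : Fin Bs.length → SL(2, k) →* D.group k,
      ∀ a : Fin Bs.length, Blk C (Bs.getD a []) (φ a) := by
  choose φ h using fun a : Fin Bs.length => NS.exists_blk C k (c0 a a.2).1 (c0 a a.2).2.1
  exact ⟨φ, h⟩

/-- The main criterion. -/
theorem noSplit_of_cert {ρ : ℕ → ℕ} {Bs : List (List ℕ)} {I : List ℤ} {nb od : List ℕ}
    {R : List (List ℤ)} {T : List (ℕ × ℕ)} (c0 : Cert0 D ρ Bs) (c1 : Cert1 D ρ Bs I nb)
    (c2 : Cert2 D ρ Bs od R T) {Γ : Type*} [Group Γ] [Finite Γ] (e : Γ →* D.group k)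
    (he : Function.Injective e) {ι a b : k} (hι : ι ^ 2 = -1) (h2 : (2 : k) ≠ 0)
    (hab : a ^ 2 + b ^ 2 = -1) (hb : b ≠ 0) (S : Subfield k) (ha : a ∈ S) (hb' : b ∈ S)
    (hX : ∀ L ∈ Bs, ∀ t ∈ S, C.wg k (L.map fun r => (r, t)) ∈ e.range ∧
      C.wg k (L.map fun r => (D.neg r, t)) ∈ e.range)
    {f : k →+* k} {π : Perm (Fin D.nroots)} (σ : FrobTw C f π) (hπ : ∀ r, (π r : ℕ) = ρ r)
    (hσ : ∀ g, σ.σ (e g) = e g) (hf : f ι = ι)
    (hσX : ∀ L ∈ Bs, ∀ t, σ.σ (C.wg k (L.map fun r => (r, t))) = C.wg k (L.map fun r => (r, f t)) ∧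
      σ.σ (C.wg k (L.map fun r => (D.neg r, t))) = C.wg k (L.map fun r => (D.neg r, f t))) :
    H93.STD.NoSplit Γ := by
  classical
  refine noSplit_of_sq fun u hu ho => ?_
  obtain ⟨φ, hφ⟩ := c0.exists_blk C k
  have hB : ∀ a : Fin Bs.length, Bs.getD a [] ∈ Bs := fun a => by
    rw [List.getD_eq_getElem _ _ a.2]; exact List.getElem_mem _
  have hc : Pairwise fun a b => ∀ x y, Commute (φ a x) (φ b y) := fun a b hab =>
    (hφ a).commute (hφ b) ((c0 a a.2).2.2.1 b b.2 (Fin.val_ne_of_ne hab))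
  have hX1 : ∀ a, ∀ t ∈ S, φ a (slX t) ∈ e.range := fun a t ht => (hφ a).hX t ▸ (hX _ (hB a) t ht).1
  have hY1 : ∀ a, ∀ t ∈ S, φ a (slY t) ∈ e.range := fun a t ht => (hφ a).hY t ▸ (hX _ (hB a) t ht).2
  have hW : ∀ a, φ a slW ∈ e.range := fun a => by
    rw [slW_eq, map_mul, map_mul]
    exact mul_mem (mul_mem (hX1 _ _ S.one_mem) (hY1 _ _ (neg_mem S.one_mem))) (hX1 _ _ S.one_mem)
  have hJ : ∀ c, φ c (jM a b) ∈ e.range := fun c => by
    rw [jM, map_mul, map_mul]
    exact mul_mem (mul_mem (hX1 _ _ (div_mem (sub_mem ha S.one_mem) hb')) (hY1 _ _ hb'))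
      (hX1 _ _ (div_mem (sub_mem (neg_mem ha) S.one_mem) hb'))
  let L : List (D.group k) := List.ofFn (fun c => φ c slW) ++ List.ofFn fun c => φ c (jM a b)
  have hL : ∀ x, x ∈ L ↔ ∃ c, ∃ y, (y = slW ∨ y = jM a b) ∧ φ c y = x := fun x => by
    simp only [L, List.mem_append, List.mem_ofFn]
    constructor
    · rintro (⟨c, rfl⟩ | ⟨c, rfl⟩)
      exacts [⟨c, _, .inl rfl, rfl⟩, ⟨c, _, .inr rfl, rfl⟩]
    · rintro ⟨c, y, rfl | rfl, rfl⟩
      exacts [.inl ⟨c, rfl⟩, .inr ⟨c, rfl⟩]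
  have hP := isPGroup_closure L (fun x hx => by
    obtain ⟨c, y, rfl | rfl, rfl⟩ := (hL x).1 hx
    · rw [← map_pow, W_pow, map_one]
    · rw [← map_pow, j_pow hab hb, map_one]) fun x hx y hy => by
    obtain ⟨c, x', hx', rfl⟩ := (hL x).1 hx
    obtain ⟨c', y', hy', rfl⟩ := (hL y).1 hy
    by_cases h : c' = c
    · subst h
      rw [← map_inv, ← map_inv, ← map_mul, ← map_mul]
      rcases hx' with rfl | rfl <;> rcases hy' with rfl | rfl
      exacts [.inl (by simp), .inr (by rw [j_W hab hb]), .inr (by rw [W_j hab hb]), .inl (by simp)]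
    · exact .inl (by rw [(hc h y' x').eq, mul_inv_cancel_right])
  obtain ⟨g, hg⟩ := exists_conj_comm ho (hP.comap_of_injective e he)
  have hg' : ∀ c y, (y = slW ∨ y = jM a b) → φ c y * e (g * u * g⁻¹) = e (g * u * g⁻¹) * φ c y :=
    fun c y hy => by
    obtain ⟨x, hx⟩ : φ c y ∈ e.range := by rcases hy with rfl | rfl; exacts [hW c, hJ c]
    rw [← hx, ← map_mul, ← map_mul, hg x]
    exact mem_comap.2 (hx ▸ subset_closure ((hL _).2 ⟨c, y, hy, rfl⟩))
  let Ψ := MonoidHom.noncommPiCoprod φ hc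
  let M := mM hι h2
  let γ := Ψ fun _ => M
  have hγ : ∀ c y y', y * M = M * y' → φ c y * γ = γ * φ c y' := fun c y y' h => by
    rw [← MonoidHom.noncommPiCoprod_mulSingle φ (hcomm := hc) c y,
      ← MonoidHom.noncommPiCoprod_mulSingle φ (hcomm := hc) c y', ← map_mul, ← map_mul]
    congr 1
    funext c'
    by_cases e : c' = c
    · subst e; simpa using h
    · simp [Pi.mulSingle_eq_of_ne e]
  have hι0 : ι ≠ 0 := by rintro rfl; simp at hι
  obtain ⟨β, hβ⟩ := j_mM hι h2 hab hb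
  have hσγ : σ.σ γ = γ := by
    have h3 : ∀ c y, σ.σ (φ c y) = φ c (Matrix.SpecialLinearGroup.map f y) := fun c =>
      sl2_ind (fun t => by
        rw [(hφ c).hX, (hσX _ (hB c) t).1, ← (hφ c).hX]
        congr 1; ext i j; fin_cases i <;> fin_cases j <;> simp [coe_slX]) (fun t => by
        rw [(hφ c).hY, (hσX _ (hB c) t).2, ← (hφ c).hY]
        congr 1; ext i j; fin_cases i <;> fin_cases j <;> simp [coe_slY])
        fun x y hx hy => by simp only [map_mul, hx, hy]
    have h4 : Matrix.SpecialLinearGroup.map f M = M := by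
      ext i j; fin_cases i <;> fin_cases j <;> simp [M, coe_mM, hf, map_ofNat]
    simp only [γ, Ψ, MonoidHom.noncommPiCoprod_apply]
    refine (Finset.map_noncommProd _ _ _ σ.σ).trans (Finset.noncommProd_congr rfl (fun c _ => ?_) _)
    rw [h3, h4]
  have key : ∀ c y y', (y = slW ∨ y = jM a b) → y * M = M * y' →
      φ c y' * (γ⁻¹ * e (g * u * g⁻¹) * γ) = γ⁻¹ * e (g * u * g⁻¹) * γ * φ c y' := fun c y y' hy h => by
    have : φ c y' = γ⁻¹ * φ c y * γ := by rw [mul_assoc, hγ c y y' h, inv_mul_cancel_left]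
    rw [this]
    calc _ = γ⁻¹ * (φ c y * e (g * u * g⁻¹)) * γ := by group
      _ = _ := by rw [hg' c y hy]; group
  have hu2 : u * u = 1 := by rw [← sq, ← hu, pow_orderOf_eq_one]
  obtain ⟨A, hA⟩ := exists_sq c0 c1 c2 hφ hc (ι := Units.mk0 ι hι0) (β := β) hι h2 σ hπ
    (u := γ⁻¹ * e (g * u * g⁻¹) * γ) (by
      calc _ = γ⁻¹ * e (g * (u * u) * g⁻¹) * γ := by simp only [map_mul, map_inv]; group
        _ = 1 := by simp [hu2]) (by rw [map_mul, map_mul, map_inv, hσγ, hσ])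
    (fun c => key c _ _ (.inl rfl) (W_mM hι h2 rfl)) fun c => key c _ _ (.inr rfl) hβ
  obtain ⟨x, hx⟩ : Ψ (fun c => if A c then slW else 1) ∈ e.range := by
    simp only [Ψ, MonoidHom.noncommPiCoprod_apply]
    refine Subgroup.noncommProd_mem _ _ fun c _ => ?_
    split_ifs
    exacts [hW c, by simp]
  have hx' : e x * γ = γ * Ψ fun c => if A c then dg (Units.mk0 ι hι0) else 1 := by
    rw [hx, ← map_mul, ← map_mul]
    congr 1
    funext c
    simp only [Pi.mul_apply]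
    split_ifs
    exacts [W_mM hι h2 rfl, by simp]
  refine ⟨g⁻¹ * x * g, ?_⟩
  have : e (x * x) = e (g * u * g⁻¹) := by
    rw [map_mul, eq_mul_inv_of_mul_eq hx']
    calc _ = γ * (γ⁻¹ * e (g * u * g⁻¹) * γ) * γ⁻¹ := by rw [hA]; simp only [Ψ]; group
      _ = _ := by group
  calc _ = g⁻¹ * (x * x) * g := by group
    _ = u := by rw [he this]; group

end Cfsg.Agent.H34.NS
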