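/-
No 2-central involution of an exceptional group of Lie type in odd characteristic has a complement
in its centraliser.
-/
import Mathlib
import Cfsg.Agent.H34.NoSplit2
import Cfsg.Agent.H34.Tori2
import Cfsg.Agent.H34.TwE6
import Cfsg.Agent.H34.TwD4

set_option autoImplicit false

namespace Cfsg.Agent.H34.NS

open Equiv Cfsg.Lie Cfsg.Agent.H37 Cfsg.Agent.H40 Subgroup Cert

universe u

theorem c0G2 : Cert0 chevG2 id [[11], [7]] := by decide +kernel

theorem c1G2 : Cert1 chevG2 id [[11], [7]]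
    [18, 23, 31, 23, 24, 31, 21, 24, 29, 21, 29, 18]
    [1, 0] := by decide +kernel

theorem c2G2 : Cert2 chevG2 id [[11], [7]] [1, 1]
    [[3, 2], [1, 0]]
    [(2, 1)] := by decide +kernel

theorem c0F4 : Cert0 chevF4 id [[47], [41], [30], [25]] := by decide +kernel

theorem c1F4 : Cert1 chevF4 id [[47], [41], [30], [25]]
    [258, 511, 383, 271, 479, 351, 264, 307, 451, 323, 316, 275, 460, 332, 284, 503, 375, 288, 263,
    496, 368, 471, 384, 343, 509, 384, 381, 464, 336, 269, 288, 477, 349, 308, 452, 324, 305, 276,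
    449, 321, 273, 264, 501, 373, 261, 469, 341, 258]
    [0, 0, 1, 0] := by decide +kernel

theorem c2F4 : Cert2 chevF4 id [[47], [41], [30], [25]] [1, 1, 1, 1]
    [[2, 4, 3, 2], [2, 2, 1, 0], [0, 2, 1, 0], [0, 0, 1, 0]]
    [(1, 3), (2, 6), (3, 5), (8, 1), (9, 2), (10, 7), (11, 4)] := by decide +kernel

theorem c0E6 : Cert0 chevE6 id [[71], [60], [44], [39]] := by decide +kernel

theorem c1E6 : Cert1 chevE6 id [[71], [60], [44], [39]]
    [258, 511, 383, 271, 307, 271, 479, 451, 351, 323, 275, 264, 316, 460, 332, 284, 307, 451, 503,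
    323, 375, 263, 275, 263, 471, 343, 316, 288, 496, 368, 460, 496, 384, 332, 368, 284, 308, 464,
    452, 384, 336, 324, 464, 336, 288, 276, 509, 381, 269, 305, 269, 477, 449, 349, 321, 273, 308,
    452, 324, 276, 264, 305, 449, 501, 321, 373, 261, 273, 261, 469, 341, 258]
    [0, 0, 0, 1, 0, 0] := by decide +kernel

theorem c2E6 : Cert2 chevE6 id [[71], [60], [44], [39]] [1, 1, 1, 1]
    [[1, 2, 2, 3, 2, 1], [1, 0, 1, 1, 1, 1], [0, 0, 1, 1, 1, 0], [0, 0, 0, 1, 0, 0]]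
    [(2, 1), (20, 6), (22, 7), (33, 3), (35, 2), (53, 5), (55, 4)] := by decide +kernel

theorem c0E7 : Cert0 chevE7 id [[125], [92], [87], [78], [73], [66], [63]] := by decide +kernel

theorem c1E7 : Cert1 chevE7 id [[125], [92], [87], [78], [73], [66], [63]]
    [16386, 17215, 16703, 19663, 17615, 28915, 20723, 19535, 17487, 28787, 20595, 17183, 32515,
    24323, 30467, 22275, 17207, 16671, 32003, 23811, 29955, 21763, 16695, 28883, 20691, 19655,
    17607, 28755, 20563, 19527, 17479, 17175, 16663, 16392, 31804, 23612, 29756, 21564, 16416,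
    29644, 21452, 20464, 18416, 29132, 20940, 19952, 17904, 16512, 29516, 21324, 20336, 18288,
    16896, 29004, 20812, 19824, 17776, 31772, 23580, 18432, 29724, 21532, 24576, 24576, 31796,
    23604, 18432, 29748, 21556, 20432, 18384, 29636, 21444, 16896, 19920, 17872, 29124, 20932,
    16512, 20304, 18256, 29508, 21316, 19792, 17744, 28996, 20804, 16416, 31764, 23572, 29716,
    21524, 16392, 17213, 16701, 19661, 17613, 28913, 20721, 19533, 17485, 28785, 20593, 17181,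
    32513, 24321, 30465, 22273, 17205, 16669, 32001, 23809, 29953, 21761, 16693, 28881, 20689,
    19653, 17605, 28753, 20561, 19525, 17477, 17173, 16661, 16386]
    [0, 3, 0, 0, 3, 0, 5] := by decide +kernel

theorem c2E7 : Cert2 chevE7 id [[125], [92], [87], [78], [73], [66], [63]] [1, 1, 1, 3, 1, 3, 5]
    [[2, 2, 3, 4, 3, 2, 1], [0, 1, 1, 2, 2, 2, 1], [0, 1, 1, 2, 1, 0, 0], [0, 1, 0, 0, 0, 0, 0], [0,
    0, 1, 0, 0, 0, 0], [0, 0, 0, 0, 1, 0, 0], [0, 0, 0, 0, 0, 0, 1]]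
    [(1, 1), (8, 6), (9, 7), (32, 3), (33, 2), (40, 5), (41, 4)] := by decide +kernel

theorem c0E8 : Cert0 chevE8 id [[239], [226], [159], [152], [141], [135], [126], [121]] := by decide +kernel

theorem c1E8 : Cert1 chevE8 id [[239], [226], [159], [152], [141], [135], [126], [121]]
    [65538, 114751, 81983, 78031, 69839, 69391, 67343, 68879, 66831, 77903, 69711, 114719, 81951,
    65544, 66547, 66035, 80947, 72755, 117955, 85187, 68860, 78899, 70707, 115907, 83139, 66812,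
    66419, 127747, 94979, 78652, 119555, 86787, 70460, 66515, 115660, 82892, 65907, 127235, 94467,
    78140, 119043, 86275, 69948, 66003, 115148, 82380, 117827, 85059, 68732, 80915, 130060, 97292,
    72723, 121868, 89100, 68828, 115779, 83011, 66684, 78867, 128012, 95244, 70675, 119820, 87052,
    66780, 66387, 115532, 82764, 78620, 70428, 65875, 115020, 82252, 78108, 69916, 68700, 66652,
    114743, 81975, 65568, 78023, 127216, 94448, 69831, 119024, 86256, 65664, 69383, 118576, 85808,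
    81856, 73664, 67335, 116528, 83760, 79808, 71616, 66048, 68871, 118064, 85296, 81344, 73152,
    67584, 66823, 116016, 83248, 79296, 71104, 77895, 127088, 94320, 73728, 69703, 118896, 86128,
    114711, 98304, 81943, 114749, 98304, 81981, 127184, 94416, 78029, 73728, 118992, 86224, 69837,
    81728, 73536, 118544, 85776, 69389, 67584, 79680, 71488, 116496, 83728, 67341, 66048, 81216,
    73024, 118032, 85264, 68877, 79168, 70976, 115984, 83216, 66829, 65664, 127056, 94288, 77901,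
    118864, 86096, 69709, 65568, 114717, 81949, 68852, 66804, 78644, 70452, 115652, 82884, 66545,
    78132, 69940, 115140, 82372, 66033, 68724, 130052, 97284, 80945, 121860, 89092, 72753, 68820,
    117953, 85185, 66676, 128004, 95236, 78897, 119812, 87044, 70705, 66772, 115905, 83137, 115524,
    82756, 66417, 78612, 127745, 94977, 70420, 119553, 86785, 66513, 115012, 82244, 65905, 78100,
    127233, 94465, 69908, 119041, 86273, 66001, 68692, 117825, 85057, 80913, 72721, 66644, 115777,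
    83009, 78865, 70673, 66385, 65873, 65544, 114741, 81973, 78021, 69829, 69381, 67333, 68869,
    66821, 77893, 69701, 114709, 81941, 65538]
    [0, 3, 0, 0, 3, 0, 5, 0] := by decide +kernel

theorem c2E8 : Cert2 chevE8 id [[239], [226], [159], [152], [141], [135], [126], [121]] [1, 1, 1, 3, 5, 5, 3, 1]
    [[2, 3, 4, 6, 5, 4, 3, 2], [2, 2, 3, 4, 3, 2, 1, 0], [0, 1, 1, 2, 2, 2, 1, 0], [0, 1, 1, 2, 1,
    0, 0, 0], [0, 1, 0, 0, 0, 0, 0, 0], [0, 0, 1, 0, 0, 0, 0, 0], [0, 0, 0, 0, 1, 0, 0, 0], [0, 0,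
    0, 0, 0, 0, 1, 0]]
    [(1, 3), (8, 13), (9, 14), (32, 6), (33, 5), (40, 11), (41, 8), (128, 1), (129, 2), (136, 12),
    (137, 15), (160, 7), (161, 4), (168, 10), (169, 9)] := by decide +kernel

theorem c0D4 : Cert0 chevD4 (fun r => piT grTD4a (piT grTD4a r)) [[23], [18, 13, 12]] := by decide +kernel

theorem c1D4 : Cert1 chevD4 (fun r => piT grTD4a (piT grTD4a r)) [[23], [18, 13, 12]]
    [18, 23, 15, 15, 7, 8, 15, 7, 7, 31, 8, 8, 8, 8, 21, 13, 13, 5, 8, 13, 5, 5, 29, 18]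
    [1, 0, 1, 1] := by decide +kernel

theorem c2D4 : Cert2 chevD4 (fun r => piT grTD4a (piT grTD4a r)) [[23], [18, 13, 12]] [1, 1]
    [[1, 2, 1, 1], [1, 0, 0, 0]]
    [(2, 1)] := by decide +kernel

variable {D : ChevalleyDatum} {C : Cert D}

/-- Composition of twisted Frobenius maps. -/
def compTw {k : Type*} [Field k] {φ φ' : k →+* k} {π π' : Perm (Fin D.nroots)} (σ : FrobTw C φ π)
    (σ' : FrobTw C φ' π') : FrobTw C (φ.comp φ') (π * π') where
  σ := σ.σ.comp σ'.σ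
  map := by
    obtain ⟨a, ha⟩ := σ.map
    obtain ⟨b, hb⟩ := σ'.map
    refine ⟨fun r => a (π' r) * Units.map (φ : k →* k) (b r), fun r t => ?_⟩
    rw [MonoidHom.comp_apply, hb, ha]
    simp [mul_assoc]
  mapH h hh := σ.mapH _ (σ'.mapH h hh)

theorem exists_data (p : ℕ) (hp : p.Prime) (hp2 : p ≠ 2) (K : Type*) [Field K] [CharP K p] :
    ∃ (ι a b : AlgebraicClosure K) (S : Subfield (AlgebraicClosure K)), ι ^ 2 = -1 ∧
      (2 : AlgebraicClosure K) ≠ 0 ∧ a ^ 2 + b ^ 2 = -1 ∧ b ≠ 0 ∧ a ∈ S ∧ b ∈ S ∧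
      ∀ t ∈ S, ∃ s : K, algebraMap K _ s = t ∧ ∀ φ : K →+* K, φ s = s := by
  have := Fact.mk hp
  obtain ⟨ι, hι⟩ := IsAlgClosed.exists_pow_nat_eq (-1 : AlgebraicClosure K) two_pos
  obtain ⟨a, b, h, hb⟩ : ∃ a b : ZMod p, a ^ 2 + b ^ 2 = -1 ∧ b ≠ 0 := by
    obtain ⟨a, b, h⟩ := ZMod.sq_add_sq p (-1)
    by_cases hb : b = 0
    · refine ⟨b, a, by rwa [add_comm], ?_⟩
      rintro rfl
      simp [hb] at h
    · exact ⟨a, b, h, hb⟩
  let f : ZMod p →+* AlgebraicClosure K := (algebraMap K _).comp (ZMod.castHom dvd_rfl K)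
  refine ⟨ι, f a, f b, f.fieldRange, hι, fun e => hp2 ?_, by rw [← map_pow, ← map_pow, ← map_add, h]; simp,
    (map_ne_zero f).2 hb, ⟨a, rfl⟩, ⟨b, rfl⟩, ?_⟩
  · exact (Nat.prime_dvd_prime_iff_eq hp Nat.prime_two).1
      ((CharP.cast_eq_zero_iff (AlgebraicClosure K) p 2).1 e)
  · rintro _ ⟨z, rfl⟩
    exact ⟨_, rfl, fun φ => DFunLike.congr_fun
      (RingHom.ext_zmod (φ.comp (ZMod.castHom dvd_rfl K)) (ZMod.castHom dvd_rfl K)) z⟩

theorem fieldHom_wg {K k : Type*} [Field K] [Field k] (ι : K →+* k) (L : List ℕ) (g : ℕ → ℕ) (s : K) :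
    C.V.fieldHom ι (C.wg K (L.map fun r => (g r, s))) = C.wg k (L.map fun r => (g r, ι s)) := by
  rw [map_wg _ (fun p => (p.1, ι p.2)) fun p _ => C.V.fieldHom_xE ι _ _, List.map_map]; rfl

theorem noSplit_id {Bs : List (List ℕ)} {I : List ℤ} {nb od : List ℕ}
    {R : List (List ℤ)} {T : List (ℕ × ℕ)} (c0 : Cert0 D id Bs) (c1 : Cert1 D id Bs I nb)
    (c2 : Cert2 D id Bs od R T) {p : ℕ} (hp : p.Prime) (hp2 : p ≠ 2) {K : Type*} [Field K] [CharP K p]
    {Γ : Type*} [Group Γ] [Finite Γ] (e : Γ →* D.group K) (he : Function.Injective e)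
    (hX : ∀ L ∈ Bs, ∀ s : K, (∀ φ : K →+* K, φ s = s) → C.wg K (L.map fun r => (r, s)) ∈ e.range ∧
      C.wg K (L.map fun r => (D.neg r, s)) ∈ e.range) : H93.STD.NoSplit Γ := by
  obtain ⟨ι, a, b, S, hι, h2, hab, hb, ha, hb', hS⟩ := exists_data p hp hp2 K
  refine noSplit_of_cert (C := C) c0 c1 c2 ((C.V.fieldHom (algebraMap K _)).comp e)
    ((C.V.fieldHom_injective _).comp he) hι h2 hab hb S ha hb' (fun L hL t ht => ?_) C.idTw
    (fun _ => rfl) (fun _ => rfl) rfl fun _ _ _ => ⟨rfl, rfl⟩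
  obtain ⟨s, rfl, hs⟩ := hS t ht
  obtain ⟨⟨x, hx⟩, ⟨y, hy⟩⟩ := hX L hL s hs
  exact ⟨⟨x, (congrArg _ hx).trans (fieldHom_wg _ L id s)⟩,
    ⟨y, (congrArg _ hy).trans (fieldHom_wg _ L D.neg s)⟩⟩

theorem noSplit_chev (C : Cert D) {Bs : List (List ℕ)} {I : List ℤ} {nb od : List ℕ}
    {R : List (List ℤ)} {T : List (ℕ × ℕ)} (c0 : Cert0 D id Bs) (c1 : Cert1 D id Bs I nb)
    (c2 : Cert2 D id Bs od R T) {p : ℕ} (hp : p.Prime) (hp2 : p ≠ 2) {K : Type*} [Field K] [CharP K p]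
    {Γ : Type*} [Group Γ] [Finite Γ] (e : Γ ≃* D.group K) : H93.STD.NoSplit Γ :=
  noSplit_id (C := C) c0 c1 c2 hp hp2 e.toMonoidHom e.injective fun _ _ _ _ =>
    ⟨e.surjective _, e.surjective _⟩

theorem noSplit_exc : H93.STD.NoSplitFor.{u} IsExceptionalChevChar := by
  rintro p Γ _ _ hp hp2 ⟨F, _, _, _, ⟨-, ⟨e⟩⟩ | ⟨⟨e⟩⟩ | ⟨⟨e⟩⟩ | ⟨⟨e⟩⟩ | ⟨⟨e⟩⟩⟩
  · exact noSplit_chev (cert (by simp)) c0G2 c1G2 c2G2 hp hp2 e
  · exact noSplit_chev (cert (by simp)) c0F4 c1F4 c2F4 hp hp2 e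
  · exact noSplit_chev (cert (by simp)) c0E6 c1E6 c2E6 hp hp2 e
  · exact noSplit_chev (cert (by simp)) c0E7 c1E7 c2E7 hp hp2 e
  · exact noSplit_chev (cert (by simp)) c0E8 c1E8 c2E8 hp hp2 e

theorem noSplit_2E6 {p : ℕ} (hp : p.Prime) (hp2 : p ≠ 2) {K : Type*} [Field K] [Fintype K] [CharP K p]
    {q : ℕ} (hq : IsPrimePow q) (hK : Fintype.card K = q ^ 2) {Γ : Type*} [Group Γ] [Finite Γ]
    (e : Γ ≃* twistedE6 K q) : H93.STD.NoSplit Γ := by
  obtain ⟨φ, hφ, h2, -⟩ := exists_frob2 hq hK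
  let X := twE6 φ h2 hφ
  have key : ∀ r, r < chevE6.nroots ∧ piT grTE6 r = r ∧ etaT grTE6 r = 1 → ∀ s, φ s = s →
      cE6.wg K [(r, s)] ∈ (X.j.comp e.toMonoidHom).range := fun r hr s hs => by
    obtain ⟨x, hx⟩ := X.j_range.ge (E6_xg_mem φ h2 hr hs)
    exact ⟨e.symm x, by simpa using hx⟩
  have h3 : ∀ L ∈ [[71], [60], [44], [39]], ∃ r ∈ L, L = [r] ∧
      (r < chevE6.nroots ∧ piT grTE6 r = r ∧ etaT grTE6 r = 1) ∧ chevE6.neg r < chevE6.nroots ∧
      piT grTE6 (chevE6.neg r) = chevE6.neg r ∧ etaT grTE6 (chevE6.neg r) = 1 := by decide +kernel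
  refine noSplit_id (C := cE6) c0E6 c1E6 c2E6 hp hp2 (X.j.comp e.toMonoidHom)
    (X.j_inj.comp e.injective) fun L hL s hs => ?_
  obtain ⟨r, -, rfl, h4, h5⟩ := h3 L hL
  exact ⟨key _ h4 s (hs φ), key _ h5 s (hs φ)⟩

theorem noSplit_3D4 {p : ℕ} (hp : p.Prime) (hp2 : p ≠ 2) {K : Type*} [Field K] [Fintype K] [CharP K p]
    {q : ℕ} (hq : IsPrimePow q) (hK : Fintype.card K = q ^ 3) {Γ : Type*} [Group Γ] [Finite Γ]
    (e : Γ ≃* twistedD4 K q) : H93.STD.NoSplit Γ := by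
  obtain ⟨ψ, hψ, h3, -⟩ := exists_frob3 hq hK
  obtain ⟨ι, a, b, S, hι, h2, hab, hb, ha, hb', hS⟩ := exists_data p hp hp2 K
  let ι0 := algebraMap K (AlgebraicClosure K)
  obtain ⟨-, φ, hφ⟩ := exists_frob_ext ι0 hq hK
  let X := twD4 ψ h3 hψ
  have h7 : ∀ g, (sD4 φ).σ (cD4.V.fieldHom ι0 g) = cD4.V.fieldHom ι0 ((sD4 ψ).σ g) := fun g =>
    DFunLike.congr_fun (cD4.V.hom_ext (φ := (sD4 φ).σ.comp (cD4.V.fieldHom ι0))
      (ψ := (cD4.V.fieldHom ι0).comp (sD4 ψ).σ) fun r hr t => by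
        refine ((congrArg (sD4 φ).σ (cD4.V.fieldHom_xE ι0 r t)).trans ((sD4 φ).map r hr _)).trans
          (Eq.trans ?_ ((congrArg (cD4.V.fieldHom ι0) ((sD4 ψ).map r hr t)).trans
            (cD4.V.fieldHom_xE ι0 _ _)).symm)
        simp only [sD4, graphHom, map_mul, map_intCast, hφ, hψ, map_pow]
        rfl) g
  have key : ∀ g ∈ (tD4 ψ h3).G1,
      cD4.V.fieldHom ι0 g ∈ ((cD4.V.fieldHom ι0).comp (X.j.comp e.toMonoidHom)).range := fun g hg => by
    obtain ⟨x, hx⟩ := X.j_range.ge hg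
    exact ⟨e.symm x, by simp [hx]⟩
  have hη : ∀ r ∈ [23, 0, 18, 13, 12, 5, 10, 11], r < chevD4.nroots ∧ etaT grTD4a r = 1 := by
    decide +kernel
  have hπ : piT grTD4a 23 = 23 ∧ piT grTD4a 0 = 0 ∧ piT grTD4a 18 = 13 ∧ piT grTD4a 13 = 12 ∧
      piT grTD4a 12 = 18 ∧ piT grTD4a 5 = 10 ∧ piT grTD4a 10 = 11 ∧ piT grTD4a 11 = 5 ∧
      chevD4.neg 23 = 0 ∧ chevD4.neg 18 = 5 ∧ chevD4.neg 13 = 10 ∧ chevD4.neg 12 = 11 := by
    decide +kernel
  obtain ⟨p1, p2, p3, p4, p5, p6, p7, p8, n1, n2, n3, n4⟩ := hπ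
  have hm : ∀ r ∈ [23, 0, 18, 13, 12, 5, 10, 11], ∀ t, (sD4 φ).σ (cD4.xg _ r t) =
      cD4.xg _ (piT grTD4a r) (φ t) := fun r hr t => by
    rw [(sD4 φ).map r (hη r hr).1, sD4_f φ (hη r hr).2]
  have h8 : ∀ L ∈ [[23], [18, 13, 12]], ∀ t,
      (sD4 φ).σ (cD4.wg _ (L.map fun r => (r, t))) = cD4.wg _ (L.map fun r => (r, φ t)) ∧
      (sD4 φ).σ (cD4.wg _ (L.map fun r => (chevD4.neg r, t))) =
        cD4.wg _ (L.map fun r => (chevD4.neg r, φ t)) := fun L hL t => by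
    rcases List.mem_pair.1 hL with rfl | rfl
    · simp [hm, p1, p2, n1]
    · constructor
      · simpa [hm, p3, p4, p5, mul_assoc] using
          ((commute_xg (orthD4.1 18 (by simp) 13 (by simp)) _ _).mul_right
            (commute_xg (orthD4.2.1 18 (by simp) 12 (by simp)) _ _)).symm.eq
      · simpa [hm, p6, p7, p8, n2, n3, n4, mul_assoc] using
          ((commute_xg (orthD4.1 5 (by simp [n2]) 10 (by simp [n3])) _ _).mul_right
            (commute_xg (orthD4.2.1 5 (by simp [n2]) 11 (by simp [n4])) _ _)).symm.eq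
  refine noSplit_of_cert (C := cD4) c0D4 c1D4 c2D4 ((cD4.V.fieldHom ι0).comp (X.j.comp e.toMonoidHom))
    ((cD4.V.fieldHom_injective _).comp (X.j_inj.comp e.injective)) hι h2 hab hb S ha hb'
    (fun L hL t ht => ?_)
    (compTw (cD4.graphTw graphDataD4a twDataD4 φ) (cD4.graphTw graphDataD4a twDataD4 φ))
    (fun _ => rfl) (fun g => ?_) ?_ fun L hL t => ?_
  · obtain ⟨s, rfl, hs⟩ := hS t ht
    refine ⟨fieldHom_wg (C := cD4) ι0 L id s ▸ key _ ?_,
      fieldHom_wg (C := cD4) ι0 L chevD4.neg s ▸ key _ ?_⟩ <;> rcases List.mem_pair.1 hL with rfl | rfl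
    · simpa using D4_xg_mem ψ h3 ⟨(hη 23 (by simp)).1, p1, (hη 23 (by simp)).2⟩ (hs ψ)
    · simpa [hs ψ] using (D4_mem3 ψ h3 s).1
    · simpa [n1] using D4_xg_mem ψ h3 ⟨(hη 0 (by simp)).1, p2, (hη 0 (by simp)).2⟩ (hs ψ)
    · simpa [hs ψ] using (D4_mem3 ψ h3 s).2
  · have : (sD4 ψ).σ (X.j (e g)) = X.j (e g) := X.τ.G1_le_fix (X.j_mem _)
    show (sD4 φ).σ ((sD4 φ).σ (cD4.V.fieldHom ι0 (X.j (e g)))) = cD4.V.fieldHom ι0 (X.j (e g))
    rw [h7, this, h7, this]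
  · have : φ ι = ι ∨ φ ι = -ι := sq_eq_sq_iff_eq_or_eq_neg.1 (by rw [← map_pow, hι]; simp)
    rcases this with h | h <;> simp [h]
  · exact ⟨(congrArg (sD4 φ).σ (h8 L hL t).1).trans (h8 L hL _).1,
      (congrArg (sD4 φ).σ (h8 L hL t).2).trans (h8 L hL _).2⟩

theorem noSplit_tw : H93.STD.NoSplitFor.{u} IsTwistedE6D4Char := by
  rintro p Γ _ _ hp hp2 ⟨K, _, _, _, q, hq, ⟨hK, ⟨e⟩⟩ | ⟨hK, ⟨e⟩⟩⟩
  exacts [noSplit_2E6 hp hp2 hq hK e, noSplit_3D4 hp hp2 hq hK e]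

end Cfsg.Agent.H34.NS
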