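import Cfsg.Agent.H89.OlDefs

/-!
# OL-E5B: the integer lattice lemma
-/

set_option autoImplicit false

namespace Cfsg.Agent.H34.OlE

open Cfsg.Agent.H89.Ol

universe u

/-- the eight types of rows -/
def tb : Fin 3 → Fin 8 → ℤ :=
  ![![1, 2, 3, 2, -1, -2, -1, -2], ![1, 2, -1, -2, 3, 2, -1, -2], ![1, 2, -1, -2, -1, -2, 3, 2]]

/-- a sign -/
def sg (s : Bool) : ℤ := if s then 1 else -1

theorem sg_sq (s : Bool) : sg s * sg s = 1 := by cases s <;> rfl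

theorem bnd {a b c : ℤ} (h : a * a + b * b + c * c < 16) :
    (-3 ≤ a ∧ a ≤ 3) ∧ (-3 ≤ b ∧ b ≤ 3) ∧ (-3 ≤ c ∧ c ≤ 3) := by
  refine ⟨⟨?_, ?_⟩, ⟨?_, ?_⟩, ?_, ?_⟩ <;>
    nlinarith [mul_self_nonneg a, mul_self_nonneg b, mul_self_nonneg c]

theorem row1 (a b c : ℤ) (h : a * a + b * b + c * c < 16) : a ≠ 0 → b ≠ 0 → c ≠ 0 →
    4 ∣ a * a - b * b → 4 ∣ b * b - c * c →
    (a * a = 1 ∧ b * b = 1 ∧ c * c = 1) ∨ 11 ≤ a * a + b * b + c * c := by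
  obtain ⟨⟨a1, a2⟩, ⟨b1, b2⟩, c1, c2⟩ := bnd h
  interval_cases a <;> interval_cases b <;> interval_cases c <;> decide

theorem row2 (a b c : ℤ) (h : a * a + b * b + c * c < 16) : a ≠ 0 → b ≠ 0 → c ≠ 0 →
    4 ∣ a - b → 4 ∣ b - c →
    ∃ (s : Bool) (t : Fin 8), a = sg s * tb 0 t ∧ b = sg s * tb 1 t ∧ c = sg s * tb 2 t := by
  obtain ⟨⟨a1, a2⟩, ⟨b1, b2⟩, c1, c2⟩ := bnd h
  revert h
  interval_cases a <;> interval_cases b <;> interval_cases c <;> decide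

theorem fin1 (N s u v w : ℤ) (h : s ^ 2 ≤ 5 * N) (h2 : 2 ∣ N - s) :
    16 * (N + u ^ 2 + v ^ 2 + w ^ 2) -
      ((s + 3 * u - v - w) ^ 2 + (s - u + 3 * v - w) ^ 2 + (s - u - v + 3 * w) ^ 2) = 0 ∨
    8 ≤ 16 * (N + u ^ 2 + v ^ 2 + w ^ 2) -
      ((s + 3 * u - v - w) ^ 2 + (s - u + 3 * v - w) ^ 2 + (s - u - v + 3 * w) ^ 2) + 3 := by
  have e : 5 * (16 * (N + u ^ 2 + v ^ 2 + w ^ 2) -
      ((s + 3 * u - v - w) ^ 2 + (s - u + 3 * v - w) ^ 2 + (s - u - v + 3 * w) ^ 2)) =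
      16 * (5 * N - s ^ 2) + (s - 5 * (u + v + w)) ^ 2 := by ring
  generalize 16 * (N + u ^ 2 + v ^ 2 + w ^ 2) -
      ((s + 3 * u - v - w) ^ 2 + (s - u + 3 * v - w) ^ 2 + (s - u - v + 3 * w) ^ 2) = q at e ⊢
  have h3 : 2 ∣ s ^ 2 - s := by
    have := (Int.even_mul_pred_self s).two_dvd
    rwa [show s * (s - 1) = s ^ 2 - s by ring] at this
  by_cases h0 : s ^ 2 = 5 * N
  · have h5 : (5 : ℤ) ∣ s := Int.Prime.dvd_pow' (p := 5) (by norm_num) ⟨N, h0⟩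
    obtain ⟨t, rfl⟩ := h5
    have e2 : q = 5 * (t - (u + v + w)) ^ 2 := by nlinarith
    generalize t - (u + v + w) = z at e2
    by_cases hz : z = 0
    · left
      rw [e2, hz]; rfl
    · right
      have : 0 < z ^ 2 := by positivity
      omega
  · right
    have := sq_nonneg (s - 5 * (u + v + w))
    omega

theorem fin2 (N s u v w : ℤ) (h : s ^ 2 ≤ 4 * N) :
    16 * (N + u ^ 2 + v ^ 2 + w ^ 2) - ((s + 2 * u - 2 * v - 2 * w) ^ 2 +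
      (s - 2 * u + 2 * v - 2 * w) ^ 2 + (s - 2 * u - 2 * v + 2 * w) ^ 2) = 0 ∨
    7 ≤ 16 * (N + u ^ 2 + v ^ 2 + w ^ 2) - ((s + 2 * u - 2 * v - 2 * w) ^ 2 +
      (s - 2 * u + 2 * v - 2 * w) ^ 2 + (s - 2 * u - 2 * v + 2 * w) ^ 2) + 3 := by
  have e : 16 * (N + u ^ 2 + v ^ 2 + w ^ 2) - ((s + 2 * u - 2 * v - 2 * w) ^ 2 +
      (s - 2 * u + 2 * v - 2 * w) ^ 2 + (s - 2 * u - 2 * v + 2 * w) ^ 2) =
      4 * (4 * N - s ^ 2) + (s + 2 * (u + v + w)) ^ 2 := by ring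
  rw [e]
  by_cases h0 : s ^ 2 = 4 * N
  · have h5 : (2 : ℤ) ∣ s := Int.Prime.dvd_pow' (p := 2) (k := 2) (by norm_num)
      ⟨2 * N, by rw [h0]; push_cast; ring⟩
    obtain ⟨t, rfl⟩ := h5
    have e2 : (2 * t + 2 * (u + v + w)) ^ 2 = 4 * (t + (u + v + w)) ^ 2 := by ring
    rw [e2, h0]
    generalize t + (u + v + w) = z
    by_cases hz : z = 0
    · left
      rw [hz]; ring
    · right
      have : 0 < z ^ 2 := by positivity
      omega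
  · right
    have := sq_nonneg (s + 2 * (u + v + w))
    omega

theorem cnt (n0 n1 n2 n3 n4 n5 n6 n7 : ℕ) (h1 : (n2 : ℤ) = n4) (h2 : (n2 : ℤ) = n6)
    (h3 : (n3 : ℤ) = n5) (h4 : (n3 : ℤ) = n7) (h5 : (n2 : ℤ) + n3 = 1)
    (h6 : (n0 : ℤ) + 4 * n1 = 4 + n2)
    (h7 : (7 : ℤ) ≤ n0 + n1 + n2 + n3 + n4 + n5 + n6 + n7) :
    (n0 = 5 ∧ n1 = 0 ∧ n2 = 1 ∧ n3 = 0 ∧ n4 = 1 ∧ n5 = 0 ∧ n6 = 1 ∧ n7 = 0) ∨
      (n0 = 4 ∧ n1 = 0 ∧ n2 = 0 ∧ n3 = 1 ∧ n4 = 0 ∧ n5 = 1 ∧ n6 = 0 ∧ n7 = 1) := by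
  rcases (by omega : n2 = 1 ∨ n2 = 0) with h | h
  · left
    omega
  · right
    omega

theorem core {ι : Type*} (X : Finset ι) (τ : ι → Fin 8) (y : ι → ℤ)
    (h : ∀ i j, ∑ x ∈ X, tb i (τ x) * tb j (τ x) = if i = j then 16 else 0) (h7 : 7 ≤ X.card) :
    qf X (fun i x => tb i (τ x)) y = 0 ∨ (X.card : ℤ) ≤ qf X (fun i x => tb i (τ x)) y + 3 := by
  classical
  have fib : ∀ (g : Fin 8 → ℤ) (z : ι → ℤ), ∑ x ∈ X, z x * g (τ x) =
      ∑ t, g t * ∑ x ∈ X.filter (τ · = t), z x := by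
    intro g z
    rw [← Finset.sum_fiberwise (s := X) (g := τ)]
    refine Finset.sum_congr rfl fun t _ => ?_
    rw [Finset.mul_sum]
    refine Finset.sum_congr rfl fun x hx => ?_
    rw [(Finset.mem_filter.1 hx).2, mul_comm]
  obtain ⟨n, hn⟩ : ∃ n : Fin 8 → ℕ, ∀ t, n t = (X.filter (τ · = t)).card := ⟨_, fun _ => rfl⟩
  obtain ⟨s, hs⟩ : ∃ s : Fin 8 → ℤ, ∀ t, s t = ∑ x ∈ X.filter (τ · = t), y x :=
    ⟨_, fun _ => rfl⟩
  obtain ⟨N, hN⟩ : ∃ N : Fin 8 → ℤ, ∀ t, N t = ∑ x ∈ X.filter (τ · = t), y x * y x :=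
    ⟨_, fun _ => rfl⟩
  have e1 : ∀ i j, ∑ t, tb i t * tb j t * (n t : ℤ) = if i = j then 16 else 0 := by
    intro i j
    have := fib (fun t => tb i t * tb j t) fun _ => 1
    simp only [one_mul, Finset.sum_const, nsmul_eq_mul, mul_one, ← hn] at this
    rw [← this, h]
  have e2 : (X.card : ℤ) = ∑ t, (n t : ℤ) := by
    have := fib (fun _ => 1) fun _ => 1
    simpa only [one_mul, Finset.sum_const, nsmul_eq_mul, mul_one, ← hn] using this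
  have e3 : qf X (fun i x => tb i (τ x)) y = 16 * ∑ t, N t - ∑ i, (∑ t, tb i t * s t) ^ 2 := by
    have := fib (fun _ => 1) fun x => y x * y x
    simp only [one_mul, mul_one, ← hN] at this
    simp only [qf, this, fib, ← hs]
  have z0 : ∀ t, n t = 0 → s t = 0 ∧ N t = 0 := by
    intro t ht
    rw [hn, Finset.card_eq_zero] at ht
    rw [hs, hN, ht]
    simp
  have z1 : ∀ t, n t = 1 → N t = s t ^ 2 := by
    intro t ht
    rw [hn, Finset.card_eq_one] at ht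
    obtain ⟨x, hx⟩ := ht
    rw [hs, hN, hx, Finset.sum_singleton, Finset.sum_singleton, sq]
  have z2 : s 0 ^ 2 ≤ n 0 * N 0 := by
    rw [hs, hN, hn]
    simpa only [sq] using sq_sum_le_card_mul_sum_sq (s := X.filter (τ · = 0)) (f := y)
  have z3 : 2 ∣ N 0 - s 0 := by
    rw [hs, hN, ← Finset.sum_sub_distrib]
    refine Finset.dvd_sum fun x _ => ?_
    have := (Int.even_mul_pred_self (y x)).two_dvd
    rwa [show y x * (y x - 1) = y x * y x - y x by ring] at this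
  have a00 := e1 0 0
  have a11 := e1 1 1
  have a22 := e1 2 2
  have a01 := e1 0 1
  have a02 := e1 0 2
  have a12 := e1 1 2
  simp [Fin.sum_univ_eight, tb] at a00 a11 a22 a01 a02 a12
  rw [Fin.sum_univ_eight] at e2
  have hc : (n 0 = 5 ∧ n 1 = 0 ∧ n 2 = 1 ∧ n 3 = 0 ∧ n 4 = 1 ∧ n 5 = 0 ∧ n 6 = 1 ∧ n 7 = 0) ∨
      (n 0 = 4 ∧ n 1 = 0 ∧ n 2 = 0 ∧ n 3 = 1 ∧ n 4 = 0 ∧ n 5 = 1 ∧ n 6 = 0 ∧ n 7 = 1) := by
    refine cnt _ _ _ _ _ _ _ _ ?_ ?_ ?_ ?_ ?_ ?_ ?_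
    · linarith
    · linarith
    · linarith
    · linarith
    · linarith
    · linarith
    · have : (7 : ℤ) ≤ X.card := by exact_mod_cast h7
      linarith
  rw [e3, e2]
  simp only [Fin.sum_univ_eight, Fin.sum_univ_three]
  rcases hc with ⟨n0, n1, n2, n3, n4, n5, n6, n7⟩ | ⟨n0, n1, n2, n3, n4, n5, n6, n7⟩
  · rw [n0] at z2
    have := fin1 (N 0) (s 0) (s 2) (s 4) (s 6) (by exact_mod_cast z2) z3
    rw [n0, n1, n2, n3, n4, n5, n6, n7, (z0 _ n1).1, (z0 _ n1).2, (z0 _ n3).1, (z0 _ n3).2,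
      (z0 _ n5).1, (z0 _ n5).2, (z0 _ n7).1, (z0 _ n7).2, z1 _ n2, z1 _ n4, z1 _ n6]
    simp [tb]
    convert this using 2 <;> ring
  · rw [n0] at z2
    have := fin2 (N 0) (s 0) (s 3) (s 5) (s 7) (by exact_mod_cast z2)
    rw [n0, n1, n2, n3, n4, n5, n6, n7, (z0 _ n1).1, (z0 _ n1).2, (z0 _ n2).1, (z0 _ n2).2,
      (z0 _ n4).1, (z0 _ n4).2, (z0 _ n6).1, (z0 _ n6).2, z1 _ n3, z1 _ n5, z1 _ n7]
    simp [tb]
    convert this using 2 <;> ring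

theorem e5b : E5BStmt.{u} := by
  intro ι X d h
  classical
  by_cases h7 : X.card ≤ 6
  · exact Or.inl h7
  right
  intro y
  have hlt : ∀ x ∈ X, d 0 x * d 0 x + d 1 x * d 1 x + d 2 x * d 2 x < 16 := fun x hx => by
    simpa only [Fin.sum_univ_three] using h.lt x hx
  obtain ⟨x₀, hx₀, e⟩ : ∃ x ∈ X, ∀ i, d i x * d i x = 1 := by
    by_contra hne
    have h1 : ∀ x ∈ X, 11 ≤ d 0 x * d 0 x + d 1 x * d 1 x + d 2 x * d 2 x := by
      intro x hx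
      refine (row1 _ _ _ (hlt x hx) (h.ne x hx 0) (h.ne x hx 1) (h.ne x hx 2)
        (h.cong x hx x hx 0 1) (h.cong x hx x hx 1 2)).resolve_left fun e => hne ⟨x, hx, ?_⟩
      intro i
      fin_cases i
      · exact e.1
      · exact e.2.1
      · exact e.2.2
    have h2 := Finset.card_nsmul_le_sum X _ _ h1
    rw [Finset.sum_add_distrib, Finset.sum_add_distrib, h.orth, h.orth, h.orth] at h2
    simp only [if_true, nsmul_eq_mul] at h2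
    omega
  have sq : ∀ i x, d i x₀ * d i x * (d i x₀ * d i x) = d i x * d i x := fun i x => by
    rw [mul_mul_mul_comm, e, one_mul]
  have ne0 : ∀ x ∈ X, ∀ i, d i x₀ * d i x ≠ 0 := fun x hx i =>
    mul_ne_zero (h.ne _ hx₀ i) (h.ne x hx i)
  have ex : ∀ x, ∃ (s : Bool) (t : Fin 8), x ∈ X → ∀ i, d i x = d i x₀ * (sg s * tb i t) := by
    intro x
    by_cases hx : x ∈ X
    · obtain ⟨s, t, h0, h1, h2⟩ := row2 (d 0 x₀ * d 0 x) (d 1 x₀ * d 1 x) (d 2 x₀ * d 2 x)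
        (by rw [sq, sq, sq]; exact hlt x hx) (ne0 x hx 0) (ne0 x hx 1) (ne0 x hx 2)
        (h.cong _ hx₀ x hx 0 1) (h.cong _ hx₀ x hx 1 2)
      refine ⟨s, t, fun _ i => ?_⟩
      have h3 : d i x₀ * d i x = sg s * tb i t := by
        fin_cases i
        · exact h0
        · exact h1
        · exact h2
      rw [← h3, ← mul_assoc, e, one_mul]
    · exact ⟨true, 0, fun h => (hx h).elim⟩
  choose σ τ hτ using ex
  have hq : qf X d y = qf X (fun i x => tb i (τ x)) fun x => sg (σ x) * y x := by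
    unfold qf
    congr 1
    · congr 1
      refine Finset.sum_congr rfl fun x _ => ?_
      rw [mul_mul_mul_comm, sg_sq, one_mul]
    · refine Finset.sum_congr rfl fun i _ => ?_
      have h1 : ∑ x ∈ X, y x * d i x = d i x₀ * ∑ x ∈ X, sg (σ x) * y x * tb i (τ x) := by
        rw [Finset.mul_sum]
        refine Finset.sum_congr rfl fun x hx => ?_
        rw [hτ x hx i]
        ring
      rw [h1, mul_pow, pow_two (d i x₀), e, one_mul]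
  rw [hq]
  refine core X τ _ (fun i j => ?_) (by omega)
  have h1 : ∑ x ∈ X, tb i (τ x) * tb j (τ x) = d i x₀ * d j x₀ * ∑ x ∈ X, d i x * d j x := by
    rw [Finset.mul_sum]
    refine Finset.sum_congr rfl fun x hx => ?_
    rw [hτ x hx i, hτ x hx j]
    linear_combination (-(tb i (τ x) * tb j (τ x))) * sg_sq (σ x) -
      (sg (σ x) * sg (σ x) * tb i (τ x) * tb j (τ x)) * e i -
      (d i x₀ * d i x₀ * sg (σ x) * sg (σ x) * tb i (τ x) * tb j (τ x)) * e j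
  rw [h1, h.orth]
  split_ifs with hij
  · rw [hij, e, one_mul]
  · rw [mul_zero]

end Cfsg.Agent.H34.OlE
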