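import Cfsg.Agent.H42.PcDefs

/-! Project PC: counting the `2`-elements of a coset. -/

set_option autoImplicit false

namespace Cfsg.Agent.H34.PcCnt

open Subgroup Cfsg.Agent.H42.Pc

universe u

theorem exN (k m : ℕ) (hm : Odd m) : ∃ e : ℕ, 2 ^ k * e ≡ 1 [MOD m] := by
  have hc : Nat.Coprime (2 ^ k) m := Nat.Coprime.pow_left _ ((Nat.coprime_two_left).2 hm)
  have h := Nat.ModEq.pow_totient hc
  have hp : 0 < Nat.totient m := Nat.totient_pos.2 hm.pos
  refine ⟨(2 ^ k) ^ (Nat.totient m - 1), ?_⟩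
  rw [← pow_succ', Nat.sub_add_cancel hp]
  exact h

variable {G : Type u} [Group G]

theorem uniq {a b g h : G} (ha : Two a) (hb : Two b) (cg : Commute g a) (ch : Commute h b)
    (og : Odd (orderOf g)) (oh : Odd (orderOf h)) (e : a * g = b * h) : g = h := by
  obtain ⟨i, hi⟩ := ha
  obtain ⟨j, hj⟩ := hb
  have a1 : a ^ 2 ^ (i + j) = 1 := by rw [pow_add, pow_mul, hi, one_pow]
  have b1 : b ^ 2 ^ (i + j) = 1 := by rw [add_comm, pow_add, pow_mul, hj, one_pow]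
  have e1 : g ^ 2 ^ (i + j) = h ^ 2 ^ (i + j) := by
    have := congrArg (· ^ 2 ^ (i + j)) e
    simp only [cg.symm.mul_pow, ch.symm.mul_pow, a1, b1, one_mul] at this
    exact this
  obtain ⟨n, hn⟩ := exN (i + j) _ (og.mul oh)
  have g1 : g ^ (2 ^ (i + j) * n) = g ^ 1 :=
    pow_eq_pow_iff_modEq.2 (hn.of_mul_right _)
  have h1 : h ^ (2 ^ (i + j) * n) = h ^ 1 :=
    pow_eq_pow_iff_modEq.2 (hn.of_mul_left _)
  rw [pow_mul, pow_one] at g1 h1
  rw [← g1, ← h1, e1]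

theorem ex [Finite G] (S : Subgroup G) (x : G) (hx : x * x ∈ S) :
    ∃ g ∈ S, Two (x * g⁻¹) ∧ Commute g (x * g⁻¹) ∧ Odd (orderOf g) := by
  obtain ⟨k, m, hm, e⟩ := Nat.exists_eq_two_pow_mul_odd (orderOf_pos x).ne'
  obtain ⟨n, hn⟩ := exN (k + 1) m hm
  have cx : Commute (x ^ (2 ^ (k + 1) * n)) x := Commute.pow_self x _
  refine ⟨x ^ (2 ^ (k + 1) * n), ?_, ⟨k, ?_⟩, cx.mul_right (Commute.refl _).inv_right, ?_⟩
  · have : x ^ (2 ^ (k + 1) * n) = (x * x) ^ (2 ^ k * n) := by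
      rw [← pow_two, ← pow_mul]
      congr 1
      ring
    rw [this]
    exact S.pow_mem hx _
  · rw [cx.symm.inv_right.mul_pow, inv_pow, mul_inv_eq_one, ← pow_mul, pow_eq_pow_iff_modEq, e]
    have := (hn.mul_left' (c := 2 ^ k)).symm
    rw [mul_one, mul_comm (2 ^ k) (2 ^ (k + 1) * n)] at this
    exact this
  · refine Odd.of_dvd_nat hm (orderOf_dvd_of_pow_eq_one ?_)
    rw [← pow_mul, ← orderOf_dvd_iff_pow_eq_one, e]
    exact ⟨2 * n, by ring⟩

theorem cnt : CntStmt.{u} := by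
  intro G _ _ S _ y l hy hl
  classical
  let f : (Σ z : {y' : G // y⁻¹ * y' ∈ S ∧ Two y'},
      {g : G // g ∈ S ∧ Commute g z.1 ∧ Odd (orderOf g)}) → S :=
    fun p => ⟨y⁻¹ * p.1.1 * p.2.1, S.mul_mem p.1.2.1 p.2.2.1⟩
  have hf : Function.Bijective f := by
    constructor
    · rintro ⟨⟨a, ha⟩, ⟨g, hg⟩⟩ ⟨⟨b, hb⟩, ⟨h, hh⟩⟩ e
      have e1 : y⁻¹ * a * g = y⁻¹ * b * h := congrArg Subtype.val e
      have e2 : a * g = b * h := by
        rw [mul_assoc, mul_assoc] at e1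
        exact mul_left_cancel e1
      have e3 : g = h := uniq ha.2 hb.2 hg.2.1 hh.2.1 hg.2.2 hh.2.2 e2
      subst e3
      have e4 : a = b := mul_right_cancel e2
      subst e4
      rfl
    · rintro ⟨s, hs⟩
      have hx : (y * s) * (y * s) ∈ S := by
        have : (y * s) * (y * s) = (y * s * y⁻¹) * (y * y) * (y⁻¹ * (y * s)) := by group
        rw [this]
        refine S.mul_mem (S.mul_mem (Subgroup.Normal.conj_mem ‹_› s hs y) hy) ?_
        rw [inv_mul_cancel_left]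
        exact hs
      obtain ⟨g, hg, t, c, o⟩ := ex S (y * s) hx
      refine ⟨⟨⟨y * s * g⁻¹, ?_, t⟩, ⟨g, hg, c, o⟩⟩, Subtype.ext ?_⟩
      · rw [mul_assoc, inv_mul_cancel_left]
        exact S.mul_mem hs (S.inv_mem hg)
      · show y⁻¹ * (y * s * g⁻¹) * g = s
        group
  haveI := Fintype.ofFinite {y' : G // y⁻¹ * y' ∈ S ∧ Two y'}
  rw [← Nat.card_eq_of_bijective f hf, Nat.card_sigma, Finset.sum_congr rfl
    (fun z _ => hl z.1 z.2.1 z.2.2)]
  simp [Nat.card_eq_fintype_card]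

end Cfsg.Agent.H34.PcCnt
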