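import Mathlib
import Cfsg.Agent.H34.SSC
import Cfsg.Agent.H50.E83Defs

/-!
Semisimple elements of a finite Chevalley group with trivial rational centre that are conjugate
over the algebraic closure are conjugate.
-/

set_option autoImplicit false

namespace Cfsg.Agent.H34

open Equiv Cfsg.Lie Cfsg.Agent.H37 Cfsg.Agent.H40 Finset
open scoped Matrix

theorem Cert.isConj_of_isConj {D : ChevalleyDatum} (C : Cert D) {e : ℕ} {B : List (List ℤ)}
    (he : InvCert D e B) (he0 : e ≠ 0) {F k : Type*} [Field F] [Fintype F] [Field k]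
    [IsAlgClosed k] (ι : F →+* k) {q : ℕ} (hq : Fintype.card F = q) (hc : e.Coprime (q - 1))
    (p : ℕ) [hp : Fact p.Prime] [CharP F p] {x y : D.group F} (hx : (orderOf x).Coprime p)
    (hy : (orderOf y).Coprime p) (hxy : IsConj (C.V.fieldHom ι x) (C.V.fieldHom ι y)) :
    IsConj x y := by
  classical
  have := Fintype.ofFinite C.S.W
  have hk : CharP k p := charP_of_injective_ringHom ι.injective p
  obtain ⟨n, -, hn⟩ := FiniteField.card F p
  have hq2 : 2 ≤ q := hq ▸ Fintype.one_lt_card
  have hq0 : (q : k) = 0 := by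
    rw [← hq, hn, Nat.cast_pow, CharP.cast_eq_zero, zero_pow n.ne_zero]
  have hfr : Function.Injective fun c : Fin D.rank → kˣ => c ^ q := fun c d h => funext fun i => by
    have := congrArg Units.val (congrFun h i)
    simp only [Pi.pow_apply, Units.val_pow_eq_pow_val, ← hq, hn] at this
    exact Units.ext ((iterateFrobenius k p n).injective this)
  have h1 : ∀ c : {c : Fin D.rank → kˣ // ∃ w, pull (C.mat w) c = c ^ q},
      ∃ g : D.group F, IsConj (C.tg k c) (C.V.fieldHom ι g) := fun c =>
    C.exists_conj_tg he ι hq hc c.2.choose_spec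
  choose g hg using h1
  have h2 : ∀ c, (orderOf (g c)).Coprime p := fun c => by
    rw [Nat.coprime_comm, hp.out.coprime_iff_not_dvd]
    rintro ⟨m, hm⟩
    have e1 : orderOf (C.tg k c) = p * m := by
      obtain ⟨x, hx⟩ := isConj_iff.1 (hg c)
      rw [← hm, ← orderOf_injective _ (C.V.fieldHom_injective ι), ← hx, ← MulAut.conj_apply,
        MulEquiv.orderOf_eq]
    have hm0 : m ≠ 0 := fun h => (orderOf_pos (g c)).ne' (by rw [hm, h, mul_zero])
    have e2 : C.tg k (c.1 ^ m) = 1 := by
      have : C.tg k ((c.1 ^ m) ^ p) = 1 := by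
        rw [← pow_mul, map_pow, mul_comm, ← e1, pow_orderOf_eq_one]
      rw [tg_eq_one_iff] at this ⊢
      intro j
      have h3 := congrArg Units.val (this j)
      rw [torChar_eq_evw, evw_pow, Units.val_pow_eq_pow_val, Units.val_one] at h3
      exact Units.ext ((frobenius k p).injective (by rw [frobenius_def, frobenius_def, Units.val_one, one_pow]; exact h3))
    rw [map_pow] at e2
    have := Nat.le_of_dvd (Nat.pos_of_ne_zero hm0) (e1 ▸ orderOf_dvd_of_pow_eq_one e2)
    have := hp.out.two_le
    nlinarith [Nat.pos_of_ne_zero hm0]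
  let φ : {κ : ConjClasses (D.group F) // ∃ g, ConjClasses.mk g = κ ∧ (orderOf g).Coprime p} →
      ConjClasses (D.group k) := fun κ => ConjClasses.map (C.V.fieldHom ι) κ
  obtain ⟨h3, h4⟩ := card_sigma_le (fun w c => pull (C.mat w) c)
    (fun a b c => by rw [C.mat_mul he he0, pull_mul]) _ hfr (K := Set.range φ)
    (fun c => ⟨_, ⟨_, g c, rfl, h2 c⟩, rfl⟩) (fun c c' h => by
      have h5 : IsConj (C.V.fieldHom ι (g c)) (C.V.fieldHom ι (g c')) :=
        ConjClasses.mk_eq_mk_iff_isConj.1 (congrArg Subtype.val h)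
      exact C.exists_pull_of_isConj he he0 hc (by omega) c.2.choose_spec c'.2.choose_spec
        ((hg c').trans (h5.symm.trans (hg c).symm)))
  have h5 : ∀ w, Finite {c : Fin D.rank → kˣ // pull (C.mat w) c = c ^ q} := fun w =>
    Finite.of_injective (β := Σ w, {c : Fin D.rank → kˣ // pull (C.mat w) c = c ^ q})
      (fun c => ⟨w, c⟩) fun _ _ h => eq_of_heq (Sigma.mk.inj h).2
  have h6 : ∀ w, ((q : ℤ) • (1 : Matrix (Fin D.rank) (Fin D.rank) ℤ) - C.mat w).det ≤
      Nat.card {c : Fin D.rank → kˣ // pull (C.mat w) c = c ^ q} := fun w => by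
    set A := (q : ℤ) • (1 : Matrix (Fin D.rank) (Fin D.rank) ℤ) - C.mat w with hA
    have e1 : ∀ c : Fin D.rank → kˣ, (∀ i, evw c (fun j => A j i) = 1) ↔
        pull (C.mat w) c = c ^ q := fun c => by
      rw [funext_iff]
      refine forall_congr' fun i => ?_
      have : (fun j => A j i) = (q : ℤ) • Pi.single i 1 + (-1 : ℤ) • fun j => C.mat w j i := by
        funext j
        simp [hA, Matrix.natCast_apply, Pi.single_apply, sub_eq_add_neg]
      rw [this, evw_add, evw_smul, evw_smul, evw_single, ← pull_apply, zpow_neg_one,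
        mul_inv_eq_one, zpow_natCast, eq_comm, Pi.pow_apply]
    let e2 := Equiv.subtypeEquivRight e1
    have := Finite.of_equiv _ e2.symm
    have h7 : ((A.det : ℤ) : k) ≠ 0 := by
      have e3 : ((A.det : ℤ) : k) = (-(Int.castRingHom k).mapMatrix (C.mat w)).det := by
        rw [← eq_intCast (Int.castRingHom k), RingHom.map_det, hA, map_sub, map_zsmul,
          natCast_zsmul, ← Nat.cast_smul_eq_nsmul k, hq0, zero_smul, zero_sub]
      have e4 : (Int.castRingHom k).mapMatrix (C.mat w) *
          (Int.castRingHom k).mapMatrix (C.mat w⁻¹) = 1 := by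
        rw [← map_mul, ← C.mat_mul he he0, mul_inv_cancel, C.mat_one he he0, map_one]
      rw [e3, Matrix.det_neg]
      exact mul_ne_zero (pow_ne_zero _ (neg_ne_zero.2 one_ne_zero))
        (Matrix.isUnit_det_of_right_inverse e4).ne_zero
    have h8 := natAbs_det_le_card A h7
    rw [Nat.card_congr e2] at h8
    exact (Int.le_natAbs).trans (by exact_mod_cast h8)
  have h7 : q ^ D.rank ≤ Nat.card (Set.range φ) := by
    have h8 := Finset.sum_le_sum fun w (_ : w ∈ Finset.univ) => h6 w
    rw [C.sum_det_mat he he0, ← Nat.cast_sum, ← Nat.card_sigma] at h8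
    have h9 : Fintype.card C.S.W * q ^ D.rank ≤ Nat.card (Set.range φ) * Nat.card C.S.W :=
      le_trans (by exact_mod_cast h8) h4
    rw [Nat.card_eq_fintype_card (α := C.S.W), mul_comm] at h9
    exact Nat.le_of_mul_le_mul_right h9 Fintype.card_pos
  have h8 := C.card_classes_le F p
  rw [hq] at h8
  have h9 := ((Set.rangeFactorization_surjective (f := φ)).bijective_of_nat_card_le
    (h8.trans h7)).1
  have h10 := @h9 ⟨_, x, rfl, hx⟩ ⟨_, y, rfl, hy⟩
    (Subtype.ext (ConjClasses.mk_eq_mk_iff_isConj.2 hxy))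
  exact ConjClasses.mk_eq_mk_iff_isConj.1 (congrArg Subtype.val h10)

open H50.E83 in
theorem conjE83 (g g' : G0) (h : (orderOf g).Coprime 3) (hc : IsConj (ι g) (ι g')) :
    IsConj g g' := by
  have : Fact (Nat.Prime 3) := ⟨Nat.prime_three⟩
  refine C8.isConj_of_isConj invE8 one_ne_zero (algebraMap (ZMod 3) K) (ZMod.card 3) (by decide) 3
    h ?_ hc
  obtain ⟨x, hx⟩ := isConj_iff.1 hc
  rwa [← orderOf_injective ι ι_injective, ← hx, ← MulAut.conj_apply, MulEquiv.orderOf_eq,
    orderOf_injective ι ι_injective]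

end Cfsg.Agent.H34
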