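/-
No `p`-local maximal subgroups of `²E₆(2)` for `p > 5`.
-/
import Mathlib
import Cfsg.Agent.H34.FrC

set_option autoImplicit false
set_option synthInstance.maxSize 1000
set_option synthInstance.maxHeartbeats 200000

namespace Cfsg.Agent.H34

open Equiv Cfsg.Lie Cfsg.Agent.H37 Cfsg.Agent.H40 Cert

/-- A function given by a table. -/
def tbl (T : List ℕ) (r : ℕ) : ℕ := T.getD r 0

variable {K : Type*} [Field K] [Fintype K] (hK : Fintype.card K = 4)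
include hK

theorem exists_frT {l T : List ℕ}
    (h : (∀ i ∈ l, i < 6) ∧ ∀ r < 72, pfE6 l r = tbl T r) (p : ℕ) (hp : ¬ 2 ∣ p) :
    ∃ (_ : CharP (AlgebraicClosure K) 2) (_ : IsSimpleGroup (twistedE6 K 2))
      (ζ : (AlgebraicClosure K)ˣ) (π : Perm (Fin chevE6.nroots))
      (_ : Fr cE6 (AlgebraicClosure K) π (twistedE6 K 2)), IsPrimitiveRoot ζ p ∧
      ∀ r, (π r : ℕ) = tbl T r := by
  have := charP_of_card_four hK
  obtain ⟨π, F, h1, -⟩ := exists_frE6 hK (algebraMap K (AlgebraicClosure K)) h.1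
  obtain ⟨ζ, hζ, -⟩ := exists_prim_unit (AlgebraicClosure K) (N := p) (by
    rwa [Ne, CharP.cast_eq_zero_iff _ 2])
  exact ⟨inferInstance, (S1070.result (q := 2) Nat.prime_two.isPrimePow hK).1, ζ, π, F, hζ,
    fun r => (h1 r).trans (h.2 r r.2)⟩

theorem finite_twE6_two : Finite (twistedE6 K 2) :=
  Nat.finite_of_card_ne_zero (by rw [card_twE6_two hK]; norm_num)

/-- A permutation of the roots. -/
def pT13 : List ℕ := [4, 9, 10, 14, 41, 7, 12, 36, 13, 38, 49, 15, 45, 54, 55, 52, 0, 2, 20, 3, 21, 29, 1, 18, 27, 28, 8, 25, 39, 40, 5, 23, 34, 6, 24, 11, 60, 47, 65, 37, 48, 66, 31, 32, 46, 63, 43, 44, 53, 70, 42, 50, 68, 51, 69, 71, 19, 16, 17, 26, 56, 22, 33, 58, 35, 59, 64, 30, 57, 61, 62, 67]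

theorem loc13 {P : Subgroup (twistedE6 K 2)} (hP : IsPGroup 13 P) (hP1 : P ≠ ⊥) :
    ¬ IsCoatom (Subgroup.normalizer (P : Set (twistedE6 K 2))) := by
  have := finite_twE6_two hK
  have : Fact (Nat.Prime 13) := ⟨by norm_num⟩
  obtain ⟨_, _, ζ, π, F, hζ, hpf⟩ := exists_frT hK (l := [5, 4, 3, 2, 1, 3, 4, 5, 3, 4])
    (T := pT13) (by decide +kernel) 13 (by norm_num)
  have h0 : ∀ r < chevE6.nroots, ¬ ((13 : ℕ) : ℤ) ∣ rval chevE6 [0, 2, 4, 11, 1, 0] r := by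
    decide +kernel
  obtain ⟨x, h1, h2⟩ := F.exists_prime hpf (by norm_num) hζ (m := [0, 2, 4, 11, 1, 0])
    (by decide +kernel)
  refine not_isCoatom_of_zpowers h1 (by rw [card_twE6_two hK]; norm_num) ?_ hP hP1
  exact F.not_isCoatom_four hpf (h1 ▸ this.out) h2 (fun r => by
    rw [torChar_zpow, Ne, hζ.zpow_eq_one_iff_dvd]; exact h0 r r.2)
    (F.Y_ne_bot hpf (m := [0, 3, 3, 6, 6, 6]) (by decide +kernel))
    (J := [1, 2, 3, 4]) (v := [4, 3]) (O := [39]) (O' := [53]) (by decide +kernel)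
    (X := [(46, [0, 0, 0, -1, 1, 0], []), (42, [0, 0, 1, 1, 0, 0], []), (39, [0, 1, -1, 0, -1, 0], []), (37, [0, -1, 1, 1, 1, 0], [])]) (by decide +kernel)

/-- A permutation of the roots. -/
def pT17 : List ℕ := [36, 41, 54, 45, 9, 49, 38, 4, 52, 12, 7, 55, 14, 10, 15, 13, 65, 60, 20, 68, 34, 23, 63, 27, 18, 31, 70, 39, 25, 43, 66, 29, 21, 71, 47, 69, 2, 24, 0, 50, 42, 5, 28, 46, 32, 1, 40, 53, 44, 8, 48, 37, 3, 51, 11, 6, 58, 56, 61, 57, 16, 64, 59, 19, 67, 33, 22, 62, 26, 17, 30, 35]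

theorem loc17 {P : Subgroup (twistedE6 K 2)} (hP : IsPGroup 17 P) (hP1 : P ≠ ⊥) :
    ¬ IsCoatom (Subgroup.normalizer (P : Set (twistedE6 K 2))) := by
  have := finite_twE6_two hK
  have : Fact (Nat.Prime 17) := ⟨by norm_num⟩
  obtain ⟨_, _, ζ, π, F, hζ, hpf⟩ := exists_frT hK (l := [5, 4, 3, 2, 1, 3, 4, 5, 3, 0, 2, 1, 3, 4, 1, 3, 0, 2, 0])
    (T := pT17) (by decide +kernel) 17 (by norm_num)
  have h0 : ∀ r < chevE6.nroots, ¬ ((17 : ℕ) : ℤ) ∣ rval chevE6 [0, 9, 15, 14, 1, 0] r := by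
    decide +kernel
  obtain ⟨x, h1, h2⟩ := F.exists_prime hpf (by norm_num) hζ (m := [0, 9, 15, 14, 1, 0])
    (by decide +kernel)
  refine not_isCoatom_of_zpowers h1 (by rw [card_twE6_two hK]; norm_num) ?_ hP hP1
  exact F.not_isCoatom_four hpf (h1 ▸ this.out) h2 (fun r => by
    rw [torChar_zpow, Ne, hζ.zpow_eq_one_iff_dvd]; exact h0 r r.2)
    (F.Y_ne_bot hpf (m := [1, 6, 2, 3, 7, 2]) (by decide +kernel))
    (J := [0, 1, 2, 3, 4]) (v := [2]) (O := [57]) (O' := [64]) (by decide +kernel)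
    (X := [(56, [0, 1, -1, 1, 0, -1], [0, -1, -1, -2, -1, 0]), (46, [0, -1, 1, 0, 1, 0], [0, 1, 0, 1, 0, 0]), (42, [0, 1, 1, 1, -1, 0], [0, -1, 0, -1, 0, 0]), (39, [0, 0, -1, 0, 0, 0], []), (37, [0, -1, 0, 0, -1, 0], [0, 0, 0, 0, 1, 0])]) (by decide +kernel)

/-- A permutation of the roots. -/
def pT19 : List ℕ := [33, 35, 8, 22, 19, 11, 30, 26, 5, 2, 16, 6, 3, 17, 0, 1, 53, 67, 64, 43, 39, 58, 50, 47, 61, 34, 44, 40, 59, 25, 51, 48, 62, 15, 14, 42, 29, 57, 56, 9, 23, 20, 46, 12, 31, 27, 37, 10, 24, 21, 13, 32, 28, 7, 4, 18, 70, 71, 54, 68, 65, 55, 69, 66, 45, 41, 60, 52, 49, 63, 36, 38]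

theorem loc19 {P : Subgroup (twistedE6 K 2)} (hP : IsPGroup 19 P) (hP1 : P ≠ ⊥) :
    ¬ IsCoatom (Subgroup.normalizer (P : Set (twistedE6 K 2))) := by
  have := finite_twE6_two hK
  have : Fact (Nat.Prime 19) := ⟨by norm_num⟩
  obtain ⟨_, _, ζ, π, F, hζ, hpf⟩ := exists_frT hK (l := [3, 4, 2, 3, 0, 2, 1, 3, 4, 2, 3, 0, 2, 1, 3, 0])
    (T := pT19) (by decide +kernel) 19 (by norm_num)
  have h0 : ∀ r < chevE6.nroots, ¬ ((19 : ℕ) : ℤ) ∣ rval chevE6 [10, 17, 9, 1, 15, 1] r := by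
    decide +kernel
  obtain ⟨x, h1, h2⟩ := F.exists_prime hpf (by norm_num) hζ (m := [10, 17, 9, 1, 15, 1])
    (by decide +kernel)
  refine not_isCoatom_of_zpowers h1 (by rw [card_twE6_two hK]; norm_num) ?_ hP hP1
  exact F.not_isCoatom_three hpf (h1 ▸ this.out) h2 (fun r => by
    rw [torChar_zpow, Ne, hζ.zpow_eq_one_iff_dvd]; exact h0 r r.2)
    (F.Y_ne_bot hpf (m := [0, 0, 0, 0, 3, 6]) (by decide +kernel))
    (J := [0, 2]) (v := [2]) (r1 := 57) (r2 := 71) (r3 := 38)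
    (X := [(56, [0, -1, -1, 1, -1, 0], [1, 1, 1, 0, 1, 0]), (42, [0, 0, 1, 1, 1, 0], []), (57, [0, -1, 0, -1, 0, 0], []), (71, [0, 1, -1, 1, -1, 1], [1, 1, 2, 1, 1, 0]), (38, [0, 1, 1, -1, -1, 1], [0, -1, 0, 0, 0, 0])])
    (by decide +kernel) (by decide +kernel)

/-- A permutation of the roots. -/
def pT11 : List ℕ := [0, 2, 5, 1, 16, 9, 4, 20, 7, 23, 18, 12, 34, 27, 31, 36, 8, 3, 19, 6, 22, 17, 10, 25, 21, 24, 11, 33, 26, 30, 14, 39, 29, 15, 43, 13, 58, 28, 56, 42, 32, 57, 41, 45, 38, 60, 47, 50, 46, 61, 54, 49, 65, 52, 68, 63, 35, 40, 44, 37, 59, 53, 48, 64, 51, 67, 62, 55, 70, 66, 69, 71]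

theorem loc11 {P : Subgroup (twistedE6 K 2)} (hP : IsPGroup 11 P) (hP1 : P ≠ ⊥) :
    ¬ IsCoatom (Subgroup.normalizer (P : Set (twistedE6 K 2))) := by
  have := finite_twE6_two hK
  have : Fact (Nat.Prime 11) := ⟨by norm_num⟩
  obtain ⟨_, _, ζ, π, F, hζ, hpf⟩ := exists_frT hK (l := [5, 3, 2])
    (T := pT11) (by decide +kernel) 11 (by norm_num)
  have h0 : ∀ r < chevE6.nroots, ((11 : ℕ) : ℤ) ∣ rval chevE6 [2, 0, 8, 8, 5, 1] r ↔ r ∈ [0, 71] := by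
    decide +kernel
  obtain ⟨x, h1, h2⟩ := F.exists_prime hpf (by norm_num) hζ (m := [2, 0, 8, 8, 5, 1])
    (by decide +kernel)
  refine not_isCoatom_of_zpowers h1 (by rw [card_twE6_two hK]; norm_num) ?_ hP hP1
  exact F.not_isCoatom_sing hpf (h1 ▸ this.out) h2 (fun r => by
    rw [torChar_zpow, hζ.zpow_eq_one_iff_dvd]; exact h0 r r.2)
    (J := [0, 2, 3, 4, 5]) (v := [4, 5]) (O := [43]) (O' := [60]) (by decide +kernel)
    (by decide +kernel)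

/-- A permutation of the roots. -/
def pT49 : List ℕ := [30, 33, 22, 16, 5, 35, 26, 11, 17, 6, 1, 19, 8, 2, 0, 3, 67, 61, 50, 57, 42, 31, 62, 51, 46, 32, 58, 43, 34, 23, 64, 53, 47, 59, 44, 56, 15, 27, 12, 24, 18, 7, 48, 37, 28, 13, 39, 25, 20, 9, 40, 29, 14, 21, 10, 4, 68, 71, 69, 63, 52, 70, 65, 54, 60, 45, 36, 66, 55, 49, 38, 41]

/-- A permutation of the roots. -/
def pT7 (b : Bool) : List ℕ := if b then [36, 38, 18, 60, 63, 4, 41, 49, 20, 27, 65, 21, 28, 66, 56, 29, 7, 45, 52, 23, 31, 68, 9, 12, 54, 34, 24, 32, 69, 57, 10, 13, 55, 0, 1, 25, 46, 70, 71, 16, 58, 61, 14, 2, 39, 47, 37, 17, 59, 62, 3, 40, 48, 19, 26, 64, 42, 15, 5, 43, 50, 6, 44, 51, 22, 30, 67, 8, 11, 53, 33, 35]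
  else [46, 71, 49, 52, 63, 47, 50, 61, 12, 27, 31, 54, 65, 68, 36, 34, 48, 51, 62, 13, 28, 32, 11, 26, 30, 1, 55, 66, 69, 38, 53, 64, 67, 14, 29, 15, 56, 42, 57, 4, 7, 18, 33, 2, 5, 16, 70, 41, 45, 60, 39, 43, 58, 9, 20, 23, 37, 35, 3, 6, 17, 40, 44, 59, 10, 21, 24, 8, 19, 22, 0, 25]

/-- The roots vanishing on an element of order seven. -/
def van7 (b : Bool) : List ℕ := if b then [0, 1, 25, 33, 34, 35, 36, 37, 38, 46, 70, 71] else [0, 1, 25, 46, 70, 71]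

/-- Values of the roots on a cocharacter. -/
def vT1 : List ℕ := [2, 4, 1, 0, 0, 0, 6, 6, 3, 3, 2, 5, 5, 4, 1, 0, 0, 6, 6, 3, 3, 2, 2, 2, 1, 5, 5, 5, 4, 1, 4, 4, 3, 1, 1, 0, 0, 6, 6, 4, 3, 3, 6, 3, 2, 2, 2, 6, 5, 5, 5, 4, 4, 1, 1, 0, 0, 6, 3, 2, 2, 5, 4, 4, 1, 1, 0, 0, 0, 6, 3, 5]

/-- Values of the roots on a cocharacter. -/
def vT2 : List ℕ := [4, 3, 1, 3, 2, 4, 6, 5, 4, 3, 5, 3, 2, 4, 2, 5, 6, 1, 0, 6, 5, 0, 2, 1, 3, 1, 5, 4, 6, 4, 1, 0, 2, 6, 5, 1, 6, 2, 1, 5, 0, 6, 3, 1, 3, 2, 6, 4, 6, 5, 0, 2, 1, 0, 6, 1, 2, 5, 3, 5, 4, 2, 4, 3, 2, 1, 3, 5, 4, 6, 4, 3]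

/-- Conjugating words. -/
def tab7 : List (List ℕ × List ℕ × Bool) := [([5, 3, 0, 2, 1, 3, 0, 2], [2, 16, 5, 34, 33, 0, 20, 19, 9, 8, 39, 23, 22, 58, 43, 25, 1, 27, 26, 12, 11, 47, 4, 3, 29, 14, 31, 30, 61, 50, 18, 17, 56, 7, 6, 36, 35, 65, 64, 15, 54, 53, 21, 10, 41, 40, 57, 42, 68, 67, 24, 60, 59, 45, 44, 70, 46, 28, 13, 49, 48, 32, 63, 62, 52, 51, 71, 38, 37, 66, 55, 69], true),
  ([5, 3, 4, 2, 1, 0], [2, 0, 9, 5, 8, 20, 16, 19, 34, 39, 33, 23, 25, 22, 43, 58, 4, 1, 3, 12, 14, 11, 27, 29, 26, 47, 7, 10, 6, 15, 18, 21, 17, 36, 41, 31, 40, 30, 35, 54, 50, 53, 56, 65, 61, 64, 24, 45, 42, 44, 60, 57, 59, 68, 70, 67, 13, 28, 49, 46, 48, 38, 32, 37, 52, 55, 51, 63, 66, 62, 71, 69], true),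
  ([3, 2, 1, 3, 4, 5, 3, 2, 1, 3, 4, 0, 2, 0], [8, 11, 53, 33, 35, 15, 5, 6, 43, 44, 22, 50, 51, 30, 67, 42, 14, 2, 3, 39, 40, 19, 9, 10, 0, 25, 47, 48, 26, 64, 12, 13, 1, 54, 55, 34, 37, 16, 17, 70, 58, 59, 7, 45, 23, 24, 46, 71, 61, 62, 52, 31, 32, 68, 69, 57, 29, 4, 41, 20, 21, 49, 27, 28, 65, 66, 56, 36, 38, 18, 60, 63], false),
  ([5, 3, 4, 2, 3, 0], [0, 9, 2, 5, 8, 20, 23, 25, 16, 19, 22, 34, 39, 43, 33, 58, 4, 7, 10, 1, 3, 6, 18, 21, 24, 17, 12, 14, 15, 11, 36, 41, 45, 27, 29, 31, 40, 42, 44, 26, 30, 35, 60, 56, 57, 59, 54, 47, 50, 53, 65, 68, 70, 61, 64, 67, 13, 38, 28, 32, 37, 49, 52, 55, 46, 48, 51, 63, 66, 69, 62, 71], true),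
  ([3, 2, 1, 3, 4, 5, 2, 1, 3, 4, 2, 3, 1, 0], [15, 5, 11, 8, 6, 50, 43, 42, 53, 51, 44, 33, 30, 22, 35, 67, 12, 9, 7, 14, 13, 10, 54, 52, 45, 55, 2, 1, 0, 3, 34, 31, 23, 47, 46, 39, 32, 25, 24, 48, 40, 37, 68, 71, 70, 69, 16, 26, 19, 17, 61, 58, 57, 64, 62, 59, 4, 36, 49, 41, 38, 27, 20, 18, 29, 28, 21, 65, 63, 60, 66, 56], false),
  ([3, 2, 1, 3, 4, 5, 0, 2, 1, 3, 2, 0], [5, 33, 8, 43, 22, 11, 50, 30, 15, 6, 42, 53, 35, 67, 44, 51, 2, 34, 16, 9, 0, 23, 12, 1, 31, 7, 39, 19, 58, 25, 47, 26, 61, 14, 3, 54, 17, 68, 57, 10, 45, 24, 46, 13, 52, 32, 64, 40, 70, 59, 48, 71, 62, 55, 37, 69, 20, 27, 4, 36, 18, 29, 65, 56, 41, 21, 60, 49, 28, 63, 38, 66], false),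
  ([5, 3, 4, 2, 1, 3, 1, 0], [9, 2, 0, 5, 8, 20, 34, 39, 23, 25, 43, 16, 19, 33, 22, 58, 4, 12, 14, 7, 10, 15, 36, 41, 54, 45, 1, 3, 11, 6, 27, 29, 47, 18, 21, 31, 40, 50, 53, 24, 42, 44, 65, 60, 68, 70, 26, 17, 30, 35, 56, 61, 64, 57, 59, 67, 13, 49, 38, 52, 55, 28, 46, 48, 32, 37, 51, 63, 66, 71, 69, 62], true),
  ([3, 2, 1, 3, 4, 5, 1, 3, 0, 2, 1, 0], [8, 5, 33, 43, 22, 11, 15, 6, 53, 35, 44, 50, 30, 42, 67, 51, 2, 9, 0, 39, 19, 25, 14, 3, 10, 40, 34, 16, 23, 58, 12, 1, 7, 47, 26, 54, 17, 45, 24, 64, 70, 59, 13, 48, 55, 37, 31, 61, 68, 57, 46, 52, 32, 71, 62, 69, 20, 4, 29, 41, 21, 27, 36, 18, 65, 56, 60, 49, 28, 38, 66, 63], false)]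

omit hK in
theorem tab7_1 : ∀ x ∈ tab7, (∀ i ∈ x.1, i < 6) ∧
    (∀ r < 72, x.1.foldr chevE6.reflectRoot r = tbl x.2.1 r) ∧
    ∀ r < 72, tbl pT49 r < 72 ∧ tbl x.2.1 (tbl pT49 r) = tbl (pT7 x.2.2) (tbl x.2.1 r) := by
  decide +kernel

omit hK in
theorem tab7_2 : ∀ a < (7 : ℕ), ∀ b < (7 : ℕ), (a = 0 ∧ b = 0) ∨ ∃ x ∈ tab7, ∀ r < 72,
    7 ∣ tbl vT1 r * a + tbl vT2 r * b ↔ tbl x.2.1 r ∈ van7 x.2.2 := by decide +kernel

omit hK in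
theorem tab7_3 : ∀ r < 72, (7 : ℤ) ∣ rval chevE6 [0, 5, 0, 1, 0, 0] r - tbl vT1 r ∧
    (7 : ℤ) ∣ rval chevE6 [0, 3, 5, 0, 1, 0] r - tbl vT2 r ∧ ¬ (7 ∣ tbl vT1 r ∧ 7 ∣ tbl vT2 r) := by
  decide +kernel

theorem loc7 {P : Subgroup (twistedE6 K 2)} (hP : IsPGroup 7 P) (hP1 : P ≠ ⊥) :
    ¬ IsCoatom (Subgroup.normalizer (P : Set (twistedE6 K 2))) := by
  have := finite_twE6_two hK
  have h7 : Fact (Nat.Prime 7) := ⟨by norm_num⟩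
  obtain ⟨_, _, ζ, π, F, hζ, hpf⟩ := exists_frT hK (l := [2, 3, 0, 2, 1, 3, 4, 2, 3, 0, 2, 1, 3, 0, 2, 0])
    (T := pT49) (by decide +kernel) 7 (by norm_num)
  obtain ⟨x, x1, x2⟩ := F.exists_prime hpf (by norm_num) hζ (m := [0, 5, 0, 1, 0, 0])
    (by decide +kernel)
  obtain ⟨y, y1, y2⟩ := F.exists_prime hpf (by norm_num) hζ (m := [0, 3, 5, 0, 1, 0])
    (by decide +kernel)
  have h1 : ∀ a b : ℕ, ∃ c, F.j (x ^ a * y ^ b) = cE6.tg _ c ∧ ∀ r < 72,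
      torChar chevE6 c r = 1 ↔ 7 ∣ tbl vT1 r * a + tbl vT2 r * b := fun a b => by
    refine ⟨_, by rw [map_mul, map_pow, map_pow, x2, y2, ← map_pow, ← map_pow, ← map_mul],
      fun r hr => ?_⟩
    obtain ⟨⟨u, e1⟩, ⟨v, e2⟩, -⟩ := tab7_3 r hr
    rw [torChar_mul, torChar_pow, torChar_pow, torChar_zpow, torChar_zpow, ← zpow_natCast,
      ← zpow_natCast, ← zpow_mul, ← zpow_mul, ← zpow_add, hζ.zpow_eq_one_iff_dvd,
      eq_add_of_sub_eq e1, eq_add_of_sub_eq e2, ← Int.natCast_dvd_natCast, show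
      (7 * u + tbl vT1 r) * a + (7 * v + tbl vT2 r) * b =
        (7 : ℕ) * (u * a + v * b) + ((tbl vT1 r * a + tbl vT2 r * b : ℕ) : ℤ) by push_cast; ring,
      dvd_add_right (dvd_mul_right _ _)]
  have h2 : ∀ {z w : twistedE6 K 2}, orderOf z = 7 → w ∈ Subgroup.zpowers z → ∃ a < 7, z ^ a = w :=
    fun e hw => by classical simpa [e] using mem_zpowers_iff_mem_range_orderOf.1 hw
  have hc : Commute x y := F.inj (by
    rw [map_mul, map_mul, x2, y2, ← map_mul, ← map_mul, mul_comm])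
  let f := MonoidHom.noncommCoprod (Subgroup.zpowers x).subtype (Subgroup.zpowers y).subtype (by
    rintro ⟨_, a, rfl⟩ ⟨_, b, rfl⟩; exact hc.zpow_zpow a b)
  have h3 : ∀ z ∈ f.range, ∃ a < 7, ∃ b < 7, x ^ a * y ^ b = z := by
    rintro _ ⟨⟨u, v⟩, rfl⟩
    obtain ⟨a, ha, e1⟩ := h2 x1 u.2
    obtain ⟨b, hb, e2⟩ := h2 y1 v.2
    exact ⟨a, ha, b, hb, by rw [e1, e2]; rfl⟩
  have h4 : Nat.card f.range = 7 ^ 2 := by
    rw [← Nat.card_congr (f.ofInjective ((injective_iff_map_eq_one f).2 ?_)).toEquiv, Nat.card_prod,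
      Nat.card_zpowers, Nat.card_zpowers, x1, y1, sq]
    rintro ⟨u, v⟩ e
    obtain ⟨a, ha, e1⟩ := h2 x1 u.2
    obtain ⟨b, hb, e2⟩ := h2 y1 v.2
    obtain ⟨c, e3, e4⟩ := h1 a b
    rw [e1, e2, show u.1 * v.1 = 1 from e, map_one, eq_comm] at e3
    have e5 := fun r hr => (e4 r hr).1 ((cE6.commute_tg_iff (r := ⟨r, hr⟩)).1 fun z _ => by
      rw [e3]; exact Commute.one_left z)
    have e6 := e5 18 (by norm_num)
    have e7 := e5 3 (by norm_num)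
    simp only [tbl, vT1, vT2, List.getD_cons_succ, List.getD_cons_zero] at e6 e7
    obtain rfl : a = 0 := by omega
    obtain rfl : b = 0 := by omega
    exact Prod.ext (Subtype.ext (e1.symm.trans (pow_zero x))) (Subtype.ext (e2.symm.trans (pow_zero y)))
  refine not_isCoatom_of_le (p := 7) (M := f.range) (fun e => ?_) (fun Q hQ hQ1 => ?_) hP hP1
  · have := mul_dvd_mul_left (7 ^ 2) e
    rw [← h4, Subgroup.card_mul_index, h4, card_twE6_two hK] at this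
    norm_num at this
  obtain ⟨i, hi, e⟩ := (Nat.dvd_prime_pow h7.out).1 (h4 ▸ Subgroup.card_dvd_of_le hQ)
  interval_cases i
  · exact absurd (Subgroup.card_eq_one.1 e) hQ1
  · obtain ⟨z, hz, hz1⟩ := Q.bot_or_exists_ne_one.resolve_left hQ1
    obtain ⟨a, ha, b, hb, rfl⟩ := h3 z (hQ hz)
    obtain ⟨c, e1, e2⟩ := h1 a b
    have e3 := eq_of_le_of_card_prime (e ▸ h7.out) (Subgroup.zpowers_le.2 hz) (by simpa using hz1)
    have e4 : (orderOf (x ^ a * y ^ b)).Prime := by rw [← Nat.card_zpowers, e3, e]; exact h7.out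
    obtain ⟨t, ht, e5⟩ := (tab7_2 a ha b hb).resolve_left (by rintro ⟨rfl, rfl⟩; simp at hz1)
    obtain ⟨t1, t2, t3⟩ := tab7_1 t ht
    obtain ⟨π', F', v, v1, v2, v3⟩ := F.exists_move hpf (pf' := tbl (pT7 t.2.2)) ⟨t1, fun r hr => by
      rw [t2 r hr, t2 _ (t3 r hr).1, (t3 r hr).2]⟩
    obtain ⟨d, d1, d2⟩ := v3 _ c e1
    have d3 : ∀ r : Fin chevE6.nroots, torChar chevE6 d r = 1 ↔ r.1 ∈ van7 t.2.2 := fun r => by
      obtain ⟨r, rfl⟩ := v.surjective r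
      rw [d2, e2 r r.2, e5 r r.2, v2, t2 r r.2]
    rw [← e3]
    obtain ⟨_, _, _ | _⟩ := t
    · exact F'.not_isCoatom_sing (pf := tbl (pT7 false)) (L := van7 false) v1 e4 d1 d3
        (J := [0, 2, 4, 5]) (v := [5, 2])
        (O := [36, 57]) (O' := [38, 56]) (by decide +kernel) (by decide +kernel)
    · exact F'.not_isCoatom_sing (pf := tbl (pT7 true)) (L := van7 true) v1 e4 d1 d3
        (J := [0, 2]) (v := [2, 0])
        (O := [42]) (O' := [57]) (by decide +kernel) (by decide +kernel)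
  obtain rfl : Q = f.range := Subgroup.eq_of_le_of_card_ge hQ (by rw [e, h4])
  have : Fact (Nat.Prime 13) := ⟨by norm_num⟩
  refine F.not_isCoatom_odd hpf hQ1 (fun z hz => ?_) (fun r hr => ?_)
    (F.Y_ne_bot hpf (m := [0, 3, 3, 6, 6, 6]) (by decide +kernel)) (q := 13) (by norm_num) (by norm_num)
    (fun d hd => ?_) (by rw [show Nat.card cE6.S.W = _ from card_W_E6 (isCartan_E6 cE6)]; norm_num) (e := 6) (by norm_num)
    (J := [1, 2, 3, 4]) (v := [4, 1]) (m := [0, 2, 11, 8, 1, 0])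
    (X := [(46, [0, 0, 0, -1, 0, 0], []), (42, [0, -1, 0, -1, -1, 0], []), (39, [0, 1, 0, 1, 0, 0], []), (37, [0, 0, 1, 1, 1, 0], [])]) (by decide +kernel) (by decide +kernel)
  · obtain ⟨a, -, b, -, rfl⟩ := h3 z hz
    obtain ⟨c, e1, -⟩ := h1 a b
    exact e1 ▸ tg_mem_H c
  · have h5 : ∀ a b : ℕ, 7 ∣ tbl vT1 r * a + tbl vT2 r * b := fun a b => by
      obtain ⟨c, e1, e2⟩ := h1 a b
      exact (e2 r r.2).1 (cE6.commute_tg_iff.1 (e1 ▸ hr _ ⟨_, ⟨(⟨_, a, zpow_natCast x a⟩,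
        ⟨_, b, zpow_natCast y b⟩), rfl⟩, rfl⟩))
    exact (tab7_3 r r.2).2.2 ⟨by simpa using h5 1 0, by simpa using h5 0 1⟩
  · rw [h4] at hd ⊢
    obtain ⟨i, hi, rfl⟩ := (Nat.dvd_prime_pow h7.out).1 hd
    interval_cases i <;> decide

end Cfsg.Agent.H34
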